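import Cfsg.Agent.ClassicalMax.SympThree.Weyl

/-!
The normaliser of the Weyl matrices in dimension three is generated by them, the involution, the quadratic phase and
the Fourier matrix, up to scalars.
-/

set_option autoImplicit false

namespace Cfsg.Agent.ClassicalMax.SympThree

open Matrix

variable {F : Type*} [Field F]

/-- coefficients of linear maps of the pairs of indices: images of the two basis pairs -/
abbrev M2 := (Z3 × Z3) × (Z3 × Z3)

/-- the map of pairs -/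
def app (m : M2) (a b : Z3) : Z3 × Z3 := (m.1.1 * a + m.2.1 * b, m.1.2 * a + m.2.2 * b)

/-- composition -/
def comp (m n : M2) : M2 := (app m n.1.1 n.1.2, app m n.2.1 n.2.2)

/-- determinant -/
def det2 (m : M2) : Z3 := m.1.1 * m.2.2 - m.2.1 * m.1.2

/-- identity, involution, phase, Fourier -/
def m1 : M2 := ((1, 0), (0, 1))
/-- involution -/
def mT : M2 := ((-1, 0), (0, -1))
/-- phase -/
def mP : M2 := ((1, 0), (1, 1))
/-- Fourier -/
def mF : M2 := ((0, -1), (1, 0))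

/-- short words -/
def word (e f : Bool) (x y : Z3) : M2 :=
  comp (if e then mT else m1) (comp ((comp mP)^[x.val] m1) (comp (if f then mF else m1) ((comp mP)^[y.val] m1)))

theorem exists_word : ∀ m : M2, det2 m = 1 → ∃ e f : Bool, ∃ x y : Z3, word e f x y = m := by decide +kernel

theorem exists_to_first : ∀ a b : Z3, (a ≠ 0 ∨ b ≠ 0) → ∃ m : M2, det2 m = 1 ∧ app m a b = (1, 0) := by
  decide +kernel

theorem exists_from_first : ∀ a b : Z3, (a ≠ 0 ∨ b ≠ 0) → ∃ m : M2, det2 m = 1 ∧ app m 1 0 = (a, b) := by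
  decide +kernel

namespace Root

variable (K : Root F)

/-- the generated group -/
def gens : Subgroup (GL Z3 F) := Subgroup.closure {K.W 1 0, K.W 0 1, T, K.P, K.Fr}

/-- the effect on the Weyl matrices up to scalars -/
def Img (k : GL Z3 F) (m : M2) : Prop :=
  ∀ a b, ∃ c : Fˣ, k * K.W a b * k⁻¹ = sc c * K.W (app m a b).1 (app m a b).2

theorem gens_W (a b : Z3) : ∃ u : Fˣ, sc u * K.W a b ∈ K.gens := by
  have h1 : K.W 1 0 ∈ K.gens := Subgroup.subset_closure (by simp)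
  have h2 : K.W 0 1 ∈ K.gens := Subgroup.subset_closure (by simp)
  have hs : ∀ a' b' : Z3, (∃ u : Fˣ, sc u * K.W a' b' ∈ K.gens) →
      (∃ u : Fˣ, sc u * K.W (a' + 1) b' ∈ K.gens) ∧ (∃ u : Fˣ, sc u * K.W a' (b' + 1) ∈ K.gens) := by
    rintro a' b' ⟨u, hu⟩
    refine ⟨⟨u * K.e (-(1 * b')), ?_⟩, ⟨u * K.e (-(0 * b')), ?_⟩⟩
    · have := mul_mem hu h1
      rw [mul_assoc, K.W_mul, add_zero, ← mul_assoc, ← map_mul] at this
      exact this
    · have := mul_mem hu h2
      rw [mul_assoc, K.W_mul, add_zero, ← mul_assoc, ← map_mul] at this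
      exact this
  have h0 : ∃ u : Fˣ, sc u * K.W 0 0 ∈ K.gens := ⟨1, by rw [map_one, one_mul, K.W_zero]; exact one_mem _⟩
  have ha : ∀ n : ℕ, ∃ u : Fˣ, sc u * K.W (n : Z3) 0 ∈ K.gens := fun n => by
    induction n with
    | zero => simpa using h0
    | succ n ih => rw [Nat.cast_succ]; exact (hs _ _ ih).1
  have hb : ∀ n : ℕ, ∃ u : Fˣ, sc u * K.W a (n : Z3) ∈ K.gens := fun n => by
    induction n with
    | zero => simpa using ha a.val
    | succ n ih => rw [Nat.cast_succ]; exact (hs _ _ ih).2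
  simpa using hb b.val

theorem Img.mul {k k' : GL Z3 F} {m m' : M2} (h : K.Img k m) (h' : K.Img k' m') : K.Img (k * k') (comp m m') := by
  intro a b
  obtain ⟨c, e1⟩ := h' a b
  obtain ⟨d, e2⟩ := h (app m' a b).1 (app m' a b).2
  refine ⟨c * d, ?_⟩
  have e3 : app (comp m m') a b = app m (app m' a b).1 (app m' a b).2 := by
    simp only [app, comp, Prod.mk.injEq]; constructor <;> ring
  rw [e3, map_mul, mul_assoc (sc c), ← e2, ← conj_sc_mul, ← e1]
  group

theorem img_one : K.Img 1 m1 := fun a b => ⟨1, by simp [app, m1]⟩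
theorem img_T : K.Img T mT := fun a b => ⟨1, by simp [app, mT, K.T_conj]⟩
theorem img_P : K.Img K.P mP := fun a b => ⟨K.e (ph 0 - ph (-b)), by simp [app, mP, K.P_conj]⟩
theorem img_Fr : K.Img K.Fr mF := fun a b => ⟨K.e (a * b), by simp [app, mF, K.Fr_conj]⟩

/-- every determinant one effect occurs -/
theorem exists_img {m : M2} (hm : det2 m = 1) : ∃ g ∈ K.gens, K.Img g m := by
  obtain ⟨e, f, x, y, rfl⟩ := exists_word m hm
  have hT : (T : GL Z3 F) ∈ K.gens := Subgroup.subset_closure (by simp)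
  have hP : K.P ∈ K.gens := Subgroup.subset_closure (by simp)
  have hF : K.Fr ∈ K.gens := Subgroup.subset_closure (by simp)
  have key : ∀ n : ℕ, ∃ g ∈ K.gens, K.Img g ((comp mP)^[n] m1) := fun n => by
    induction n with
    | zero => exact ⟨1, one_mem _, K.img_one⟩
    | succ n ih =>
      obtain ⟨g, hg, h⟩ := ih
      exact ⟨K.P * g, mul_mem hP hg, by rw [Function.iterate_succ_apply']; exact K.img_P.mul K h⟩
  obtain ⟨g1, h1, i1⟩ : ∃ g ∈ K.gens, K.Img g (if e then mT else m1) := by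
    cases e
    exacts [⟨1, one_mem _, K.img_one⟩, ⟨T, hT, K.img_T⟩]
  obtain ⟨g3, h3, i3⟩ : ∃ g ∈ K.gens, K.Img g (if f then mF else m1) := by
    cases f
    exacts [⟨1, one_mem _, K.img_one⟩, ⟨K.Fr, hF, K.img_Fr⟩]
  obtain ⟨g2, h2, i2⟩ := key x.val
  obtain ⟨g4, h4, i4⟩ := key y.val
  exact ⟨g1 * (g2 * (g3 * g4)), mul_mem h1 (mul_mem h2 (mul_mem h3 h4)), i1.mul K (i2.mul K (i3.mul K i4))⟩

/-- a normalising element is a scalar multiple of a generated one -/
theorem exists_gen {k : GL Z3 F} (hk : K.Nor k) : ∃ (u : Fˣ) (g : GL Z3 F), g ∈ K.gens ∧ k = sc u * g := by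
  obtain ⟨c, a1, b1, e1⟩ := hk 1 0
  obtain ⟨d, a2, b2, e2⟩ := hk 0 1
  have hdet : det2 ((a1, b1), (a2, b2)) = 1 := by
    have h : sc (K.e 1) * (sc c * K.W a1 b1 * (sc d * K.W a2 b2))⁻¹ = sc (K.e (det2 ((a1, b1), (a2, b2)))) *
        (sc c * K.W a1 b1 * (sc d * K.W a2 b2))⁻¹ := by
      have hc := congrArg (fun g => k * g * k⁻¹) (K.W_comm 1 0 0 1)
      simp only [conj_sc_mul, show (1 : Z3) * 1 - 0 * 0 = 1 by ring] at hc
      rw [show k * (K.W 1 0 * K.W 0 1) * k⁻¹ = k * K.W 1 0 * k⁻¹ * (k * K.W 0 1 * k⁻¹) by group,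
        show k * (K.W 0 1 * K.W 1 0) * k⁻¹ = k * K.W 0 1 * k⁻¹ * (k * K.W 1 0 * k⁻¹) by group, e1, e2] at hc
      have hw : sc c * K.W a1 b1 * (sc d * K.W a2 b2) =
          sc (K.e (det2 ((a1, b1), (a2, b2)))) * (sc d * K.W a2 b2 * (sc c * K.W a1 b1)) := by
        have h1 : ∀ (c d : Fˣ) (x y : GL Z3 F), sc c * x * (sc d * y) = sc (c * d) * (x * y) := fun c d x y => by
          rw [map_mul, mul_assoc, ← mul_assoc x, ← sc_comm d x]; simp only [mul_assoc]
        rw [h1, h1, K.W_comm a1 b1 a2 b2]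
        simp only [← mul_assoc, ← map_mul]
        rw [mul_assoc (K.e (det2 _)), mul_comm d c, mul_comm (K.e (det2 _))]
        rfl
      have h2 := hc.symm.trans hw
      have h3 := mul_right_cancel h2
      rw [h3]
    have h4 := mul_right_cancel h
    have h5 : K.e 1 = K.e (det2 ((a1, b1), (a2, b2))) := by
      have := congrArg (fun g : GL Z3 F => (g : Matrix Z3 Z3 F) 0 0) h4
      simp only [sc_val, Matrix.smul_apply, Matrix.one_apply_eq, smul_eq_mul, mul_one] at this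
      exact Units.ext this
    exact (K.e_inj h5).symm
  obtain ⟨g, hg, hi⟩ := K.exists_img hdet
  have hcen : ∀ a b c0 a0 b0, k * K.W a b * k⁻¹ = sc c0 * K.W a0 b0 → app ((a1, b1), (a2, b2)) a b = (a0, b0) →
      ∃ u : Fˣ, g⁻¹ * k * K.W a b * (g⁻¹ * k)⁻¹ = sc u * K.W a b := by
    intro a b c0 a0 b0 e hap
    obtain ⟨w, hw⟩ := hi a b
    rw [hap] at hw
    refine ⟨c0 * w⁻¹, ?_⟩
    calc g⁻¹ * k * K.W a b * (g⁻¹ * k)⁻¹ = g⁻¹ * (k * K.W a b * k⁻¹) * g := by group
      _ = g⁻¹ * (sc c0 * ((sc w)⁻¹ * (sc w * K.W a0 b0))) * g := by rw [e, inv_mul_cancel_left]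
      _ = g⁻¹ * (sc (c0 * w⁻¹) * (g * K.W a b * g⁻¹)) * g := by rw [hw, map_mul, map_inv, mul_assoc (sc c0)]
      _ = _ := by rw [← mul_assoc g⁻¹, ← sc_comm]; group
  obtain ⟨u1, h1⟩ := hcen 1 0 c a1 b1 e1 (by simp [app])
  obtain ⟨u2, h2⟩ := hcen 0 1 d a2 b2 e2 (by simp [app])
  obtain ⟨u, a, b, e⟩ := K.centr h1 h2
  obtain ⟨w, hw⟩ := K.gens_W a b
  refine ⟨u * w⁻¹, g * (sc w * K.W a b), mul_mem hg hw, ?_⟩
  rw [inv_mul_eq_iff_eq_mul] at e
  rw [e, map_mul, map_inv, ← mul_assoc g, ← mul_assoc g, ← sc_comm u g, ← sc_comm w g]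
  group

theorem nor_inv {k : GL Z3 F} (h : K.Nor k) : K.Nor k⁻¹ := by
  choose c a' b' hc using h
  have hinj : Function.Injective fun v : Z3 × Z3 => (a' v.1 v.2, b' v.1 v.2) := by
    intro v w e
    simp only [Prod.mk.injEq] at e
    have h1 : K.W v.1 v.2 = sc (c v.1 v.2 * (c w.1 w.2)⁻¹) * K.W w.1 w.2 := by
      have h2 : k * K.W v.1 v.2 * k⁻¹ = k * (sc (c v.1 v.2 * (c w.1 w.2)⁻¹) * K.W w.1 w.2) * k⁻¹ := by
        rw [conj_sc_mul, hc, hc, e.1, e.2, ← mul_assoc, ← map_mul, inv_mul_cancel_right]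
      exact mul_left_cancel (mul_right_cancel h2)
    exact Prod.ext (K.W_inj h1).1 (K.W_inj h1).2
  intro a b
  obtain ⟨⟨a0, b0⟩, e⟩ := (Finite.injective_iff_surjective.1 hinj) (a, b)
  simp only [Prod.mk.injEq] at e
  refine ⟨(c a0 b0)⁻¹, a0, b0, ?_⟩
  have h1 := hc a0 b0
  rw [e.1, e.2] at h1
  rw [show K.W a b = sc (c a0 b0)⁻¹ * (k * K.W a0 b0 * k⁻¹) by rw [h1, ← mul_assoc, ← map_mul, inv_mul_cancel, map_one, one_mul],
    conj_sc_mul]
  group

/-- the generators normalise -/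
theorem nor_gens {g : GL Z3 F} (hg : g ∈ K.gens) : K.Nor g := by
  refine Subgroup.closure_induction (p := fun g _ => K.Nor g) ?_ (by simpa [K.W_zero] using K.nor_W 0 0)
    (fun x y _ _ hx hy => K.nor_mul hx hy) (fun x _ hx => ?_) hg
  · intro x hx
    simp only [Set.mem_insert_iff, Set.mem_singleton_iff] at hx
    rcases hx with rfl | rfl | rfl | rfl | rfl
    exacts [K.nor_W _ _, K.nor_W _ _, K.nor_T, K.nor_P, K.nor_Fr]
  · exact K.nor_inv hx

/-- the generators have determinant a power of the root -/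
theorem det_gens {g : GL Z3 F} (hg : g ∈ K.gens) : (g : Matrix Z3 Z3 F).det ^ 3 = 1 := by
  refine Subgroup.closure_induction (p := fun (g : GL Z3 F) _ => (g : Matrix Z3 Z3 F).det ^ 3 = 1) ?_ (by simp)
    (fun x y _ _ hx hy => by rw [Units.val_mul, Matrix.det_mul, mul_pow, hx, hy, one_mul]) (fun x _ hx => ?_) hg
  · intro x hx
    simp only [Set.mem_insert_iff, Set.mem_singleton_iff] at hx
    rcases hx with rfl | rfl | rfl | rfl | rfl
    · rw [K.det_W, one_pow]
    · rw [K.det_W, one_pow]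
    · rw [det_T, one_pow]
    · rw [K.det_P, ← Units.val_pow_eq_pow_val, K.cubeU, Units.val_one]
    · rw [K.det_Fr, one_pow]
  · have h1 : ((x⁻¹ : GL Z3 F) : Matrix Z3 Z3 F).det * (x : Matrix Z3 Z3 F).det = 1 := by
      rw [← Matrix.det_mul, ← Units.val_mul, inv_mul_cancel, Units.val_one, Matrix.det_one]
    have h2 := congrArg (· ^ 3) h1
    simp only [mul_pow, hx, one_pow, mul_one] at h2
    exact h2

end Root

end Cfsg.Agent.ClassicalMax.SympThree
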