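import Cfsg.Agent.ClassicalMax.SympThree.Gens

/-!
Dimension nine: block diagonal matrices, signed permutations, the model of the group of order 243, and the conditions
on an overgroup of its normaliser.
-/

set_option autoImplicit false

namespace Cfsg.Agent.ClassicalMax.SympThree

open Matrix

variable {F : Type*} [Field F]

/-- the nine indices, the block last -/
abbrev I9 := Z3 × Z3

/-- block diagonal matrices -/
def blk : (Z3 → GL Z3 F) →* GL I9 F :=
  (Units.map (blockDiagonalRingHom Z3 Z3 F).toMonoidHom).comp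
    (MulEquiv.piUnits (M := fun _ : Z3 => Matrix Z3 Z3 F)).symm.toMonoidHom

theorem blk_val (f : Z3 → GL Z3 F) (z w : I9) :
    (blk f : Matrix I9 I9 F) z w = if z.2 = w.2 then (f z.2 : Matrix Z3 Z3 F) z.1 w.1 else 0 :=
  blockDiagonal_apply (fun i => (f i : Matrix Z3 Z3 F)) z w

theorem blk_mat (f : Z3 → GL Z3 F) : (blk f : Matrix I9 I9 F) = blockDiagonal fun i => (f i : Matrix Z3 Z3 F) :=
  Matrix.ext fun z w => by rw [blk_val, blockDiagonal_apply]

theorem det_blk (f : Z3 → GL Z3 F) : (blk f : Matrix I9 I9 F).det = ∏ i, (f i : Matrix Z3 Z3 F).det := by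
  rw [blk_mat, det_blockDiagonal]

theorem blk_inj {f g : Z3 → GL Z3 F} (h : blk f = blk g) : f = g := funext fun i => Units.ext (Matrix.ext fun a b => by
  have := congrArg (fun m : GL I9 F => (m : Matrix I9 I9 F) (a, i) (b, i)) h
  simpa [blk_val] using this)

theorem blk_const_sc (c : Fˣ) : blk (fun _ => sc c) = (sc c : GL I9 F) := Units.ext (Matrix.ext fun z w => by
  rw [blk_val, sc_val, sc_val, Matrix.smul_apply, Matrix.smul_apply, Matrix.one_apply, Matrix.one_apply]
  by_cases h : z.2 = w.2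
  · simp [h, Prod.ext_iff]
  · simp [h, Prod.ext_iff])

/-- the constant embedding -/
def dgn : GL Z3 F →* GL I9 F := blk.comp (Pi.constMonoidHom Z3 (GL Z3 F))

theorem dgn_eq (g : GL Z3 F) : dgn g = blk fun _ => g := rfl

/-- signed permutation matrices -/
def smon (π : Equiv.Perm I9) (b : I9 → Bool) : GL I9 F where
  val := Matrix.of fun z w => if z = π w then (if b w then -1 else 1) else 0
  inv := Matrix.of fun z w => if w = π z then (if b z then -1 else 1) else 0
  val_inv := by
    ext z w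
    simp only [Matrix.mul_apply, Matrix.of_apply]
    rw [Finset.sum_eq_single (π.symm z)]
    · rw [if_pos (π.apply_symm_apply z).symm, π.apply_symm_apply, Matrix.one_apply]
      by_cases h : z = w
      · subst h; rw [if_pos rfl, if_pos rfl]; split_ifs <;> simp
      · rw [if_neg (Ne.symm h), mul_zero, if_neg h]
    · intro x _ hx
      rw [if_neg (fun e => hx (by rw [e, π.symm_apply_apply])), zero_mul]
    · exact fun h => absurd (Finset.mem_univ _) h
  inv_val := by
    ext z w
    simp only [Matrix.mul_apply, Matrix.of_apply]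
    rw [Finset.sum_eq_single (π z)]
    · rw [if_pos rfl, Matrix.one_apply]
      by_cases h : z = w
      · subst h; rw [if_pos rfl, if_pos rfl]; split_ifs <;> simp
      · rw [if_neg (fun e => h (π.injective e)), mul_zero, if_neg h]
    · intro x _ hx
      rw [if_neg hx, zero_mul]
    · exact fun h => absurd (Finset.mem_univ _) h

theorem smon_val (π : Equiv.Perm I9) (b : I9 → Bool) (z w : I9) :
    ((smon π b : GL I9 F) : Matrix I9 I9 F) z w = if z = π w then (if b w then -1 else 1) else 0 := rfl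

theorem smon_mul (π π' : Equiv.Perm I9) (b b' : I9 → Bool) :
    (smon π b : GL I9 F) * smon π' b' = smon (π * π') fun w => xor (b (π' w)) (b' w) := Units.ext (Matrix.ext fun z w => by
  rw [Units.val_mul, Matrix.mul_apply, Finset.sum_eq_single (π' w)]
  · rw [smon_val, smon_val, smon_val, if_pos rfl, Equiv.Perm.mul_apply]
    by_cases h : z = π (π' w)
    · rw [if_pos h, if_pos h]; cases b (π' w) <;> cases b' w <;> simp
    · rw [if_neg h, if_neg h, zero_mul]
  · intro x _ hx
    rw [smon_val (π := π'), if_neg hx, mul_zero]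
  · exact fun h => absurd (Finset.mem_univ _) h)

/-- the shift of the blocks -/
def sh : Equiv.Perm I9 := Equiv.prodCongr (Equiv.refl Z3) (Equiv.addRight 1)

/-- the shift of the blocks as a matrix -/
def yy : GL I9 F := smon sh fun _ => false

/-- the interchange of the two indices, negated -/
def sw : GL I9 F := smon (Equiv.prodComm Z3 Z3) fun _ => true

theorem sw_sq : (sw : GL I9 F) * sw = 1 := by
  rw [sw, smon_mul]
  refine Units.ext (Matrix.ext fun z w => ?_)
  simp [smon_val, Matrix.one_apply]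

theorem sw_inv : (sw : GL I9 F)⁻¹ = sw := inv_eq_of_mul_eq_one_right sw_sq

theorem yy_conj (f : Z3 → GL Z3 F) : yy * blk f * (yy : GL I9 F)⁻¹ = blk fun i => f (i - 1) := by
  rw [mul_inv_eq_iff_eq_mul]
  refine Units.ext (Matrix.ext fun z w => ?_)
  rw [Units.val_mul, Units.val_mul, Matrix.mul_apply, Matrix.mul_apply, Finset.sum_eq_single (z.1, z.2 - 1),
    Finset.sum_eq_single (w.1, w.2 + 1)]
  · simp [yy, smon_val, sh, blk_val, sub_eq_iff_eq_add, Prod.map]
  · intro x _ hx
    rw [yy, smon_val, if_neg (fun e => hx (by rw [e]; rfl)), mul_zero]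
  · exact fun h => absurd (Finset.mem_univ _) h
  · intro x _ hx
    rw [yy, smon_val, if_neg (fun e => hx (by rw [e]; simp [sh])), zero_mul]
  · exact fun h => absurd (Finset.mem_univ _) h

theorem sw_conj_val (g : GL I9 F) (z w : I9) :
    ((sw * g * sw : GL I9 F) : Matrix I9 I9 F) z w = (g : Matrix I9 I9 F) (z.2, z.1) (w.2, w.1) := by
  rw [Units.val_mul, Units.val_mul, Matrix.mul_apply, Finset.sum_eq_single (w.2, w.1), Matrix.mul_apply,
    Finset.sum_eq_single (z.2, z.1)]
  · simp [sw, smon_val, Prod.swap]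
  · intro x _ hx
    rw [sw, smon_val, if_neg (fun e => hx (by rw [e]; simp)), zero_mul]
  · exact fun h => absurd (Finset.mem_univ _) h
  · intro x _ hx
    rw [sw, smon_val (w := w), if_neg (fun e => hx (by rw [e]; rfl)), mul_zero]
  · exact fun h => absurd (Finset.mem_univ _) h

namespace Root

variable (K : Root F)

/-- diagonal phase in the zeroth coordinate -/
def Dg (x : Z3) : GL Z3 F where
  val := Matrix.diagonal fun z => if z = 0 then (K.e x : F) else 1
  inv := Matrix.diagonal fun z => if z = 0 then (K.e (-x) : F) else 1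
  val_inv := by
    rw [Matrix.diagonal_mul_diagonal, ← Matrix.diagonal_one]
    exact congrArg _ (funext fun z => by split_ifs <;> simp [K.e_neg])
  inv_val := by
    rw [Matrix.diagonal_mul_diagonal, ← Matrix.diagonal_one]
    exact congrArg _ (funext fun z => by split_ifs <;> simp [K.e_neg])

theorem Dg_val (x z w : Z3) : (K.Dg x : Matrix Z3 Z3 F) z w = if z = w then (if z = 0 then (K.e x : F) else 1) else 0 :=
  Matrix.diagonal_apply _ _ _

theorem Dg_zero : K.Dg 0 = 1 := Units.ext (Matrix.ext fun z w => by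
  rw [Dg_val, Units.val_one, Matrix.one_apply, eval0, ite_self])

/-- the conditions on an overgroup -/
structure Over (H : Subgroup (GL I9 F)) : Prop where
  sl : ∀ g ∈ H, ((g : GL I9 F) : Matrix I9 I9 F).det = 1
  const : ∀ g ∈ K.gens, dgn g ∈ H
  upow : ∀ a b : Z3, blk (fun i => K.W (a * i) (b * i)) ∈ H
  phase : ∀ f : Z3 → Z3, blk (fun i => sc (K.e (f i))) ∈ H
  shift : yy ∈ H
  swap : sw ∈ H

/-- the blocks of the centraliser of the phase normalise the group of order 27, and in characteristic two no block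
carries a reflection on its own -/
structure Small (H : Subgroup (GL I9 F)) : Prop where
  nor : ∀ f : Z3 → GL Z3 F, blk f ∈ H → ∀ i, K.Nor (f i)
  nt : (2 : F) = 0 → blk (Pi.mulSingle (2 : Z3) T) ∉ H

/-- in odd characteristic the blocks decide -/
theorem small_of_nor [NeZero (2 : F)] {H : Subgroup (GL I9 F)}
    (h : ∀ f : Z3 → GL Z3 F, blk f ∈ H → ∀ i, K.Nor (f i)) : K.Small H :=
  ⟨h, fun e => absurd e K.two⟩

theorem comm_iff {g : GL I9 F} (h : g * (blk fun i => sc (K.e i)) = (blk fun i => sc (K.e i)) * g) :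
    ∃ f : Z3 → GL Z3 F, g = blk f := by
  have hX : ((blk fun i => sc (K.e i) : GL I9 F) : Matrix I9 I9 F) = Matrix.diagonal fun z => (K.e z.2 : F) :=
    Matrix.ext fun z w => by
      rw [blk_val, Matrix.diagonal_apply, sc_val, Matrix.smul_apply, Matrix.one_apply, smul_eq_mul]
      by_cases e : z = w
      · subst e; simp
      · rw [if_neg e]
        by_cases e2 : z.2 = w.2
        · rw [if_pos e2, if_neg (fun e1 => e (Prod.ext e1 e2)), mul_zero]
        · rw [if_neg e2]
  have hz : ∀ x : GL I9 F, x * (blk fun i => sc (K.e i)) = (blk fun i => sc (K.e i)) * x → ∀ z w : I9, z.2 ≠ w.2 →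
      (x : Matrix I9 I9 F) z w = 0 := fun x hx z w hne => by
    have e := congrArg (fun m : GL I9 F => (m : Matrix I9 I9 F) z w) hx
    simp only [Units.val_mul, hX, Matrix.mul_diagonal, Matrix.diagonal_mul] at e
    by_contra h0
    exact hne (K.e_val_inj (mul_left_cancel₀ h0 (e.trans (mul_comm _ _)))).symm
  have hi : g⁻¹ * (blk fun i => sc (K.e i)) = (blk fun i => sc (K.e i)) * g⁻¹ := by
    rw [inv_mul_eq_iff_eq_mul, ← mul_assoc, h, mul_inv_cancel_right]
  have key : ∀ x y : GL I9 F, x * (blk fun i => sc (K.e i)) = (blk fun i => sc (K.e i)) * x → x * y = 1 → ∀ i,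
      (Matrix.of fun a b => (x : Matrix I9 I9 F) (a, i) (b, i)) *
        (Matrix.of fun a b => (y : Matrix I9 I9 F) (a, i) (b, i)) = (1 : Matrix Z3 Z3 F) := by
    intro x y hx hxy i
    ext a c
    have e := congrArg (fun m : GL I9 F => (m : Matrix I9 I9 F) (a, i) (c, i)) hxy
    simp only [Units.val_mul, Matrix.mul_apply, Fintype.sum_prod_type, Units.val_one, Matrix.one_apply, Prod.mk.injEq,
      and_true] at e
    rw [Matrix.mul_apply, Matrix.one_apply, ← e]
    refine Finset.sum_congr rfl fun b _ => ?_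
    rw [Finset.sum_eq_single i (fun j _ hj => by rw [hz x hx (a, i) (b, j) (Ne.symm hj), zero_mul]) (by simp)]
    rfl
  refine ⟨fun i => ⟨_, _, key g g⁻¹ h (mul_inv_cancel g) i, key g⁻¹ g hi (inv_mul_cancel g) i⟩,
    Units.ext (Matrix.ext fun z w => ?_)⟩
  rw [blk_val]
  by_cases e : z.2 = w.2
  · rw [if_pos e]
    show _ = (g : Matrix I9 I9 F) (z.1, z.2) (w.1, z.2)
    rw [e]
    exact congrArg₂ _ (Prod.ext rfl e) rfl
  · rw [if_neg e, hz g h z w e]

/-- a single diagonal phase turned by the interchange -/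
theorem sw_single (k : Z3) :
    sw * blk (Pi.mulSingle 0 (sc (K.e k) * K.W 1 0)) * sw = blk fun i => K.Dg (i + k) := by
  refine Units.ext (Matrix.ext fun z w => ?_)
  rw [sw_conj_val, blk_val, blk_val]
  obtain ⟨a, i⟩ := z
  obtain ⟨a', i'⟩ := w
  by_cases ha : a = 0
  · subst ha
    rw [Pi.mulSingle_eq_same, val_sc_mul, Matrix.smul_apply, W_val, add_zero, Dg_val, if_pos rfl, one_mul,
      smul_eq_mul, mul_ite, ← Units.val_mul, ← K.e_add, mul_zero, add_comm k i]
    by_cases h1 : (0 : Z3) = a' <;> by_cases h2 : i = i' <;> simp [h1, h2]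
    all_goals simp_all
  · rw [Pi.mulSingle_eq_of_ne ha, Units.val_one, Matrix.one_apply, Dg_val, if_neg ha]
    by_cases h1 : a = a' <;> by_cases h2 : i = i' <;> simp [h1, h2]

theorem Fr_Dg_val (x z w : Z3) : ((K.Fr * K.Dg x * K.Fr⁻¹ : GL Z3 F) : Matrix Z3 Z3 F) z w =
    (if z = w then 1 else 0) + ((K.e x : F) - 1) * (3 : F)⁻¹ := by
  have h1 : (1 - (K.l : F)) ≠ 0 := sub_ne_zero.2 K.ne_one.symm
  have h3 := K.three
  have hd : (K.Dg x : Matrix Z3 Z3 F) = 1 + Matrix.single 0 0 ((K.e x : F) - 1) := by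
    ext a b
    rw [Dg_val, Matrix.add_apply, Matrix.one_apply, Matrix.single_apply]
    by_cases hab : a = b
    · subst hab
      by_cases ha : a = 0
      · simp [ha]
      · simp [ha, Ne.symm ha]
    · rw [if_neg hab, if_neg hab, if_neg (fun h => hab (h.1.symm.trans h.2)), zero_add]
  rw [Units.val_mul, Units.val_mul, hd, Matrix.mul_add, Matrix.add_mul, Matrix.mul_one, ← Units.val_mul,
    mul_inv_cancel, Units.val_one, Matrix.add_apply, Matrix.one_apply]
  congr 1
  rw [Matrix.mul_apply, Finset.sum_eq_single (0 : Z3) (fun b _ hb => by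
    rw [Matrix.mul_apply, Finset.sum_eq_zero (fun c _ => by
      rw [Matrix.single_apply, if_neg (fun h => hb h.2.symm), mul_zero]), zero_mul]) (by simp),
    Matrix.mul_apply, Finset.sum_eq_single (0 : Z3) (fun b _ hb => by
      rw [Matrix.single_apply, if_neg (fun h => hb h.1.symm), mul_zero]) (by simp),
    Matrix.single_apply_same, Fr_val, mul_zero, eval0]
  show _ * ((3 * (1 - (K.l : F))⁻¹)⁻¹ * K.e (-(0 * w))) = _
  rw [zero_mul, neg_zero, eval0]
  field_simp

/-- the square of the commutator of the two phases -/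
theorem comm_sq : (K.Dg 2 * (K.Fr * K.Dg 1 * K.Fr⁻¹) * (K.Dg 2)⁻¹ * (K.Fr * K.Dg 1 * K.Fr⁻¹)⁻¹) ^ 2 = T := by
  have hi : ∀ x, (K.Dg x)⁻¹ = K.Dg (-x) := fun x => Units.ext rfl
  have hj : (K.Fr * K.Dg 1 * K.Fr⁻¹)⁻¹ = K.Fr * K.Dg 2 * K.Fr⁻¹ := by
    rw [_root_.mul_inv_rev, _root_.mul_inv_rev, inv_inv, hi, ← mul_assoc]
    rfl
  rw [hi, hj, pow_two, show -(2 : Z3) = 1 by decide]
  refine Units.ext (Matrix.ext fun z w => ?_)
  have h3 := K.three
  have hD : ∀ x, (K.Dg x : Matrix Z3 Z3 F) = Matrix.diagonal fun z => if z = 0 then (K.e x : F) else 1 := fun _ => rfl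
  have hsq : (K.l : F) ^ 2 = -K.l - 1 := by linear_combination K.eqn
  have h3' : (K.l : F) ^ 3 = 1 := by linear_combination K.cube
  have h4 : (K.l : F) ^ 4 = K.l := by linear_combination (K.l : F) * h3'
  have h5 : (K.l : F) ^ 5 = (K.l : F) ^ 2 := by linear_combination (K.l : F) ^ 2 * h3'
  have h6 : (K.l : F) ^ 6 = 1 := by linear_combination ((K.l : F) ^ 3 + 1) * h3'
  have hP : ∀ a b a' b', ((K.Dg a * (K.Fr * K.Dg b * K.Fr⁻¹) : GL Z3 F) : Matrix Z3 Z3 F) a' b' =
      (if a' = 0 then (K.e a : F) else 1) * ((if a' = b' then 1 else 0) + ((K.e b : F) - 1) * (3 : F)⁻¹) := by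
    intro a b a' b'
    rw [Units.val_mul, hD, Matrix.diagonal_mul, Fr_Dg_val]
  have hQ : ∀ a' b', ((K.Dg 2 * (K.Fr * K.Dg 1 * K.Fr⁻¹) * K.Dg 1 * (K.Fr * K.Dg 2 * K.Fr⁻¹) : GL Z3 F) :
      Matrix Z3 Z3 F) a' b' =
      ![![-(1 + 2 * (K.l : F)) / 3, -(1 + 2 * K.l) / 3, -(1 + 2 * K.l) / 3],
        ![-(1 + 2 * (K.l : F)) / 3, (2 + K.l) / 3, (K.l - 1) / 3],
        ![-(1 + 2 * (K.l : F)) / 3, (K.l - 1) / 3, (2 + K.l) / 3]] a' b' := by
    intro a' b'
    rw [mul_assoc (K.Dg 2 * _), Units.val_mul, Matrix.mul_apply, sum_z3, hP, hP, hP, hP, hP, hP, eval1, eval2]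
    rcases z3_cases a' with rfl | rfl | rfl <;> rcases z3_cases b' with rfl | rfl | rfl <;>
      simp +decide <;> field_simp <;> ring_nf <;> simp only [h6, h5, h4, h3', hsq] <;> ring
  rw [Units.val_mul, Matrix.mul_apply, sum_z3, hQ, hQ, hQ, hQ, hQ, hQ, T_val]
  rcases z3_cases z with rfl | rfl | rfl <;> rcases z3_cases w with rfl | rfl | rfl <;>
    simp +decide <;> field_simp <;> ring_nf <;> simp only [hsq] <;> ring

end Root

end Cfsg.Agent.ClassicalMax.SympThree
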