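import Cfsg.Agent.ClassicalMax.SympThree.Local
import Cfsg.Agent.ClassicalMax.SympType.SLLib

/-!
If a block of the centraliser of the phase contains the special linear group then the overgroup contains all
transvections.
-/

set_option autoImplicit false

namespace Cfsg.Agent.ClassicalMax.SympThree

open Matrix

variable {F : Type*} [Field F]

local notation "SL3" => Matrix.SpecialLinearGroup Z3 F

/-- the elementary transvection of dimension three as an element of the general linear group -/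
def tv3 {i j : Z3} (hij : i ≠ j) (c : F) : GL Z3 F :=
  Matrix.SpecialLinearGroup.toGL (Matrix.SpecialLinearGroup.transvection hij c)

theorem tv3_val {i j : Z3} (hij : i ≠ j) (c : F) : (tv3 hij c : Matrix Z3 Z3 F) = 1 + Matrix.single i j c := rfl

theorem blk_single_tv {a b : Z3} (hab : a ≠ b) (c : F) (i : Z3) :
    (blk (Pi.mulSingle i (tv3 hab c)) : GL I9 F) = Matrix.SpecialLinearGroup.toGL
      (Matrix.SpecialLinearGroup.transvection (show ((a, i) : I9) ≠ (b, i) from fun h => hab (congrArg Prod.fst h)) c) := by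
  refine Units.ext (Matrix.ext fun z w => ?_)
  rw [blk_val, Matrix.SpecialLinearGroup.coe_GL_coe_matrix, Matrix.SpecialLinearGroup.transvection_coe, Matrix.add_apply,
    Matrix.one_apply, Matrix.single_apply]
  obtain ⟨z1, z2⟩ := z
  obtain ⟨w1, w2⟩ := w
  by_cases h2 : z2 = w2
  · subst h2
    by_cases hi : z2 = i
    · subst hi
      simp [tv3_val, Matrix.one_apply, Matrix.single_apply]
    · simp [hi, Matrix.one_apply, Ne.symm hi]
  · simp only [h2, if_false, Prod.mk.injEq, and_false, zero_add]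
    rw [if_neg]
    rintro ⟨h3, h4⟩
    exact h2 (by rw [← h3.2, ← h4.2])

namespace Root

variable (K : Root F)

/-- some block of the centraliser of the phase is full up to scalars -/
def FullAt (H : Subgroup (GL I9 F)) : Prop :=
  ∃ i, ∀ s : SL3, ∃ (f : Z3 → GL Z3 F) (c : Fˣ), blk f ∈ H ∧ f i = sc c * Matrix.SpecialLinearGroup.toGL s

variable {K} {H : Subgroup (GL I9 F)} (O : K.Over H)
include O

theorem Over.shift_mem {f : Z3 → GL Z3 F} (hf : blk f ∈ H) : blk (fun i => f (i - 1)) ∈ H := by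
  rw [← yy_conj]; exact mul_mem (mul_mem O.shift hf) (inv_mem O.shift)

theorem Over.shift_add {f : Z3 → GL Z3 F} (hf : blk f ∈ H) (k : Z3) : blk (fun i => f (i + k)) ∈ H := by
  have h1 := O.shift_mem hf
  have h2 := O.shift_mem h1
  rcases z3_cases k with rfl | rfl | rfl
  · simpa using hf
  · simpa [sub_sub, show (1 : Z3) + 1 = -1 by decide, sub_neg_eq_add] using h2
  · simpa [show ∀ i : Z3, i + 2 = i - 1 by decide] using h1

theorem Over.full_all (hfull : FullAt H) (j : Z3) (s : SL3) :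
    ∃ (f : Z3 → GL Z3 F) (c : Fˣ), blk f ∈ H ∧ f j = sc c * Matrix.SpecialLinearGroup.toGL s := by
  obtain ⟨i, hi⟩ := hfull
  obtain ⟨f, c, hf, e⟩ := hi s
  exact ⟨fun x => f (x + (i - j)), c, O.shift_add hf _, by simp only [add_sub_cancel, e]⟩

/-- the step to one block fewer -/
theorem Over.full_step [Fintype F] (hfull : FullAt H) (P : (Z3 → GL Z3 F) → Prop)
    (L : Subgroup (Z3 → GL Z3 F)) (hL : ∀ f, f ∈ L ↔ blk f ∈ H ∧ P f)
    (hP : ∀ f g, P g → P (f * g * f⁻¹)) (i : Z3)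
    (u : Z3 → GL Z3 F) (k : Z3) (hk : k ≠ 0) (hu : u i = K.W k 0)
    (hw : ∀ f, blk f ∈ H → (∃ c : Fˣ, f i = sc c * tv3 (show (0 : Z3) ≠ 1 by decide) 1) →
      ∃ l ∈ L, l i = u i * f i * (u i)⁻¹ * (f i)⁻¹)
    (s : SL3) : ∃ l ∈ L, l i = Matrix.SpecialLinearGroup.toGL s := by
  let M : Subgroup (GL Z3 F) := L.map (Pi.evalMonoidHom (fun _ : Z3 => GL Z3 F) i)
  have hn : ∀ l ∈ M, ∀ t : SL3, Matrix.SpecialLinearGroup.toGL t * l * (Matrix.SpecialLinearGroup.toGL t)⁻¹ ∈ M := by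
    rintro _ ⟨l, hl, rfl⟩ t
    obtain ⟨f, c, hf, e⟩ := O.full_all hfull i t
    refine ⟨f * l * f⁻¹, (hL _).2 ⟨by rw [map_mul, map_mul, map_inv]; exact mul_mem (mul_mem hf ((hL l).1 hl).1) (inv_mem hf),
      hP f l ((hL l).1 hl).2⟩, ?_⟩
    show f i * l i * (f i)⁻¹ = _
    rw [e, sc_mul_conj]
    rfl
  have hnc : ∃ l ∈ M, ∀ c : F, (l : Matrix Z3 Z3 F) ≠ c • 1 := by
    obtain ⟨f, c, hf, e⟩ := O.full_all hfull i (Matrix.SpecialLinearGroup.transvection (show (0 : Z3) ≠ 1 by decide) 1)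
    obtain ⟨l, hl, el⟩ := hw f hf ⟨c, e⟩
    refine ⟨_, ⟨l, hl, rfl⟩, fun x hx => ?_⟩
    change ((l i : GL Z3 F) : Matrix Z3 Z3 F) = x • 1 at hx
    set t := tv3 (show (0 : Z3) ≠ 1 by decide) (1 : F) with ht
    have e' : f i = sc c * t := e
    have hh : u i * f i * (u i)⁻¹ * (f i)⁻¹ = u i * t * (u i)⁻¹ * t⁻¹ := by
      rw [e', conj_sc_mul, _root_.mul_inv_rev, ← mul_assoc, mul_assoc (sc c), sc_comm c, mul_inv_cancel_right]
    rw [el, hh, hu] at hx
    have h1 : ((K.W k 0 * t : GL Z3 F) : Matrix Z3 Z3 F) = x • ((t * K.W k 0 : GL Z3 F) : Matrix Z3 Z3 F) := by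
      rw [show K.W k 0 * t = K.W k 0 * t * (K.W k 0)⁻¹ * t⁻¹ * (t * K.W k 0) by group, Units.val_mul, hx,
        Matrix.smul_mul, Matrix.one_mul]
    have h00 := congrArg (fun m : Matrix Z3 Z3 F => m 0 0) h1
    have h01 := congrArg (fun m : Matrix Z3 Z3 F => m 0 1) h1
    simp +decide [Units.val_mul, Matrix.mul_apply, sum_z3, ht, tv3_val, W_val, Matrix.one_apply, Matrix.single_apply,
      e_zero] at h00 h01
    rw [← h00, one_mul] at h01
    exact hk (K.e_val_inj (h01.symm.trans (K.eval0).symm))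
  obtain ⟨l, hl, e⟩ := SympType.le_of_normalised (Or.inl (by rw [ZMod.card])) M hn hnc s
  exact ⟨l, hl, e⟩

/-- a full block gives a block on its own -/
theorem Over.full_single [Fintype F] (hfull : FullAt H) (j : Z3) (s : SL3) :
    blk (Pi.mulSingle j (Matrix.SpecialLinearGroup.toGL s)) ∈ H := by
  let L0 : Subgroup (Z3 → GL Z3 F) := (H.comap blk) ⊓ (Pi.evalMonoidHom (fun _ : Z3 => GL Z3 F) 0).ker
  let L1 : Subgroup (Z3 → GL Z3 F) := L0 ⊓ (Pi.evalMonoidHom (fun _ : Z3 => GL Z3 F) 1).ker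
  have h0 : ∀ f, f ∈ L0 ↔ blk f ∈ H ∧ f 0 = 1 := fun f => by
    simp [L0, Subgroup.mem_inf, MonoidHom.mem_ker]
  have h1 : ∀ f, f ∈ L1 ↔ blk f ∈ H ∧ (f 0 = 1 ∧ f 1 = 1) := fun f => by
    simp [L1, Subgroup.mem_inf, MonoidHom.mem_ker, h0, and_assoc]
  have hcomm : ∀ u f : Z3 → GL Z3 F, blk u ∈ H → blk f ∈ H → blk (u * f * u⁻¹ * f⁻¹) ∈ H := fun u f hu hf => by
    rw [map_mul, map_mul, map_mul, map_inv, map_inv]
    exact mul_mem (mul_mem (mul_mem hu hf) (inv_mem hu)) (inv_mem hf)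
  have hu : blk (fun i => K.W i 0) ∈ H := by simpa using O.upow 1 0
  have hu' : blk (fun i => K.W (i + 2) 0) ∈ H := O.shift_add hu 2
  have step0 : ∀ i : Z3, i ≠ 0 → ∀ t : SL3, ∃ l ∈ L0, l i = Matrix.SpecialLinearGroup.toGL t := fun i hi t =>
    O.full_step hfull (fun f => f 0 = 1) L0 h0 (fun f g hg => by simp [hg]) i (fun x => K.W x 0) i hi rfl
      (fun f hf _ => ⟨(fun x => K.W x 0) * f * (fun x => K.W x 0)⁻¹ * f⁻¹,
        (h0 _).2 ⟨hcomm _ _ hu hf, by simp [K.W_zero]⟩, rfl⟩) t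
  have step1 : ∀ t : SL3, ∃ l ∈ L1, l 2 = Matrix.SpecialLinearGroup.toGL t := by
    refine O.full_step hfull (fun f => f 0 = 1 ∧ f 1 = 1) L1 h1 (fun f g hg => by simp [hg.1, hg.2]) 2
      (fun x => K.W (x + 2) 0) 1 one_ne_zero (congrArg (fun a => K.W a 0) (show (2 : Z3) + 2 = 1 by decide))
      (fun f hf ⟨c, hc⟩ => ?_)
    obtain ⟨g, hg, e⟩ := step0 2 (by decide) (Matrix.SpecialLinearGroup.transvection (show (0 : Z3) ≠ 1 by decide) 1)
    refine ⟨(fun x => K.W (x + 2) 0) * g * (fun x => K.W (x + 2) 0)⁻¹ * g⁻¹, (h1 _).2 ⟨hcomm _ _ hu' ((h0 g).1 hg).1,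
      by simp [((h0 g).1 hg).2], by simp [show (1 : Z3) + 2 = 0 by decide, K.W_zero]⟩, ?_⟩
    show K.W (2 + 2) 0 * g 2 * (K.W (2 + 2) 0)⁻¹ * (g 2)⁻¹ = _
    rw [e, hc]
    show K.W (2 + 2) 0 * tv3 (show (0 : Z3) ≠ 1 by decide) 1 * (K.W (2 + 2) 0)⁻¹ *
      (tv3 (show (0 : Z3) ≠ 1 by decide) 1)⁻¹ = _
    rw [conj_sc_mul, _root_.mul_inv_rev, ← mul_assoc, mul_assoc (sc c), sc_comm c, mul_inv_cancel_right]
  obtain ⟨l, hl, e⟩ := step1 s
  obtain ⟨hlH, hl0, hl1⟩ := (h1 l).1 hl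
  have := O.shift_add hlH (2 - j)
  convert this using 2
  funext x
  by_cases hx : x = j
  · subst hx; rw [Pi.mulSingle_eq_same, add_sub_cancel, e]
  · rw [Pi.mulSingle_eq_of_ne hx]
    rcases z3_cases (x + (2 - j)) with h | h | h <;> rw [h]
    · exact hl0.symm
    · exact hl1.symm
    · exact absurd (by linear_combination h) hx

/-- a full block gives the whole special linear group -/
theorem Over.full_top [Fintype F] (hfull : FullAt H) (s : Matrix.SpecialLinearGroup I9 F) :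
    Matrix.SpecialLinearGroup.toGL s ∈ H := by
  let Hs : Subgroup (Matrix.SpecialLinearGroup I9 F) := H.comap Matrix.SpecialLinearGroup.toGL
  suffices Hs = ⊤ by
    have : s ∈ Hs := by rw [this]; trivial
    exact this
  have hrow : ∀ {z w : I9} (hzw : z ≠ w) (c : F), z.2 = w.2 → Matrix.SpecialLinearGroup.transvection hzw c ∈ Hs := by
    rintro ⟨a, i⟩ ⟨b, i'⟩ hzw c (rfl : i = i')
    have hab : a ≠ b := fun h => hzw (Prod.ext h rfl)
    show Matrix.SpecialLinearGroup.toGL _ ∈ H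
    rw [← blk_single_tv hab c i]
    exact O.full_single hfull i (Matrix.SpecialLinearGroup.transvection hab c)
  have hcol : ∀ {z w : I9} (hzw : z ≠ w) (c : F), z.1 = w.1 → Matrix.SpecialLinearGroup.transvection hzw c ∈ Hs := by
    intro z w hzw c h1
    have hswap : ((z.2, z.1) : I9) ≠ (w.2, w.1) := fun h => hzw (Prod.ext (congrArg Prod.snd h) (congrArg Prod.fst h))
    show Matrix.SpecialLinearGroup.toGL _ ∈ H
    have := mul_mem (mul_mem O.swap (hrow hswap c h1)) O.swap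
    convert this using 1
    refine Units.ext (Matrix.ext fun x y => ?_)
    rw [sw_conj_val]
    simp only [Matrix.SpecialLinearGroup.coe_GL_coe_matrix, Matrix.SpecialLinearGroup.transvection_coe, Matrix.add_apply,
      Matrix.one_apply, Matrix.single_apply, Prod.mk.injEq, Prod.ext_iff]
    simp only [and_comm]
  refine Classical.sl_eq_top_of_transvection Hs fun z w hzw c => ?_
  by_cases h2 : z.2 = w.2
  · exact hrow hzw c h2
  by_cases h1 : z.1 = w.1
  · exact hcol hzw c h1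
  set x : I9 := (w.1, z.2)
  have hzx : z ≠ x := fun h => h1 (by rw [h])
  have hxw : x ≠ w := fun h => h2 (by rw [← h])
  rw [← mul_one c, ← Classical.comm_tv hzw hzx hxw c 1, commutatorElement_def]
  exact mul_mem (mul_mem (mul_mem (hrow hzx c rfl) (hcol hxw 1 rfl)) (inv_mem (hrow hzx c rfl))) (inv_mem (hcol hxw 1 rfl))

end Root

end Cfsg.Agent.ClassicalMax.SympThree
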