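import Cfsg.Agent.ClassicalMax.SympThree.Kernel

/-!
The overgroup normalises the model or contains the special linear group.
-/

set_option autoImplicit false

namespace Cfsg.Agent.ClassicalMax.SympThree

open Matrix

theorem exists_dihedral {G : Type*} [Group G] [Finite G] {i t : G} (hi : i * i = 1) (ht : t * t = 1)
    (hne : ∀ g : G, g * i * g⁻¹ ≠ t) : ∃ z : G, z ≠ 1 ∧ z * z = 1 ∧ z * i = i * z ∧ z * t = t * z ∧
      z ∈ Subgroup.closure {i, t} := by
  set c := i * t with hc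
  have hiinv : i⁻¹ = i := inv_eq_of_mul_eq_one_right hi
  have hti : t⁻¹ = t := inv_eq_of_mul_eq_one_right ht
  have hcinv : i * c * i⁻¹ = c⁻¹ := by rw [hc, hiinv, _root_.mul_inv_rev, hti, hiinv, ← mul_assoc, hi, one_mul]
  have e : t = i * c := by rw [hc, ← mul_assoc, hi, one_mul]
  have hcmem : c ∈ Subgroup.closure {i, t} :=
    mul_mem (Subgroup.subset_closure (by simp)) (Subgroup.subset_closure (by simp))
  clear_value c
  have hn : c ^ orderOf c = 1 := pow_orderOf_eq_one c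
  have hpow : ∀ k : ℕ, i * c ^ k = (c ^ k)⁻¹ * i := fun k => by
    rw [← inv_pow, ← hcinv, conj_pow]; group
  rcases Nat.even_or_odd (orderOf c) with ⟨m, hm⟩ | ⟨m, hm⟩
  · have hpos := orderOf_pos c
    have hz2 : c ^ m * c ^ m = 1 := by rw [← pow_add, ← hm, hn]
    refine ⟨c ^ m, fun h => ?_, hz2, ?_, ?_, pow_mem hcmem m⟩
    · have := Nat.le_of_dvd (by omega) (orderOf_dvd_of_pow_eq_one h); omega
    · rw [hpow, inv_eq_of_mul_eq_one_right hz2]
    · have h1 : c ^ m * i = i * c ^ m := by rw [hpow, inv_eq_of_mul_eq_one_right hz2]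
      rw [e, ← mul_assoc, h1, mul_assoc, ← pow_succ, pow_succ', ← mul_assoc]
  · refine absurd ?_ (hne (c ^ m))
    rw [show c ^ m * i * (c ^ m)⁻¹ = c ^ m * (i * (c ^ m)⁻¹) by group]
    have h1 : i * (c ^ m)⁻¹ = c ^ m * i := by
      rw [mul_inv_eq_iff_eq_mul, mul_assoc, hpow, mul_inv_cancel_left]
    rw [h1, ← mul_assoc, ← pow_add, show m + m = 2 * m by omega, eq_comm]
    have h2 : c ^ (2 * m) = c⁻¹ := eq_inv_of_mul_eq_one_left (by rw [← pow_succ, ← hm, hn])
    rw [h2, hc, _root_.mul_inv_rev, hti, hiinv, mul_assoc, hi, mul_one]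

variable {F : Type*} [Field F]

namespace Root

variable (K : Root F)

theorem jj_mem_NR [Finite F] : (jj : GL I9 F) ∈ K.NR :=
  mul_mem (K.col_nor_mem K.nor_T) (K.dgn_nor_mem K.nor_T)

/-- elements of the coset of the inversion invert the classes -/
theorem coset_conj {z : GL I9 F} (hz : z * jj ∈ K.RS) (v : V4) :
    ∃ c : Fˣ, z * K.El v * z⁻¹ = sc c * K.El (-v) := by
  obtain ⟨a, w, e⟩ := hz
  have hzv : z = sc a * K.El w * jj := by rw [← e, mul_assoc, jj_sq, mul_one]
  obtain ⟨b, hb⟩ := K.El_mul w (-v)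
  obtain ⟨b', hb'⟩ := K.El_mul (-v) w
  refine ⟨b * b'⁻¹, ?_⟩
  calc z * K.El v * z⁻¹ = sc a * K.El w * (jj * K.El v * jj⁻¹) * (sc a * K.El w)⁻¹ := by rw [hzv]; group
    _ = K.El w * K.El (-v) * (K.El w)⁻¹ := by rw [K.jj_conj, sc_mul_conj]
    _ = sc b * (sc b'⁻¹ * (K.El (-v) * K.El w)) * (K.El w)⁻¹ := by
        rw [hb, hb', ← mul_assoc (sc b'⁻¹), ← map_mul, inv_mul_cancel, map_one, one_mul, add_comm]
    _ = _ := by rw [map_mul, mul_assoc, mul_assoc (sc b'⁻¹), mul_inv_cancel_right, ← mul_assoc]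

variable {K} [Fintype F] {H : Subgroup (GL I9 F)} (O : K.Over H)
include O

theorem Over.col_gens_mem {g : GL Z3 F} (hg : g ∈ K.gens) : col g ∈ H :=
  mul_mem (mul_mem O.swap (O.const g hg)) O.swap

theorem Over.jj_mem' : (jj : GL I9 F) ∈ H :=
  mul_mem (O.col_gens_mem (Subgroup.subset_closure (by simp))) (O.const _ (Subgroup.subset_closure (by simp)))

theorem Over.El_mem' (v : V4) : K.El v ∈ H :=
  mul_mem (O.col_gens_mem (K.W_exact_mem _ _)) (O.const _ (K.W_exact_mem _ _))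

variable (hs : K.Small H) (hcent : ∀ k ∈ H, k * dgn T = dgn T * k → k ∈ K.NR)
  (hjT : ∀ g : GL I9 F, g * dgn T * g⁻¹ ≠ jj) (hj1 : (jj : GL I9 F) ≠ 1)
include hcent

theorem Over.cent_conj_of {z h n : GL I9 F} (hn : n ∈ K.base) (hz : n * z * n⁻¹ = dgn T) (hh : h ∈ H)
    (hc : h * z = z * h) : h ∈ K.NR := by
  have hb := K.base_le_NR hn
  have h1 : n * h * n⁻¹ ∈ K.NR := hcent _ (mul_mem (mul_mem (O.base_le hn) hh) (inv_mem (O.base_le hn))) (by
    rw [← hz, show n * h * n⁻¹ * (n * z * n⁻¹) = n * (h * z) * n⁻¹ by group, hc]; group)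
  rw [show h = n⁻¹ * (n * h * n⁻¹) * n by group]
  exact mul_mem (mul_mem (inv_mem hb) h1) hb

include hs hjT hj1

set_option maxHeartbeats 1600000 in
/-- the overgroup normalises the model -/
theorem Over.small_le_of : H ≤ K.NR := by
  by_cases hall : ∀ h ∈ H, h * jj * h⁻¹ * jj ∈ K.RS
  · intro h hh
    have key : ∀ v, h * K.El v * h⁻¹ ∈ K.RS := by
      intro v
      -- the class is a product of the inversion and one of its conjugates
      obtain ⟨c, hc⟩ : ∃ c : Fˣ, K.El v = sc c * (jj * (K.El v * jj * (K.El v)⁻¹)) := by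
        obtain ⟨b, hb⟩ := K.El_mul (-v) (-v)
        obtain ⟨d, hd⟩ := K.El_inv v
        refine ⟨(d * b)⁻¹, ?_⟩
        have h3 : -v + -v = v := by
          have h : ∀ z : Z3, -z + -z = z := fun z => by rcases z3_cases z with rfl | rfl | rfl <;> rfl
          exact Prod.ext (Prod.ext (h _) (h _)) (Prod.ext (h _) (h _))
        have h4 : jj * (K.El v * jj * (K.El v)⁻¹) = sc (d * b) * K.El v := by
          rw [show jj * (K.El v * jj * (K.El v)⁻¹) = jj * K.El v * jj⁻¹ * (K.El v)⁻¹ by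
              rw [inv_eq_of_mul_eq_one_right (jj_sq (F := F))]; group,
            K.jj_conj, hd, ← mul_assoc, ← sc_comm, mul_assoc, hb, h3, ← mul_assoc, ← map_mul]
        rw [h4, ← mul_assoc, ← map_mul, inv_mul_cancel, map_one, one_mul]
      rw [hc, conj_sc_mul, show h * (jj * (K.El v * jj * (K.El v)⁻¹)) * h⁻¹ =
        h * jj * h⁻¹ * jj * (jj⁻¹ * (h * K.El v * jj * (h * K.El v)⁻¹ * jj) * jj⁻¹) by group]
      refine mul_mem (K.sc_mem_RS c) (mul_mem (hall h hh) ?_)
      have h1 := hall _ (mul_mem hh (O.El_mem' v))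
      have h2 := (Subgroup.mem_normalizer_iff.1 K.jj_mem_NR _).1 h1
      rwa [inv_eq_of_mul_eq_one_right (jj_sq (F := F))] at h2 ⊢
    have h0 : ∀ v (x : GL I9 F), K.El v = x → h * x * h⁻¹ ∈ K.RS := fun v x e => e ▸ key v
    exact K.mem_NR_of_four (h0 ((1, 0), (0, 0)) _ (by simp [El, K.W_zero])) (h0 ((0, 1), (0, 0)) _ (by simp [El, K.W_zero]))
      (h0 ((0, 0), (1, 0)) _ (by simp [El, K.W_zero])) (h0 ((0, 0), (0, 1)) _ (by simp [El, K.W_zero]))
  push Not at hall
  obtain ⟨h, hh, htj⟩ := hall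
  exfalso
  set t := h * jj * h⁻¹ with ht
  have htH : t ∈ H := mul_mem (mul_mem hh O.jj_mem') (inv_mem hh)
  have ht2 : t * t = 1 := by
    rw [ht, show h * jj * h⁻¹ * (h * jj * h⁻¹) = h * (jj * jj) * h⁻¹ by group, jj_sq, mul_one, mul_inv_cancel]
  have ht1 : t ≠ 1 := fun e => hj1 (by rw [show (jj : GL I9 F) = h⁻¹ * t * h by rw [ht]; group, e, mul_one, inv_mul_cancel])
  have htT : ∀ g : GL I9 F, g * dgn T * g⁻¹ ≠ t := fun g e => hjT (h⁻¹ * g) (by
    rw [show h⁻¹ * g * dgn T * (h⁻¹ * g)⁻¹ = h⁻¹ * (g * dgn T * g⁻¹) * h by group, e, ht]; group)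
  clear_value t
  have htN : t ∉ K.NR := fun hN => by
    rcases O.invol hs htH hN ht2 with e | e | ⟨n, -, e⟩
    · exact ht1 e
    · exact htj e
    · exact htT n⁻¹ (by rw [← e]; group)
  -- an element of the coset commuting with the translates of the involution
  have huniq : ∀ z z' : GL I9 F, z ∈ H → z' ∈ H → z * jj ∈ K.RS → z' * jj ∈ K.RS → z * z = 1 → z' * z' = 1 →
      z * t = t * z → z' * t = t * z' → z = z' := by
    intro z z' hz hz' hzj hz'j hz2 hz'2 hzt hz't
    have h1 : z * z' ∈ K.RS := by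
      have h1 := (Subgroup.mem_normalizer_iff.1 K.jj_mem_NR _).1 hz'j
      rw [inv_eq_of_mul_eq_one_right (jj_sq (F := F))] at h1
      have := mul_mem hzj h1
      rwa [show z * jj * (jj * (z' * jj) * jj) = z * (jj * jj) * z' * (jj * jj) by group, jj_sq, mul_one, mul_one] at this
    obtain ⟨c, v, e⟩ := h1
    by_cases hv : v = 0
    · rw [hv, K.El_zero, mul_one] at e
      have hzz : z' = z * sc c := by rw [← e, ← mul_assoc, hz2, one_mul]
      have hcc : c * c = 1 := by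
        rw [hzz, mul_assoc, ← mul_assoc (sc c), sc_comm, mul_assoc z (sc c) (sc c), ← mul_assoc, hz2, one_mul,
          ← map_mul, ← map_one sc] at hz'2
        exact Units.ext (by
          have := congrArg (fun m : GL I9 F => (m : Matrix I9 I9 F) 0 0) hz'2
          simpa [sc_val] using this)
      have hdet := O.sl z' hz'
      rw [hzz, Units.val_mul, Matrix.det_mul, O.sl z hz, one_mul, sc_val, Matrix.det_smul, Matrix.det_one, mul_one,
        Fintype.card_prod, ZMod.card, ← Units.val_pow_eq_pow_val] at hdet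
      have hd9 : c ^ (3 * 3) = 1 := Units.ext hdet
      rw [show 3 * 3 = 2 * 4 + 1 from rfl, pow_succ, pow_mul, pow_two, hcc, one_pow, one_mul] at hd9
      rw [hzz, hd9, map_one, mul_one]
    · refine absurd (O.cent_mem hs htH hv (d := 1) ?_) htN
      rw [map_one, one_mul, mul_inv_eq_iff_eq_mul]
      have h3 : t * (z * z') = z * z' * t := by rw [← mul_assoc, ← hzt, mul_assoc, ← hz't, mul_assoc]
      rw [e, ← mul_assoc, ← sc_comm, mul_assoc, mul_assoc] at h3
      exact mul_left_cancel h3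
  have hex : ∀ n ∈ K.base, ∃ z ∈ H, z * jj ∈ K.RS ∧ z * z = 1 ∧ z * t = t * z ∧
      z * (n⁻¹ * dgn T * n) = n⁻¹ * dgn T * n * z := by
    intro n hn
    set i := n⁻¹ * dgn T * n with hi
    have hi2 : i * i = 1 := by
      rw [hi, show n⁻¹ * dgn T * n * (n⁻¹ * dgn T * n) = n⁻¹ * (dgn T * dgn T) * n by group, ← map_mul, T_sq, map_one]
      group
    have hiH : i ∈ H := mul_mem (mul_mem (inv_mem (O.base_le hn)) (O.const _ (Subgroup.subset_closure (by simp)))) (O.base_le hn)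
    have hci : n * i * n⁻¹ = dgn T := by rw [hi]; group
    obtain ⟨z, hz1, hz2, hzi, hzt, hzmem⟩ := exists_dihedral hi2 ht2 (fun g e => htT (g * n⁻¹) (by rw [← hci, ← e]; group))
    have hzH : z ∈ H := (Subgroup.closure_le H).2 (by rintro x (rfl | rfl) <;> assumption) hzmem
    have hzN := O.cent_conj_of hcent hn hci hzH hzi
    rcases O.invol hs hzH hzN hz2 with e | e | ⟨n', hn', e⟩
    · exact absurd e hz1
    · exact ⟨z, hzH, e, hz2, hzt, hzi⟩
    · exact absurd (O.cent_conj_of hcent hn' e htH hzt.symm) htN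
  obtain ⟨z, hzH, hzj, hz2, hzt, hzi⟩ := hex 1 (one_mem _)
  rw [inv_one, one_mul, mul_one] at hzi
  have hW : dgn (K.W 1 0) ∈ K.base := dgn_base (K.W_exact_mem 1 0)
  obtain ⟨z', hz'H, hz'j, hz'2, hz't, hz'i⟩ := hex _ hW
  obtain rfl := huniq z z' hzH hz'H hzj hz'j hz2 hz'2 hzt hz't
  set w := dgn (K.W 1 0)
  have hkey : w⁻¹ * dgn T * w * dgn T = dgn (K.W (-1) 0 * K.W (-1) 0) := by
    have e1 : (K.W 1 0)⁻¹ = K.W (-1) 0 := by
      rw [K.W_inv, mul_zero, neg_zero, e_zero, map_one, one_mul]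
    have e2 := K.T_conj 1 0
    rw [T_inv, neg_zero] at e2
    rw [show w⁻¹ * dgn T * w * dgn T = w⁻¹ * (dgn T * w * dgn T) by group]
    simp only [w, ← map_inv, ← map_mul, e1, e2]
  have hzw : z * dgn (K.W (-1) 0 * K.W (-1) 0) = dgn (K.W (-1) 0 * K.W (-1) 0) * z := by
    rw [← hkey, ← mul_assoc, hz'i, mul_assoc, hzi, ← mul_assoc]
  rw [K.W_mul, mul_zero, neg_zero, e_zero, map_one, one_mul, add_zero, show (-1 : Z3) + -1 = 1 by decide] at hzw
  obtain ⟨c, hc⟩ := K.coset_conj hzj ((0, 0), (1, 0))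
  have hE : K.El ((0, 0), (1, 0)) = dgn (K.W 1 0) := by simp [El, K.W_zero]
  rw [hE, hzw, mul_inv_cancel_right] at hc
  have := congrArg (fun v : V4 => v.2.1) (K.El_inj (hE ▸ hc : K.El ((0, 0), (1, 0)) = _))
  exact absurd this (show (1 : Z3) ≠ -1 by decide)

end Root

variable [NeZero (2 : F)]

namespace Root

variable {K : Root F} [Fintype F] {H : Subgroup (GL I9 F)} (O : K.Over H)
include O

theorem Over.jj_mem : (jj : GL I9 F) ∈ H := O.jj_mem'

theorem Over.El_mem (v : V4) : K.El v ∈ H := O.El_mem' v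

variable (hs : K.Small H) (hD : K.Amb H)
include hs hD

/-- the overgroup normalises the model -/
theorem Over.small_le : H ≤ K.NR := by
  have h4 : (1 : F) ≠ -3 := fun e => K.two (mul_self_eq_zero.1 (show (2 : F) * 2 = 0 by linear_combination e))
  have htr : ∀ g : GL I9 F, g * dgn T * g⁻¹ ≠ jj := fun g e => by
    have h1 := congrArg (fun m : GL I9 F => Matrix.trace (m : Matrix I9 I9 F)) e
    simp only [trace_conj, trace_dgn, T_trace, trace_jj] at h1
    exact h4 (by linear_combination -h1)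
  refine O.small_le_of hs (fun k hk hkT => O.cent_T hs hD hk hkT) htr fun e => ?_
  have h1 := congrArg (fun m : GL I9 F => Matrix.trace (m : Matrix I9 I9 F)) e
  simp only [trace_jj, Units.val_one, Matrix.trace_one, Fintype.card_prod, ZMod.card] at h1
  refine K.two (pow_eq_zero_iff (n := 3) (by norm_num) |>.1 ?_)
  push_cast at h1
  linear_combination -h1

omit hs in
/-- dichotomy in dimension nine for any ambient group -/
theorem Over.main_amb : H ≤ K.NR ∨ ∃ i, ∀ s ∈ hD.S, ∃ (f : Z3 → GL Z3 F) (c : Fˣ), blk f ∈ H ∧ f i = sc c * s := by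
  by_cases hs : K.Small H
  · exact Or.inl (O.small_le hs hD)
  refine Or.inr ?_
  obtain ⟨f, hf, i, hn⟩ : ∃ f, blk f ∈ H ∧ ∃ i, ¬ K.Nor (f i) := by
    by_contra! h
    exact hs (K.small_of_nor h)
  rcases K.dich_map hD (H.comap blk) (fun g hg => O.const g hg) (fun g hg => hD.blk_mem g hg) i with h | h
  · exact absurd (h f hf) hn
  · exact ⟨i, fun s hs' => by
      obtain ⟨f', hf', c, e⟩ := h s hs'
      exact ⟨f', c, hf', e⟩⟩

omit hs hD in
/-- dichotomy in dimension nine -/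
theorem Over.main (hD : K.Dich) : H ≤ K.NR ∨ ∀ s : Matrix.SpecialLinearGroup I9 F, Matrix.SpecialLinearGroup.toGL s ∈ H := by
  let A : K.Amb H :=
    { U := ⊤
      S := (Matrix.SpecialLinearGroup.toGL : Matrix.SpecialLinearGroup Z3 F →* GL Z3 F).range
      blk_mem := fun _ _ _ => trivial
      ch_mem := fun _ _ _ => trivial
      rho_mem := fun _ _ => trivial
      sc_mem := fun _ => trivial
      D3_mem := fun D _ => ⟨D, rfl⟩
      dich := fun Q _ hg hc => (hD Q hg hc).imp id fun h s ⟨s', e⟩ => e ▸ h s'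
      simple := fun M _ hn hl s ⟨s', e⟩ => e ▸ SympType.le_of_normalised (Or.inl (by rw [ZMod.card])) M
        (fun l hl t => hn l hl _ ⟨t, rfl⟩) hl s' }
  refine (O.main_amb A).imp id fun ⟨i, h⟩ => O.full_top ⟨i, fun s => h _ ⟨s, rfl⟩⟩

end Root

end Cfsg.Agent.ClassicalMax.SympThree
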