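import Cfsg.Agent.ClassicalMax.SympThree.Chart

/-!
An element of the overgroup commuting with the involution of one factor and its diagonal element of order three, and
scalar on the eigenspace of the eigenvalue one, acts by scalars on each eigenline.
-/

set_option autoImplicit false

namespace Cfsg.Agent.ClassicalMax.SympThree

open Matrix

variable {F : Type*} [Field F]
variable [NeZero (2 : F)]

local notation "SL3" => Matrix.SpecialLinearGroup Z3 F

namespace Root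

variable (K : Root F)

/-- the alternative in dimension three -/
def Dich : Prop := ∀ Q : Subgroup (GL Z3 F), K.gens ≤ Q → (∀ c, sc c ∈ Q) →
  (∀ k ∈ Q, K.Nor k) ∨ ∀ s : SL3, Matrix.SpecialLinearGroup.toGL s ∈ Q

/-- an ambient group for the blocks of an overgroup, with the alternative and the simplicity in dimension three -/
structure Amb (H : Subgroup (GL I9 F)) where
  /-- the group containing the blocks -/
  U : Subgroup (GL Z3 F)
  /-- the full group in dimension three -/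
  S : Subgroup (GL Z3 F)
  blk_mem : ∀ f, blk f ∈ H → ∀ i, f i ∈ U
  ch_mem : ∀ f, K.ch f ∈ H → ∀ i, f i ∈ U
  rho_mem : ∀ k : Subgroup.centralizer ({dgn T} : Set (GL I9 F)), (k : GL I9 F) ∈ H → K.rhoHom k ∈ U
  sc_mem : ∀ c, sc c ∈ U
  D3_mem : ∀ D : SL3, (D : Matrix Z3 Z3 F) = Matrix.diagonal (fun z => if z = 2 then (1 : F) else -1) →
    Matrix.SpecialLinearGroup.toGL D ∈ S
  dich : ∀ Q : Subgroup (GL Z3 F), Q ≤ U → K.gens ≤ Q → (∀ c, sc c ∈ Q) → (∀ k ∈ Q, K.Nor k) ∨ ∀ s ∈ S, s ∈ Q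
  simple : ∀ M : Subgroup (GL Z3 F), M ≤ U → (∀ l ∈ M, ∀ s ∈ S, s * l * s⁻¹ ∈ M) →
    (∃ l ∈ M, ∀ c : F, (l : Matrix Z3 Z3 F) ≠ c • 1) → ∀ s ∈ S, s ∈ M

/-- scalar multiples of the elements of a subgroup -/
def withSc {κ : Type*} [Fintype κ] [DecidableEq κ] (P : Subgroup (GL κ F)) : Subgroup (GL κ F) where
  carrier := {g | ∃ c : Fˣ, ∃ p ∈ P, g = sc c * p}
  one_mem' := ⟨1, 1, P.one_mem, by rw [map_one, one_mul]⟩
  mul_mem' := by
    rintro _ _ ⟨c, p, hp, rfl⟩ ⟨d, q, hq, rfl⟩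
    exact ⟨c * d, p * q, P.mul_mem hp hq, by
      rw [map_mul, mul_assoc (sc c), ← mul_assoc p, ← sc_comm]; simp only [mul_assoc]⟩
  inv_mem' := by
    rintro _ ⟨c, p, hp, rfl⟩
    exact ⟨c⁻¹, p⁻¹, P.inv_mem hp, by rw [_root_.mul_inv_rev, ← map_inv, sc_comm]⟩

theorem mem_withSc {κ : Type*} [Fintype κ] [DecidableEq κ] {P : Subgroup (GL κ F)} {g : GL κ F} :
    g ∈ withSc P ↔ ∃ c : Fˣ, ∃ p ∈ P, g = sc c * p := Iff.rfl

theorem sc_mem_withSc {κ : Type*} [Fintype κ] [DecidableEq κ] (P : Subgroup (GL κ F)) (c : Fˣ) : sc c ∈ withSc P :=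
  ⟨c, 1, P.one_mem, (mul_one _).symm⟩

theorem dich_map {H : Subgroup (GL I9 F)} (hD : K.Amb H) (E : Subgroup (Z3 → GL Z3 F))
    (hE : ∀ g ∈ K.gens, (fun _ => g) ∈ E) (hEU : ∀ f ∈ E, ∀ i, f i ∈ hD.U) (i : Z3) :
    (∀ f ∈ E, K.Nor (f i)) ∨ ∀ s ∈ hD.S, ∃ f ∈ E, ∃ c : Fˣ, f i = sc c * s := by
  rcases hD.dich (withSc (E.map (Pi.evalMonoidHom (fun _ : Z3 => GL Z3 F) i)))
    (by rintro _ ⟨c, _, ⟨f, hf, rfl⟩, rfl⟩; exact mul_mem (hD.sc_mem c) (hEU f hf i)) (fun g hg => ⟨1, g, ⟨_, hE g hg, rfl⟩, by rw [map_one, one_mul]⟩) (fun c => sc_mem_withSc _ c) with h | h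
  · exact Or.inl fun f hf => h _ ⟨1, _, ⟨f, hf, rfl⟩, by rw [map_one, one_mul]; rfl⟩
  · refine Or.inr fun s hs => ?_
    obtain ⟨c, _, ⟨f, hf, rfl⟩, e⟩ := h s hs
    exact ⟨f, hf, c⁻¹, by rw [e, ← mul_assoc, ← map_mul, inv_mul_cancel, map_one, one_mul]; rfl⟩

theorem sc_inj3 {c d : Fˣ} (h : (sc c : GL Z3 F) = sc d) : c = d := by
  have := congrArg (fun m : GL Z3 F => (m : Matrix Z3 Z3 F) 0 0) h
  simp only [sc_val, Matrix.smul_apply, Matrix.one_apply_eq, smul_eq_mul, mul_one] at this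
  exact Units.ext this

/-- a scaled Weyl matrix commuting with all Weyl matrices is scalar -/
theorem weyl_fix {k : GL Z3 F} {c : Fˣ} {a b : Z3} (hk : k = sc c * K.W a b) (h1 : k * K.W 1 0 * k⁻¹ = K.W 1 0)
    (h2 : k * K.W 0 1 * k⁻¹ = K.W 0 1) : a = 0 ∧ b = 0 := by
  rw [hk, sc_mul_conj, K.W_conj] at h1 h2
  have e1 := K.e_inj ((sc_inj3 ((mul_eq_right.1 h1).trans (map_one sc).symm)).trans K.e_zero.symm)
  have e2 := K.e_inj ((sc_inj3 ((mul_eq_right.1 h2).trans (map_one sc).symm)).trans K.e_zero.symm)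
  exact ⟨by linear_combination e2, by linear_combination -e1⟩

/-- the determinant minus one diagonal -/
def D3 : SL3 := ⟨Matrix.diagonal fun z => if z = 2 then 1 else -1, by
  rw [Matrix.det_diagonal, prod_z3]; simp +decide⟩

theorem D3_comm (a : Z3) : Matrix.SpecialLinearGroup.toGL (D3 (F := F)) * K.W a 0 =
    K.W a 0 * Matrix.SpecialLinearGroup.toGL (D3 (F := F)) := Units.ext (Matrix.ext fun z w => by
  have hW : (K.W a 0 : Matrix Z3 Z3 F) = Matrix.diagonal fun z => (K.e (a * z) : F) := Matrix.ext fun z w => by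
    rw [W_val, add_zero, Matrix.diagonal_apply]
  rw [Units.val_mul, Units.val_mul, Matrix.SpecialLinearGroup.coe_GL_coe_matrix, hW]
  show ((Matrix.diagonal fun z : Z3 => if z = 2 then (1 : F) else -1) *
      (Matrix.diagonal fun z => (K.e (a * z) : F) : Matrix Z3 Z3 F)) z w =
    ((Matrix.diagonal fun z => (K.e (a * z) : F)) *
      (Matrix.diagonal fun z : Z3 => if z = 2 then (1 : F) else -1) : Matrix Z3 Z3 F) z w
  rw [Matrix.diagonal_mul_diagonal, Matrix.diagonal_mul_diagonal]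
  simp only [mul_comm])

theorem D3_not_scalar (K : Root F) {c d : Fˣ} (h : sc c * Matrix.SpecialLinearGroup.toGL (D3 (F := F)) = sc d) : False := by
  have e0 := congrArg (fun m : GL Z3 F => (m : Matrix Z3 Z3 F) 0 0) h
  have e2 := congrArg (fun m : GL Z3 F => (m : Matrix Z3 Z3 F) 2 2) h
  simp only [val_sc_mul, sc_val, Matrix.smul_apply, Matrix.one_apply_eq, smul_eq_mul, mul_one,
    Matrix.SpecialLinearGroup.coe_GL_coe_matrix] at e0 e2
  change (c : F) * (Matrix.diagonal (fun z : Z3 => if z = 2 then (1 : F) else -1)) 0 0 = _ at e0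
  change (c : F) * (Matrix.diagonal (fun z : Z3 => if z = 2 then (1 : F) else -1)) 2 2 = _ at e2
  simp +decide at e0 e2
  exact c.ne_zero ((mul_eq_zero.1 (show (2 : F) * c = 0 by linear_combination e2 - e0)).resolve_left K.two)

variable {K} [Fintype F] {H : Subgroup (GL I9 F)} (O : K.Over H) (hs : K.Small H)
include O hs

/-- the scalars on the eigenlines -/
theorem Over.rel {d : Z3 → Fˣ} (h : K.ch (fun a => sc (d a)) ∈ H) :
    (d 0) ^ 3 = (d 1) ^ 3 ∧ (d 1 = d 2 ∨ d 1 = -d 2) := by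
  have h2 := K.two
  rw [K.ch_sc, dgn_eq] at h
  set M := K.Qm * Di d * K.Qm⁻¹ with hM
  obtain ⟨c, a, b, e⟩ := hs.nor _ h 0 0 1
  rw [mul_inv_eq_iff_eq_mul] at e
  set α : F := ((d 1 : F) + d 2) / 2 with hαd
  set β : F := ((d 1 : F) - d 2) / 2 with hβd
  have hval : ∀ z w : Z3, (M : Matrix Z3 Z3 F) z w =
      if z = 0 then (if w = 0 then (d 0 : F) else 0) else if w = 0 then 0 else if z = w then α else β := by
    intro z w
    rw [hM, Units.val_mul, Units.val_mul, Matrix.mul_apply, sum_z3, Matrix.mul_apply, Matrix.mul_apply,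
      Matrix.mul_apply, sum_z3, sum_z3, sum_z3, hαd, hβd]
    rcases z3_cases z with rfl | rfl | rfl <;> rcases z3_cases w with rfl | rfl | rfl <;>
      simp +decide [Qm, Qv, Di_val] <;> ring
  have eq : ∀ z w, (M : Matrix Z3 Z3 F) z (w + 1) = c * (K.e (a * z) * (M : Matrix Z3 Z3 F) (z - b) w) := by
    intro z w
    have h' := congrArg (fun m : GL Z3 F => (m : Matrix Z3 Z3 F) z w) e
    simp only [Units.val_mul M, Units.val_mul (sc c * _), val_sc_mul, Matrix.smul_mul, Matrix.smul_apply, smul_eq_mul,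
      Matrix.mul_apply] at h'
    rw [Finset.sum_eq_single (w + 1) (fun x _ hx => by rw [W_val, if_neg hx, mul_zero]) (by simp),
      Finset.sum_eq_single (z - b) (fun x _ hx => by
        rw [W_val, if_neg (fun e => hx (by rw [e, add_sub_cancel_right])), mul_zero, zero_mul]) (by simp),
      W_val, if_pos rfl, W_val, if_pos (sub_add_cancel z b).symm, zero_mul, eval0, mul_one] at h'
    linear_combination h'
  have he : (K.e (a * 1) : F) * K.e (a * 2) = 1 := by
    rw [← Units.val_mul, ← K.e_add, show a * 1 + a * 2 = (3 : Z3) * a by ring, show (3 : Z3) = 0 from rfl, zero_mul,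
      eval0]
  rcases z3_cases b with rfl | rfl | rfl
  · have e02 : (M : Matrix Z3 Z3 F) 0 0 = c * (K.e (a * 0) * (M : Matrix Z3 Z3 F) 0 2) := eq 0 2
    simp +decide [hval] at e02
  · have e02 : (M : Matrix Z3 Z3 F) 0 0 = c * (K.e (a * 0) * (M : Matrix Z3 Z3 F) 2 2) := eq 0 2
    have e10 : (M : Matrix Z3 Z3 F) 1 1 = c * (K.e (a * 1) * (M : Matrix Z3 Z3 F) 0 0) := eq 1 0
    have e11 : (M : Matrix Z3 Z3 F) 1 2 = c * (K.e (a * 1) * (M : Matrix Z3 Z3 F) 0 1) := eq 1 1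
    have e21 : (M : Matrix Z3 Z3 F) 2 2 = c * (K.e (a * 2) * (M : Matrix Z3 Z3 F) 1 1) := eq 2 1
    simp +decide only [hval, if_true, if_false, mul_zero, eval0, one_mul] at e02 e10 e11 e21
    have h12 : (d 1 : F) = d 2 := by
      rw [hβd, div_eq_zero_iff] at e11
      exact sub_eq_zero.1 (e11.resolve_right K.two)
    have hd2 : α = d 1 := by rw [hαd, ← h12]; field_simp; ring
    rw [hd2] at e02 e10 e21
    have k1 : (c : F) * K.e (a * 2) = 1 := mul_right_cancel₀ (d 1).ne_zero (by linear_combination -e21)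
    have h3 : (c : F) * c * K.e (a * 1) = 1 := mul_right_cancel₀ (d 1).ne_zero
      (by linear_combination -e10 - (c : F) * K.e (a * 1) * e02)
    have k2 : (c : F) ^ 3 = 1 := by
      linear_combination h3 + ((c : F) * c * K.e (a * 1)) * k1 - (c : F) ^ 3 * he
    refine ⟨Units.ext ?_, Or.inl (Units.ext h12)⟩
    rw [Units.val_pow_eq_pow_val, Units.val_pow_eq_pow_val, e02, mul_pow, k2, one_mul]
  · have e02 : (M : Matrix Z3 Z3 F) 0 0 = c * (K.e (a * 0) * (M : Matrix Z3 Z3 F) 1 2) := eq 0 2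
    have e10 : (M : Matrix Z3 Z3 F) 1 1 = c * (K.e (a * 1) * (M : Matrix Z3 Z3 F) 2 0) := eq 1 0
    have e11 : (M : Matrix Z3 Z3 F) 1 2 = c * (K.e (a * 1) * (M : Matrix Z3 Z3 F) 2 1) := eq 1 1
    have e20 : (M : Matrix Z3 Z3 F) 2 1 = c * (K.e (a * 2) * (M : Matrix Z3 Z3 F) 0 0) := eq 2 0
    simp +decide only [hval, if_true, if_false, mul_zero, eval0, one_mul] at e02 e10 e11 e20
    have hsum : (d 1 : F) + d 2 = 0 := by
      rw [hαd, div_eq_zero_iff] at e10
      exact e10.resolve_right K.two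
    have h12 : d 1 = -d 2 := Units.ext (by rw [Units.val_neg]; linear_combination hsum)
    have hd2 : β = d 1 := by
      rw [hβd, show (d 2 : F) = -(d 1 : F) by linear_combination hsum]; field_simp; ring
    rw [hd2] at e02 e11 e20
    have k1 : (c : F) * K.e (a * 1) = 1 := mul_right_cancel₀ (d 1).ne_zero (by linear_combination -e11)
    have h3 : (c : F) * c * K.e (a * 2) = 1 := mul_right_cancel₀ (d 1).ne_zero
      (by linear_combination -e20 - (c : F) * K.e (a * 2) * e02)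
    have k2 : (c : F) ^ 3 = 1 := by
      linear_combination h3 + ((c : F) * c * K.e (a * 2)) * k1 - (c : F) ^ 3 * he
    refine ⟨Units.ext ?_, Or.inr h12⟩
    rw [Units.val_pow_eq_pow_val, Units.val_pow_eq_pow_val, e02, mul_pow, k2, one_mul]

theorem Over.rel_one {d : Z3 → Fˣ} (h : K.ch (fun a => sc (d a)) ∈ H) (h2 : d 2 = 1) (h0 : d 0 ^ 3 = 1) : d 1 = 1 := by
  obtain ⟨h3, h12⟩ := O.rel hs h
  rw [h0, h2] at *
  rcases h12 with e | e
  · exact e
  · rw [e] at h3
    exact absurd (congrArg Units.val h3) fun h4 => K.two (by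
      rw [Units.val_pow_eq_pow_val, Units.val_neg, Units.val_one] at h4
      linear_combination h4)

/-- centralising the diagonal shift gives scalars -/
theorem Over.scal_comm {f : Z3 → GL Z3 F} (hf : K.ch f ∈ H) (h2 : ∃ c, f 2 = sc c)
    (hc : ∀ x, f x * K.W 1 0 = K.W 1 0 * f x) : ∀ x, ∃ c, f x = sc c := by
  have hcX : K.ch f * col (K.W 1 0) = col (K.W 1 0) * K.ch f := by
    rw [← K.ch_const, ← map_mul, ← map_mul]; exact congrArg _ (funext hc)
  obtain ⟨g, hg⟩ := K.comm_iff (g := K.ch f) (by simpa [col_W_diag] using hcX)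
  obtain ⟨u, g0, m, a, b, -, hform⟩ := O.local_form hs (hg ▸ hf)
  have hT : ∀ i, g i * T = T * g i := fun i => by
    have h := K.comm_T f
    rw [hg, dgn_eq, ← map_mul, ← map_mul] at h
    exact congrFun (blk_inj h) i
  have hg00 : g0 * T = T * g0 := by
    have h := hT 0
    rw [hform, mul_zero, mul_zero, K.W_zero, mul_one] at h
    refine mul_left_cancel (a := sc (u * K.e (m 0))) ?_
    rw [← mul_assoc, sc_comm, h, ← sc_comm, ← mul_assoc, ← sc_comm, mul_assoc]
  have hab : a = 0 ∧ b = 0 := by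
    have h := hT 1
    rw [hform, mul_one, mul_one, ← mul_assoc (T : GL Z3 F), ← hg00, mul_assoc g0, mul_assoc g0] at h
    have h' : sc (u * K.e (m 1)) * (K.W a b * T) = sc (u * K.e (m 1)) * (T * K.W a b) := by
      rw [← mul_assoc, ← mul_assoc, mul_left_cancel h, ← mul_assoc, sc_comm]
    have h1 := mul_left_cancel h'
    rw [K.T_W] at h1
    have h3 : K.W a b = sc 1 * K.W (-a) (-b) := by rw [map_one, one_mul, mul_right_cancel h1]
    obtain ⟨ha, hb⟩ := K.W_inj h3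
    have h3' : (3 : Z3) = 0 := rfl
    exact ⟨by linear_combination 2 * ha - a * h3', by linear_combination 2 * hb - b * h3'⟩
  have hgi : ∀ i, g i = sc (u * K.e (m i)) * g0 := fun i => by
    rw [hform, hab.1, hab.2, zero_mul, K.W_zero, mul_one, sc_comm]
  set G' : GL Z3 F := K.Qm⁻¹ * g0 * K.Qm with hG
  have hent : ∀ x i i', (f x : Matrix Z3 Z3 F) i i' =
      if i = i' then (u : F) * K.e (m i) * (G' : Matrix Z3 Z3 F) x x else 0 := fun x i i' => by
    have h := congrArg (fun m : GL I9 F => (m : Matrix I9 I9 F) (x, i) (x, i')) (congrArg K.chart hg)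
    have e : K.chart (blk g) = blk fun j => sc (u * K.e (m j)) * G' := by
      rw [chart, C9, dgn_eq, ← map_inv, ← map_mul, ← map_mul]
      congr 1
      funext j
      simp only [Pi.mul_apply, Pi.inv_apply, hgi, hG]
      rw [← mul_assoc (K.Qm⁻¹), ← sc_comm]
      simp only [mul_assoc]
    simp only [chart_ch, e, sw_conj_val, blk_val] at h
    rw [if_pos trivial] at h
    rw [h]
    by_cases hi : i = i'
    · rw [if_pos hi, if_pos hi, val_sc_mul, Matrix.smul_apply, smul_eq_mul, Units.val_mul]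
    · rw [if_neg hi, if_neg hi]
  obtain ⟨c, hc2⟩ := h2
  have hG2 : (G' : Matrix Z3 Z3 F) 2 2 ≠ 0 := fun h => by
    have := hent 2 0 0
    rw [hc2, sc_val, Matrix.smul_apply, Matrix.one_apply_eq, smul_eq_mul, mul_one, if_pos rfl, h, mul_zero] at this
    exact c.ne_zero this
  have hm : ∀ i, (K.e (m i) : F) = K.e (m 0) := fun i => by
    have h1 := hent 2 i i
    have h2 := hent 2 0 0
    rw [hc2, sc_val, Matrix.smul_apply, Matrix.one_apply_eq, smul_eq_mul, mul_one, if_pos rfl] at h1 h2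
    exact mul_right_cancel₀ hG2 (mul_left_cancel₀ u.ne_zero (by linear_combination h2 - h1))
  intro x
  set v := (u : F) * K.e (m 0) * (G' : Matrix Z3 Z3 F) x x with hv
  have hfx : (f x : Matrix Z3 Z3 F) = v • 1 := Matrix.ext fun i i' => by
    rw [hent, Matrix.smul_apply, Matrix.one_apply, smul_eq_mul, hm]
    split_ifs <;> simp [hv]
  have hv0 : v ≠ 0 := fun h => by
    have := congrArg (· 0 0) (f x).mul_inv
    simp [hfx, h] at this
  exact ⟨Units.mk0 v hv0, Units.ext (by rw [hfx, sc_val]; rfl)⟩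

omit hs in
theorem Over.col_mem {g : GL Z3 F} (hg : g ∈ K.gens) : K.ch (fun _ => g) ∈ H := by
  rw [K.ch_const, col_apply]; exact mul_mem (mul_mem O.swap (O.const g hg)) O.swap

omit hs in
theorem Over.comm_mem {f : Z3 → GL Z3 F} (hf : K.ch f ∈ H) (a b : Z3) :
    K.ch (fun x => f x * K.W a b * (f x)⁻¹ * (K.W a b)⁻¹) ∈ H := by
  have := mul_mem (mul_mem (mul_mem hf (O.col_mem (K.W_exact_mem a b))) (inv_mem hf))
    (inv_mem (O.col_mem (K.W_exact_mem a b)))
  simp only [← map_inv, ← map_mul] at this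
  exact this

omit hs in
theorem Over.nor_comm {k : GL Z3 F} (hk : K.Nor k) (a b : Z3) :
    ∃ (c : Fˣ) (p q : Z3), k * K.W a b * k⁻¹ * (K.W a b)⁻¹ = sc c * K.W p q := by
  obtain ⟨c, p, q, e⟩ := hk a b
  refine ⟨c * K.e (-(a * b)) * K.e (-(-a * q)), p + -a, q + -b, ?_⟩
  rw [e, K.W_inv, mul_assoc (sc c), ← mul_assoc (K.W p q), ← sc_comm, mul_assoc (sc (K.e (-(a * b)))), K.W_mul]
  simp only [← mul_assoc, ← map_mul]

omit hs in
theorem Over.weyl_comm (c : Fˣ) (p q a b : Z3) :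
    ∃ e : Fˣ, e ^ 3 = 1 ∧ sc c * K.W p q * K.W a b * (sc c * K.W p q)⁻¹ * (K.W a b)⁻¹ = sc e :=
  ⟨_, K.e_cube (p * b - a * q), by rw [sc_mul_conj, K.W_conj, mul_inv_cancel_right]⟩

/-- scalar on two lines forces scalar on the third -/
theorem Over.kernel_one (hD : K.Amb H) {f : Z3 → GL Z3 F} (hf : K.ch f ∈ H) (h2 : ∃ c, f 2 = sc c) (h0 : f 0 = 1) :
    ∃ c, f 1 = sc c := by
  let EF : Subgroup (Z3 → GL Z3 F) := H.comap K.ch
  rcases K.dich_map hD EF (fun g hg => O.col_mem hg) (fun g hg => hD.ch_mem g hg) 1 with hN | hFull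
  · refine O.scal_comm hs hf h2 (fun x => ?_) 1
    obtain ⟨c2, hc2⟩ := h2
    have key : ∀ a b, f 1 * K.W a b * (f 1)⁻¹ * (K.W a b)⁻¹ = 1 := by
      intro a b
      set g := fun x => f x * K.W a b * (f x)⁻¹ * (K.W a b)⁻¹ with hg
      have hgH : K.ch g ∈ H := O.comm_mem hf a b
      have g0 : g 0 = 1 := by simp [hg, h0]
      have g2 : g 2 = 1 := by simp only [hg]; rw [hc2, sc_comm, mul_inv_cancel_right, mul_inv_cancel]
      obtain ⟨c, p, q, e⟩ := O.nor_comm (hN f hf) a b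
      have hfix : ∀ a' b', g 1 * K.W a' b' * (g 1)⁻¹ = K.W a' b' := fun a' b' => by
        obtain ⟨e', -, he'⟩ := O.weyl_comm c p q a' b'
        rw [← e] at he'
        have h3 : (fun x => g x * K.W a' b' * (g x)⁻¹ * (K.W a' b')⁻¹) =
            fun x => sc (if x = 1 then e' else 1) := funext fun x => by
          rcases z3_cases x with rfl | rfl | rfl
          · simp +decide [g0]
          · show g 1 * _ * _ * _ = _
            rw [if_pos rfl]; exact he'
          · simp +decide [g2]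
        have h4 := O.comm_mem hgH a' b'
        rw [h3] at h4
        have h5 : e' = 1 := by simpa using O.rel_one hs h4 (by simp +decide) (by simp +decide)
        rw [h5, map_one, mul_inv_eq_one] at he'
        exact he'
      obtain ⟨hp, hq⟩ := K.weyl_fix e (hfix 1 0) (hfix 0 1)
      have h3 : g = fun x => sc (if x = 1 then c else 1) := funext fun x => by
        rcases z3_cases x with rfl | rfl | rfl
        · simp +decide [g0]
        · show f 1 * K.W a b * (f 1)⁻¹ * (K.W a b)⁻¹ = _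
          rw [e, hp, hq, K.W_zero, mul_one, if_pos rfl]
        · simp +decide [g2]
      rw [h3] at hgH
      have h5 : c = 1 := by simpa using O.rel_one hs hgH (by simp +decide) (by simp +decide)
      rw [e, hp, hq, K.W_zero, mul_one, h5, map_one]
    rcases z3_cases x with rfl | rfl | rfl
    · rw [h0, one_mul, mul_one]
    · exact mul_inv_eq_iff_eq_mul.1 (mul_inv_eq_one.1 (key 1 0))
    · rw [hc2, sc_comm]
  · let E0 : Subgroup (Z3 → GL Z3 F) := EF ⊓ (Pi.evalMonoidHom (fun _ : Z3 => GL Z3 F) 0).ker ⊓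
      (Subgroup.center (GL Z3 F)).comap (Pi.evalMonoidHom (fun _ : Z3 => GL Z3 F) 2)
    have hcen : ∀ c : Fˣ, (sc c : GL Z3 F) ∈ Subgroup.center (GL Z3 F) := fun c =>
      Subgroup.mem_center_iff.2 fun g => (sc_comm c g).symm
    by_contra hne
    push Not at hne
    have hfE : f ∈ E0 := ⟨⟨hf, h0⟩, by obtain ⟨c, hc⟩ := h2; exact Subgroup.mem_comap.2 (by rw [Pi.evalMonoidHom_apply, hc]; exact hcen c)⟩
    obtain ⟨l, ⟨g, hg, hgl⟩, hl⟩ : ∃ l ∈ E0.map (Pi.evalMonoidHom (fun _ : Z3 => GL Z3 F) 1), l =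
        Matrix.SpecialLinearGroup.toGL (D3 (F := F)) := by
      refine ⟨_, ?_, rfl⟩
      refine hD.simple _ ?_ ?_ ⟨f 1, Subgroup.mem_map.2 ⟨f, hfE, rfl⟩, fun c hc => ?_⟩ _ (hD.D3_mem D3 rfl)
      · rintro _ ⟨g, ⟨⟨hg, -⟩, -⟩, rfl⟩
        exact hD.ch_mem g hg 1
      · rintro _ ⟨g, ⟨⟨hg, hg0⟩, hg2⟩, rfl⟩ s hs'
        obtain ⟨f', hf', c, e⟩ := hFull s hs'
        refine ⟨f' * g * f'⁻¹, ⟨⟨EF.mul_mem (EF.mul_mem hf' hg) (EF.inv_mem hf'), ?_⟩, ?_⟩, ?_⟩
        · show f' 0 * g 0 * (f' 0)⁻¹ = 1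
          rw [show g 0 = 1 from hg0, mul_one, mul_inv_cancel]
        · show f' 2 * g 2 * (f' 2)⁻¹ ∈ Subgroup.center (GL Z3 F)
          rw [show f' 2 * g 2 = g 2 * f' 2 from Subgroup.mem_center_iff.1 hg2 (f' 2), mul_inv_cancel_right]; exact hg2
        · show f' 1 * g 1 * (f' 1)⁻¹ = _
          rw [e, sc_mul_conj]; rfl
      · have hc0 : c ≠ 0 := fun h => by
          have := congrArg (· 0 0) (f 1).mul_inv
          simp [hc, h] at this
        exact hne (Units.mk0 c hc0) (Units.ext (by rw [hc, sc_val]; rfl))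
    rw [← hgl] at hl
    obtain ⟨⟨hgH, hg0⟩, hg2⟩ := hg
    have hg2' : ∀ x, g 2 * x = x * g 2 := fun x => ((Subgroup.mem_center_iff.1 hg2) x).symm
    have hl' : g 1 = Matrix.SpecialLinearGroup.toGL (D3 (F := F)) := hl
    have hsc2 : ∃ c, g 2 = sc c := by
      obtain ⟨c, hc⟩ := SympType.exists_sc_of_center hg2
      exact ⟨c, Units.ext (by rw [sc_val, ← SympType.sc_val]; exact congrArg Units.val hc.symm)⟩
    obtain ⟨c, hc⟩ := O.scal_comm hs hgH hsc2 (fun x => by
      rcases z3_cases x with rfl | rfl | rfl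
      · rw [show g 0 = 1 from hg0, one_mul, mul_one]
      · rw [hl', K.D3_comm]
      · exact hg2' _) 1
    exact K.D3_not_scalar (c := 1) (d := c) (by rw [map_one, one_mul, ← hl', hc])

/-- Weyl on the eigenline of the diagonal element forces scalars -/
theorem Over.weyl_line (hD : K.Amb H) {f : Z3 → GL Z3 F} (hf : K.ch f ∈ H) (h2 : ∃ c, f 2 = sc c) {c : Fˣ} {a b : Z3}
    (h0 : f 0 = sc c * K.W a b) : ∀ x, ∃ d, f x = sc d := by
  obtain ⟨c2, hc2⟩ := h2
  have key : ∀ a' b', f 1 * K.W a' b' * (f 1)⁻¹ * (K.W a' b')⁻¹ = 1 := by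
    intro a' b'
    set g := fun x => f x * K.W a' b' * (f x)⁻¹ * (K.W a' b')⁻¹ with hg
    have hgH : K.ch g ∈ H := O.comm_mem hf a' b'
    obtain ⟨e0, he0, hg0⟩ := O.weyl_comm c a b a' b'
    have g0 : g 0 = sc e0 := by simp only [hg]; rw [h0, hg0]
    have g2 : g 2 = 1 := by simp only [hg]; rw [hc2, sc_comm, mul_inv_cancel_right, mul_inv_cancel]
    have hcW : ∀ a'' b'', ∃ d : Fˣ, g 1 * K.W a'' b'' * (g 1)⁻¹ = sc d * K.W a'' b'' ∧ d = 1 := by
      intro a'' b''
      set g' := fun x => g x * K.W a'' b'' * (g x)⁻¹ * (K.W a'' b'')⁻¹ with hg'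
      have hg'H : K.ch g' ∈ H := O.comm_mem hgH a'' b''
      have g'0 : g' 0 = 1 := by simp only [hg']; rw [g0, sc_comm, mul_inv_cancel_right, mul_inv_cancel]
      have g'2 : g' 2 = 1 := by simp only [hg']; rw [g2]; group
      obtain ⟨d, hd⟩ := O.kernel_one hs hD hg'H ⟨1, by rw [g'2, map_one]⟩ g'0
      refine ⟨d, mul_inv_eq_iff_eq_mul.1 hd, ?_⟩
      have h3 : g' = fun x => sc (if x = 1 then d else 1) := funext fun x => by
        rcases z3_cases x with rfl | rfl | rfl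
        · simp +decide [g'0]
        · rw [hd, if_pos rfl]
        · simp +decide [g'2]
      rw [h3] at hg'H
      simpa using O.rel_one hs hg'H (by simp +decide) (by simp +decide)
    obtain ⟨d1, hd1, h11⟩ := hcW 1 0
    obtain ⟨d2, hd2, h22⟩ := hcW 0 1
    obtain ⟨u, p, q, hu⟩ := K.centr hd1 hd2
    rw [h11, map_one, one_mul] at hd1
    rw [h22, map_one, one_mul] at hd2
    obtain ⟨hp, hq⟩ := K.weyl_fix hu hd1 hd2
    rw [hp, hq, K.W_zero, mul_one] at hu
    have h3 : g = fun x => sc (if x = 0 then e0 else if x = 1 then u else 1) := funext fun x => by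
      rcases z3_cases x with rfl | rfl | rfl
      · simp [g0]
      · simp [hu]
      · simp +decide [g2]
    rw [h3] at hgH
    have h5 : u = 1 := by simpa using O.rel_one hs hgH (by simp +decide) (by simp [he0])
    rw [show f 1 * K.W a' b' * (f 1)⁻¹ * (K.W a' b')⁻¹ = g 1 from rfl, hu, h5, map_one]
  have h1c : ∀ a' b', f 1 * K.W a' b' * (f 1)⁻¹ = K.W a' b' := fun a' b' => mul_inv_eq_one.1 (key a' b')
  obtain ⟨u, p, q, hu⟩ := K.centr (k := f 1) (c := 1) (d := 1) (by rw [h1c, map_one, one_mul]) (by rw [h1c, map_one, one_mul])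
  obtain ⟨hp, hq⟩ := K.weyl_fix hu (h1c 1 0) (h1c 0 1)
  rw [hp, hq, K.W_zero, mul_one] at hu
  have hab : a = 0 ∧ b = 0 := by
    have hF : K.Fr ∈ K.gens := Subgroup.subset_closure (by simp)
    have h6 := mul_mem (mul_mem (mul_mem hf (O.col_mem hF)) (inv_mem hf)) (inv_mem (O.col_mem hF))
    simp only [← map_inv, ← map_mul] at h6
    set g := f * (fun _ => K.Fr) * f⁻¹ * (fun _ => K.Fr)⁻¹ with hg
    have g12 : ∀ x, x ≠ 0 → g x = 1 := fun x hx => by
      rcases z3_cases x with rfl | rfl | rfl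
      · exact absurd rfl hx
      all_goals
        show f _ * K.Fr * (f _)⁻¹ * K.Fr⁻¹ = 1
        first | rw [hu] | rw [hc2]
        rw [sc_comm, mul_inv_cancel_right, mul_inv_cancel]
    rw [K.ch_pair (by rw [g12 1 one_ne_zero, g12 2 (by decide)])] at h6
    have h7 := mul_mem (mul_mem O.swap h6) O.swap
    rw [show sw * (sw * blk g * sw) * sw = sw * sw * blk g * (sw * sw) by group, sw_sq, one_mul, mul_one] at h7
    obtain ⟨v, hv⟩ : ∃ v : Fˣ, g 0 = sc v * K.W (a + -b) (b + a) := by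
      refine ⟨K.e (-(a * b)) * K.e (-a * -b) * K.e (-(-b * b)), ?_⟩
      show f 0 * K.Fr * (f 0)⁻¹ * K.Fr⁻¹ = _
      rw [h0, sc_mul_conj, mul_assoc (K.W a b), mul_assoc (K.W a b), K.W_inv,
        show K.Fr * (sc (K.e (-(a * b))) * K.W (-a) (-b)) * K.Fr⁻¹ = sc (K.e (-(a * b))) * (K.Fr * K.W (-a) (-b) * K.Fr⁻¹)
          from conj_sc_mul _ _ _, K.Fr_conj, neg_neg, ← mul_assoc (sc (K.e (-(a * b)))), ← map_mul, ← mul_assoc (K.W a b),
        ← sc_comm, mul_assoc (sc _), K.W_mul, ← mul_assoc, ← map_mul]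
    have hv3 : v ^ 3 = 1 := Units.ext (by
      have hdet := congrArg (fun m : GL Z3 F => (m : Matrix Z3 Z3 F).det) hv
      simp only [det_sc_mul, K.det_W, ZMod.card, mul_one] at hdet
      rw [Units.val_pow_eq_pow_val, Units.val_one, ← hdet]
      show ((f 0 * K.Fr * (f 0)⁻¹ * K.Fr⁻¹ : GL Z3 F) : Matrix Z3 Z3 F).det = 1
      rw [Units.val_mul, Matrix.det_mul, det_conj, ← Matrix.det_mul, ← Units.val_mul, mul_inv_cancel, Units.val_one,
        Matrix.det_one])
    have h8 : g = fun i => sc (if i = 0 then v else 1) *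
        K.W (if i = 0 then a + -b else 0) (if i = 0 then b + a else 0) := funext fun i => by
      by_cases hi : i = 0
      · subst hi; simp [hv]
      · simp [hi, g12 i hi, K.W_zero]
    rw [h8] at h7
    obtain ⟨s1, s2⟩ := O.sum_zero hs _ (fun i => by split_ifs <;> simp [hv3]) _ _ h7
    simp +decide at s1 s2
    have h3' : (3 : Z3) = 0 := rfl
    exact ⟨by linear_combination 2 * s1 + 2 * s2 - a * h3', by linear_combination 2 * s2 - 2 * s1 - b * h3'⟩
  intro x
  rcases z3_cases x with rfl | rfl | rfl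
  · exact ⟨c, by rw [h0, hab.1, hab.2, K.W_zero, mul_one]⟩
  · exact ⟨u, hu⟩
  · exact ⟨c2, hc2⟩

/-- scalars on every eigenline -/
theorem Over.tau_cent (hD : K.Amb H) {f : Z3 → GL Z3 F} (hf : K.ch f ∈ H) (h2 : ∃ c, f 2 = sc c) :
    ∀ x, ∃ d, f x = sc d := by
  let EF : Subgroup (Z3 → GL Z3 F) := H.comap K.ch
  let E : Subgroup (Z3 → GL Z3 F) :=
    EF ⊓ (Subgroup.center (GL Z3 F)).comap (Pi.evalMonoidHom (fun _ : Z3 => GL Z3 F) 2)
  have hcen : ∀ c : Fˣ, (sc c : GL Z3 F) ∈ Subgroup.center (GL Z3 F) := fun c =>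
    Subgroup.mem_center_iff.2 fun g => (sc_comm c g).symm
  obtain ⟨c2, hc2⟩ := h2
  rcases K.dich_map hD EF (fun g hg => O.col_mem hg) (fun g hg => hD.ch_mem g hg) 0 with hN | hFull
  · obtain ⟨c, hc⟩ : ∃ c : Fˣ, f 0 * K.W 1 0 * (f 0)⁻¹ = sc c * K.W 1 0 := by
      obtain ⟨c, p, q, e⟩ := O.nor_comm (hN f hf) 1 0
      obtain ⟨d, hd⟩ := O.weyl_line hs hD (O.comm_mem hf 1 0) ⟨1, by
        rw [hc2, sc_comm, mul_inv_cancel_right, mul_inv_cancel, map_one]⟩ e 0
      exact ⟨d, mul_inv_eq_iff_eq_mul.1 hd⟩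
    obtain ⟨c', hc'⟩ : ∃ c : Fˣ, f 0 * K.W 0 1 * (f 0)⁻¹ = sc c * K.W 0 1 := by
      obtain ⟨c, p, q, e⟩ := O.nor_comm (hN f hf) 0 1
      obtain ⟨d, hd⟩ := O.weyl_line hs hD (O.comm_mem hf 0 1) ⟨1, by
        rw [hc2, sc_comm, mul_inv_cancel_right, mul_inv_cancel, map_one]⟩ e 0
      exact ⟨d, mul_inv_eq_iff_eq_mul.1 hd⟩
    obtain ⟨u, p, q, e⟩ := K.centr hc hc'
    exact O.weyl_line hs hD hf ⟨c2, hc2⟩ e
  · have hfE : f ∈ E := ⟨hf, Subgroup.mem_comap.2 (by rw [Pi.evalMonoidHom_apply, hc2]; exact hcen c2)⟩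
    by_cases hsc : ∃ c : Fˣ, f 0 = sc c
    · obtain ⟨c, hc⟩ := hsc
      exact O.weyl_line hs hD hf ⟨c2, hc2⟩ (show f 0 = sc c * K.W 0 0 by rw [K.W_zero, mul_one, hc])
    exfalso
    push Not at hsc
    obtain ⟨g, hg, hgl⟩ : Matrix.SpecialLinearGroup.toGL (D3 (F := F)) ∈
        E.map (Pi.evalMonoidHom (fun _ : Z3 => GL Z3 F) 0) := by
      refine hD.simple _ ?_ ?_ ⟨f 0, Subgroup.mem_map.2 ⟨f, hfE, rfl⟩, fun c hc => ?_⟩ _ (hD.D3_mem D3 rfl)
      · rintro _ ⟨g, ⟨hg, -⟩, rfl⟩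
        exact hD.ch_mem g hg 0
      · rintro _ ⟨g, ⟨hg, hg2⟩, rfl⟩ s hs'
        obtain ⟨f', hf', c, e⟩ := hFull s hs'
        refine ⟨f' * g * f'⁻¹, ⟨EF.mul_mem (EF.mul_mem hf' hg) (EF.inv_mem hf'), ?_⟩, ?_⟩
        · show f' 2 * g 2 * (f' 2)⁻¹ ∈ Subgroup.center (GL Z3 F)
          rw [show f' 2 * g 2 = g 2 * f' 2 from Subgroup.mem_center_iff.1 hg2 (f' 2), mul_inv_cancel_right]; exact hg2
        · show f' 0 * g 0 * (f' 0)⁻¹ = _
          rw [e, sc_mul_conj]; rfl
      · have hc0 : c ≠ 0 := fun h => by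
          have := congrArg (· 0 0) (f 0).mul_inv
          simp [hc, h] at this
        exact hsc (Units.mk0 c hc0) (Units.ext (by rw [hc, sc_val]; rfl))
    obtain ⟨hgH, hg2⟩ := hg
    obtain ⟨d2, hd2⟩ : ∃ c, g 2 = sc c := by
      obtain ⟨c, hc⟩ := SympType.exists_sc_of_center hg2
      exact ⟨c, Units.ext (by rw [sc_val, ← SympType.sc_val]; exact congrArg Units.val hc.symm)⟩
    have hg0 : g 0 = Matrix.SpecialLinearGroup.toGL (D3 (F := F)) := hgl
    set k := fun x => g x * K.W 1 0 * (g x)⁻¹ * (K.W 1 0)⁻¹ with hk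
    have hkH : K.ch k ∈ H := O.comm_mem hgH 1 0
    have k0 : k 0 = 1 := by simp only [hk]; rw [hg0, K.D3_comm]; group
    have k2 : k 2 = 1 := by simp only [hk]; rw [hd2, sc_comm, mul_inv_cancel_right, mul_inv_cancel]
    obtain ⟨d, hd⟩ := O.kernel_one hs hD hkH ⟨1, by rw [k2, map_one]⟩ k0
    have h3 : k = fun x => sc (if x = 1 then d else 1) := funext fun x => by
      rcases z3_cases x with rfl | rfl | rfl
      · simp +decide [k0]
      · rw [hd, if_pos rfl]
      · simp +decide [k2]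
    rw [h3] at hkH
    have h5 : d = 1 := by simpa using O.rel_one hs hkH (by simp +decide) (by simp +decide)
    rw [h5, map_one] at hd
    obtain ⟨c, hc⟩ := O.scal_comm hs hgH ⟨d2, hd2⟩ (fun x => by
      rcases z3_cases x with rfl | rfl | rfl
      · rw [hg0, K.D3_comm]
      · exact mul_inv_eq_iff_eq_mul.1 (mul_inv_eq_one.1 hd)
      · rw [hd2, sc_comm]) 0
    exact K.D3_not_scalar (c := 1) (d := c) (by rw [map_one, one_mul, ← hg0, hc])

end Root

end Cfsg.Agent.ClassicalMax.SympThree
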