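import Cfsg.Agent.ClassicalMax.SympThree.Maximal
import Cfsg.Agent.Asch.SympCases

/-!
The order of the group, and the alternative in dimension three from its form for determinant one.
-/

set_option autoImplicit false

namespace Cfsg.Agent.ClassicalMax.SympThree

open Matrix Cfsg.Geo

variable {F : Type*} [Field F]
variable [NeZero (2 : F)]

/-- the inverse effects -/
def mFi : M2 := adj mF

/-- the effect of the Fourier matrix turned by the phase -/
def mFp : M2 := comp mP (comp mF (adj mP))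

theorem mFp_det : det2 mFp = 1 := by decide

/-- the cube of the product with a conjugate -/
def wd (n m : M2) : M2 :=
  let z := comp m (comp n (comp m (adj n)))
  comp z (comp z z)

set_option synthInstance.maxSize 2000 in
theorem three_witness : ∀ m : M2, det2 m = 1 → comp m (comp m m) = m1 → m ≠ m1 →
    wd mF m ≠ m1 ∨ wd mFp m ≠ m1 := by
  decide +kernel

namespace Root

variable (K : Root F)

/-- the alternative for determinant one -/
def AltSL : Prop := ∀ M : Subgroup (GL Z3 F), M ≤ specialLinear Z3 F → (∀ a b, K.W a b ∈ M) →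
  (T : GL Z3 F) ∈ M → K.Fr ∈ M → K.Dg 1 * K.Fr * (K.Dg 1)⁻¹ ∈ M →
  (∀ g ∈ M, K.Nor g) ∨ ∀ s : Matrix.SpecialLinearGroup Z3 F, Matrix.SpecialLinearGroup.toGL s ∈ M

theorem Img.inv {g : GL Z3 F} {m : M2} (hm : det2 m = 1) (h : K.Img g m) : K.Img g⁻¹ (adj m) := fun a b => by
  obtain ⟨c, hc⟩ := h (app (adj m) a b).1 (app (adj m) a b).2
  rw [(adj_spec m hm).2] at hc
  refine ⟨c⁻¹, ?_⟩
  rw [show K.W a b = sc c⁻¹ * (sc c * K.W a b) by rw [← mul_assoc, ← map_mul, inv_mul_cancel, map_one, one_mul], ← hc,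
    conj_sc_mul]
  group

theorem img_P_conj_W : K.Img (K.Dg 1) mP := by
  have e : K.Dg 1 = K.W 0 1 * K.P * (K.W 0 1)⁻¹ := by
    rw [eq_mul_inv_iff_mul_eq]
    refine Units.ext (Matrix.ext fun z w => ?_)
    rw [Units.val_mul, Units.val_mul, Matrix.mul_apply, Matrix.mul_apply, sum_z3, sum_z3]
    rcases z3_cases z with rfl | rfl | rfl <;> rcases z3_cases w with rfl | rfl | rfl <;>
      simp +decide [Dg_val, W_val, P, ph, e_zero, mul_comm]
  have h := Img.mul K (Img.mul K (K.img_W 0 1) K.img_P) (Img.inv K det2_basic.1 (K.img_W 0 1))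
  rw [← e, show comp (comp m1 mP) (adj m1) = mP by decide] at h
  exact h

theorem nor_of_conj (Q M : Subgroup (GL Z3 F)) (hgens : K.gens ≤ Q) (hN : ∀ x ∈ M, K.Nor x)
    (hconj : ∀ g ∈ Q, ∀ h ∈ Q, h ∈ K.gens → (h : Matrix Z3 Z3 F).det = 1 → g * h * g⁻¹ ∈ M) :
    ∀ g ∈ Q, K.Nor g := by
  intro g hg a b
  have hF : K.Fr ∈ K.gens := Subgroup.subset_closure (by simp)
  have hFp : K.Dg 1 * K.Fr * (K.Dg 1)⁻¹ ∈ K.gens := mul_mem (mul_mem K.Dg_gens hF) (inv_mem K.Dg_gens)
  set x := g * K.W a b * g⁻¹ with hx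
  have hxQ : x ∈ M := hconj g hg _ (hgens (K.W_exact_mem a b)) (K.W_exact_mem a b) (K.det_W a b)
  obtain ⟨u, g', hg', e⟩ := K.exists_gen (hN x hxQ)
  obtain ⟨m, hm, him⟩ := K.exists_img_gens hg'
  replace him : K.Img x m := e ▸ Img.sc_mul K him u
  have hcube : ∀ (y : GL Z3 F) (n : M2), K.Img y n → (∃ c : Fˣ, y * y * y = sc c) → comp n (comp n n) = m1 := by
    rintro y n hy ⟨c, hc⟩
    have h1 := Img.mul K hy (Img.mul K hy hy)
    rw [← mul_assoc, hc] at h1
    refine Img.unique K h1 ?_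
    rw [← mul_one (sc c : GL Z3 F)]
    exact Img.sc_mul K K.img_one c
  have hW3 : ∀ a b, K.W a b * K.W a b * K.W a b = 1 := fun a b => by
    have h : ∀ x : Z3, x + x + x = 0 := fun x => by rcases z3_cases x with rfl | rfl | rfl <;> rfl
    rw [K.W_mul, mul_assoc, K.W_mul, ← mul_assoc, ← map_mul, ← K.e_add, h, h, K.W_zero, mul_one,
      show -(a * b) + -(a * (b + b)) = -(a * b + a * b + a * b) by ring, h, neg_zero, e_zero, map_one]
  have hm3 := hcube x m him ⟨1, by
    rw [map_one, hx, show g * K.W a b * g⁻¹ * (g * K.W a b * g⁻¹) * (g * K.W a b * g⁻¹) =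
      g * (K.W a b * K.W a b * K.W a b) * g⁻¹ by group, hW3, mul_one, mul_inv_cancel]⟩
  by_cases hm1 : m = m1
  · obtain ⟨v, p, q, hv⟩ := K.centr_of_img (hm1 ▸ him)
    exact ⟨v, p, q, hv⟩
  exfalso
  obtain ⟨h, n, hn, hhn, hh, hbad⟩ : ∃ (h : GL Z3 F) (n : M2), det2 n = 1 ∧ K.Img h n ∧ (h ∈ K.gens ∧ (h : Matrix Z3 Z3 F).det = 1) ∧
      wd n m ≠ m1 := by
    rcases three_witness m hm hm3 hm1 with hw | hw
    · exact ⟨K.Fr, mF, det2_basic.2.2.2.1, K.img_Fr, ⟨hF, K.det_Fr⟩, hw⟩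
    · refine ⟨_, mFp, mFp_det, ?_, ⟨hFp, by rw [det_conj, K.det_Fr]⟩, hw⟩
      have h := Img.mul K K.img_P_conj_W (Img.mul K K.img_Fr (Img.inv K det2_basic.2.2.1 K.img_P_conj_W))
      rwa [← mul_assoc] at h
  have hh' : g⁻¹ * h * g ∈ M := by
    have := hconj g⁻¹ (inv_mem hg) h (hgens hh.1) hh.1 hh.2
    rwa [inv_inv] at this
  obtain ⟨c, p, q, hpq⟩ := hN _ hh' a b
  have hy : h * x * h⁻¹ = g * (sc c * K.W p q) * g⁻¹ := by rw [← hpq, hx]; group
  refine hbad (hcube (x * (h * x * h⁻¹)) _ ?_ ?_)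
  · have h1 := Img.mul K him (Img.mul K hhn (Img.mul K him (Img.inv K hn hhn)))
    simp only [← mul_assoc] at h1 ⊢
    exact h1
  · obtain ⟨c', hc'⟩ : ∃ c' : Fˣ, x * (h * x * h⁻¹) = g * (sc c' * K.W (a + p) (b + q)) * g⁻¹ := by
      refine ⟨c * K.e (-(p * b)), ?_⟩
      rw [hy, hx, show g * K.W a b * g⁻¹ * (g * (sc c * K.W p q) * g⁻¹) = g * (K.W a b * (sc c * K.W p q)) * g⁻¹ by group,
        ← mul_assoc (K.W a b), ← sc_comm, mul_assoc (sc c), K.W_mul, ← mul_assoc (sc c), ← map_mul]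
    refine ⟨c' ^ 3, ?_⟩
    rw [hc', show ∀ z : GL Z3 F, g * z * g⁻¹ * (g * z * g⁻¹) * (g * z * g⁻¹) = g * (z * z * z) * g⁻¹ from fun z => by group,
      show sc c' * K.W (a + p) (b + q) * (sc c' * K.W (a + p) (b + q)) * (sc c' * K.W (a + p) (b + q)) =
        sc (c' ^ 3) * (K.W (a + p) (b + q) * K.W (a + p) (b + q) * K.W (a + p) (b + q)) by
        have hcm := (show Commute (sc c') (K.W (a + p) (b + q)) from sc_comm _ _).mul_pow 3
        simpa only [pow_succ, pow_zero, one_mul, map_mul] using hcm,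
      hW3, mul_one, ← sc_comm, mul_inv_cancel_right]

/-- the alternative in dimension three from its form for determinant one -/
theorem dich_of_alt (hA : K.AltSL) : K.Dich := by
  intro Q hgens hsc
  have hF : K.Fr ∈ K.gens := Subgroup.subset_closure (by simp)
  have hFp : K.Dg 1 * K.Fr * (K.Dg 1)⁻¹ ∈ K.gens := mul_mem (mul_mem K.Dg_gens hF) (inv_mem K.Dg_gens)
  have hT : (T : GL Z3 F) ∈ K.gens := Subgroup.subset_closure (by simp)
  have hFp1 : (K.Dg 1 * K.Fr * (K.Dg 1)⁻¹ : GL Z3 F) ∈ specialLinear Z3 F := mem_sl.2 (by rw [det_conj, K.det_Fr])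
  rcases hA (Q ⊓ specialLinear Z3 F) inf_le_right
    (fun a b => ⟨hgens (K.W_exact_mem a b), mem_sl.2 (K.det_W a b)⟩) ⟨hgens hT, mem_sl.2 det_T⟩
    ⟨hgens hF, mem_sl.2 K.det_Fr⟩ ⟨hgens hFp, hFp1⟩ with hN | hS
  swap
  · exact Or.inr fun s => (hS s).1
  exact Or.inl (K.nor_of_conj Q _ hgens hN fun g hg h hh _ hd =>
    ⟨(mul_mem (mul_mem hg hh) (inv_mem hg) : g * h * g⁻¹ ∈ Q), mem_sl.2 (by rw [det_conj, hd])⟩)

end Root

omit [NeZero (2 : F)] in
theorem exists_root [Fintype F] {p : ℕ} (hp : p.Prime) (hF : Fintype.card F = p) (hp3 : p % 3 = 1) :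
    Nonempty (Root F) := by
  haveI := Fact.mk hp
  haveI : CharP F p := charP_of_card_eq_prime hF
  have h7 : 7 ≤ p := by
    have h2 := hp.two_le
    by_contra hlt
    interval_cases p <;> first | omega | norm_num at hp
  obtain ⟨g, hg⟩ := exists_prime_orderOf_dvd_card' (G := Fˣ) 3 (by
    rw [Nat.card_units, Nat.card_eq_fintype_card, hF]; omega)
  have h3 : (g : F) ^ 3 = 1 := by rw [← Units.val_pow_eq_pow_val, ← hg, pow_orderOf_eq_one, Units.val_one]
  have h1 : (g : F) ≠ 1 := fun e => by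
    rw [Units.ext (e.trans Units.val_one.symm), orderOf_one] at hg; norm_num at hg
  have hne : ∀ m : ℕ, 0 < m → m < p → (m : F) ≠ 0 := fun m h0 hm e =>
    Nat.not_dvd_of_pos_of_lt h0 hm ((CharP.cast_eq_zero_iff F p m).1 e)
  exact ⟨⟨g, (mul_eq_zero.1 (show ((g : F) - 1) * ((g : F) * g + g + 1) = 0 by linear_combination h3)).resolve_left
    (sub_ne_zero.2 h1), by exact_mod_cast hne 3 (by norm_num) (by omega)⟩⟩

theorem card_of_data [Fintype F] (K : Root F) {R : Subgroup (GL (Fin 9) F)} (hd : IsLinearSymplecticTypeData 3 R) :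
    Nat.card R = 243 := by
  obtain ⟨p, n, -, -, hcase⟩ := hd.field
  have hz : Nat.card (Subgroup.center R) = 3 := by
    rcases hcase with ⟨-, -, hz, -⟩ | ⟨h, -⟩ | ⟨h, -⟩
    exacts [hz, absurd h (by norm_num), absurd h (by norm_num)]
  obtain ⟨-, -, -, m, hm, hR⟩ := hcase.resolve_right (fun h => by
    rcases h with ⟨h, -⟩ | ⟨h, -⟩ <;> exact absurd h (by norm_num))
  have hgcd : 3 * Nat.gcd 2 3 = 3 := by norm_num
  have hscen : ∀ x : R, x ∈ Subgroup.center R → ∃ c : Fˣ, (x : GL (Fin 9) F) = Asch.scHom c := fun x hx => by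
    obtain ⟨c, hc⟩ := hd.absIrred.2 ((x : GL (Fin 9) F) : Matrix (Fin 9) (Fin 9) F) (by
      rintro _ ⟨g, hg, rfl⟩
      exact congrArg (fun y : R => ((y : GL (Fin 9) F) : Matrix (Fin 9) (Fin 9) F)) (Subgroup.mem_center_iff.1 hx ⟨g, hg⟩).symm)
    obtain ⟨d, hd⟩ := SympType.exists_sc_of_smul hc
    exact ⟨d, hd⟩
  have hexp : ∀ x : R, x ^ 3 = 1 := fun x => by
    have h := Monoid.pow_exponent_eq_one x
    rwa [hd.symplecticType.exponent_eq, hgcd] at h
  have hnc : ¬ PrimeDim.Comm R := fun hc => by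
    have h1 : Subgroup.center R = ⊤ := eq_top_iff.2 fun x _ => Subgroup.mem_center_iff.2 fun y => Subtype.ext (hc _ y.2 _ x.2)
    rw [h1, Subgroup.card_top, hR] at hz
    have : 3 ^ 3 ≤ 3 ^ (1 + 2 * m) := Nat.pow_le_pow_right (by norm_num) (by omega)
    omega
  have hIS : Asch.IsSympNormal 3 R R :=
    { le := le_rfl
      normalised := fun h hh x hx => mul_mem (mul_mem hh hx) (inv_mem hh)
      nonscalar := fun hle => hnc fun x hx y _ => Asch.scalar_comm' (hle hx) y
      abs := hd.absIrred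
      noncomm := hnc
      pow := fun x hx => by rw [hgcd]; exact congrArg Subtype.val (hexp ⟨x, hx⟩)
      comm := fun x hx y hy => by
        obtain ⟨c, hc⟩ := hscen _ (comm_central hd.symplecticType.pGroup hd.symplecticType.cyclic_of_characteristic
          ⟨x, hx⟩ ⟨y, hy⟩)
        exact ⟨c, hc.symm⟩
      symp := hd.symplecticType
      scalar_mem := fun c hc => by
        rw [hgcd] at hc
        haveI : Nontrivial (Subgroup.center R) := Finite.one_lt_card_iff_nontrivial.1 (by rw [hz]; norm_num)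
        obtain ⟨z, hz1⟩ := exists_ne (1 : Subgroup.center R)
        obtain ⟨d, hd'⟩ := hscen z.1 z.2
        have hd3 : d ^ 3 = 1 := Asch.scHom_injective (ι := Fin 9) (by
          rw [map_pow, map_one, ← hd']; exact congrArg Subtype.val (hexp z.1))
        have hd1 : d ≠ 1 := fun e => hz1 (Subtype.ext (Subtype.ext (by rw [hd', e, map_one]; rfl)))
        obtain ⟨j, hj⟩ := K.exists_e (c := (d : F)) (by rw [← Units.val_pow_eq_pow_val, hd3, Units.val_one])
        obtain ⟨k, hk⟩ := K.exists_e (c := (c : F)) (by rw [← Units.val_pow_eq_pow_val, hc, Units.val_one])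
        have hj0 : j ≠ 0 := fun e => hd1 (by rw [Units.ext hj, e, Root.e_zero])
        have hpow : ∀ n : ℕ, K.e ((n : Z3) * j) = d ^ n := fun n => by
          induction n with
          | zero => rw [Nat.cast_zero, zero_mul, Root.e_zero, pow_zero]
          | succ n ih => rw [Nat.cast_succ, add_mul, one_mul, K.e_add, ih, pow_succ, ← Units.ext hj]
        have hk' : c = d ^ (k * j).val := by
          rw [← hpow, ZMod.natCast_zmod_val, Units.ext hk,
            show k * j * j = k from ((by decide : ∀ k j : Z3, j ≠ 0 → k * j * j = k) k j hj0)]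
        rw [hk', map_pow, ← hd']
        exact pow_mem z.1.2 _
      root := ⟨K.l, IsPrimitiveRoot.iff_orderOf.2 (by
        rw [orderOf_units]
        exact orderOf_eq_prime (hp := ⟨Nat.prime_three⟩) K.cubeU fun e => K.ne_one (by rw [e, Units.val_one]))⟩ }
  have hdvd : 3 * Nat.gcd 2 3 ∣ Nat.card Fˣ := by
    have ho : orderOf K.l = 3 :=
      orderOf_eq_prime (hp := ⟨Nat.prime_three⟩) K.cubeU fun e => K.ne_one (by rw [e, Units.val_one])
    rw [hgcd, ← ho]
    exact orderOf_dvd_natCard _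
  rw [(Asch.monomial hIS hdvd).2, hz, Fintype.card_fin]; norm_num

end Cfsg.Agent.ClassicalMax.SympThree
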