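import Cfsg.Agent.ClassicalMax.SympThree.Invol

/-!
Coordinates adapted to the involution of the inner factor and to its diagonal element of order three: the centraliser
of both is block diagonal for the three eigenlines, the block index becoming the coordinate.
-/

set_option autoImplicit false

namespace Cfsg.Agent.ClassicalMax.SympThree

open Matrix

variable {F : Type*} [Field F]
variable [NeZero (2 : F)]

namespace Root

variable (K : Root F)

/-- columns: the zeroth vector, sum and difference of the two others -/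
def Qv : Matrix Z3 Z3 F :=
  Matrix.of fun z w =>
    if z = 0 then (if w = 0 then 1 else 0) else if w = 0 then 0 else if z = 2 ∧ w = 2 then -1 else 1

/-- the change of frame in dimension three -/
def Qm : GL Z3 F where
  val := Qv
  inv := Matrix.of fun z w =>
    if z = 0 then (if w = 0 then 1 else 0) else if w = 0 then 0 else if z = 2 ∧ w = 2 then -(2 : F)⁻¹ else (2 : F)⁻¹
  val_inv := by
    have h2 := K.two
    ext z w
    rw [Matrix.mul_apply, sum_z3, Matrix.one_apply]
    rcases z3_cases z with rfl | rfl | rfl <;> rcases z3_cases w with rfl | rfl | rfl <;>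
      simp +decide [Qv] <;> field_simp <;> ring
  inv_val := by
    have h2 := K.two
    ext z w
    rw [Matrix.mul_apply, sum_z3, Matrix.one_apply]
    rcases z3_cases z with rfl | rfl | rfl <;> rcases z3_cases w with rfl | rfl | rfl <;>
      simp +decide [Qv] <;> field_simp <;> ring

theorem Qm_val (z w : Z3) : (K.Qm : Matrix Z3 Z3 F) z w =
    if z = 0 then (if w = 0 then 1 else 0) else if w = 0 then 0 else if z = 2 ∧ w = 2 then -1 else 1 := rfl

/-- diagonal matrices -/
def Di (d : Z3 → Fˣ) : GL Z3 F where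
  val := Matrix.diagonal fun z => (d z : F)
  inv := Matrix.diagonal fun z => (((d z)⁻¹ : Fˣ) : F)
  val_inv := by rw [Matrix.diagonal_mul_diagonal]; simp
  inv_val := by rw [Matrix.diagonal_mul_diagonal]; simp

theorem Di_val (d : Z3 → Fˣ) (z w : Z3) : (Di d : Matrix Z3 Z3 F) z w = if z = w then (d z : F) else 0 :=
  Matrix.diagonal_apply _ _ _

theorem T_Qm : (T : GL Z3 F) * K.Qm = K.Qm * Di fun a => if a = 2 then 1 else -1 := Units.ext (Matrix.ext fun z w => by
  rw [Units.val_mul, Units.val_mul, Matrix.mul_apply, Matrix.mul_apply, sum_z3, sum_z3]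
  rcases z3_cases z with rfl | rfl | rfl <;> rcases z3_cases w with rfl | rfl | rfl <;>
    simp +decide [T_val, Di_val, Qm_val])

theorem Dg_Qm (x : Z3) : K.Dg x * K.Qm = K.Qm * Di fun a => if a = 0 then K.e x else 1 :=
  Units.ext (Matrix.ext fun z w => by
  rw [Units.val_mul, Units.val_mul, Matrix.mul_apply, Matrix.mul_apply, sum_z3, sum_z3]
  rcases z3_cases z with rfl | rfl | rfl <;> rcases z3_cases w with rfl | rfl | rfl <;>
    simp +decide [Dg_val, Di_val, Qm_val])

/-- the frame -/
def C9 : GL I9 F := dgn K.Qm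

/-- block diagonal in the three eigenlines -/
def ch : (Z3 → GL Z3 F) →* GL I9 F where
  toFun f := K.C9 * (sw * blk f * sw) * K.C9⁻¹
  map_one' := by rw [map_one, mul_one, sw_sq, mul_one, mul_inv_cancel]
  map_mul' f g := by
    rw [map_mul]
    calc K.C9 * (sw * (blk f * blk g) * sw) * K.C9⁻¹
        = K.C9 * (sw * blk f * 1 * (blk g * sw)) * K.C9⁻¹ := by group
      _ = _ := by rw [← sw_sq (F := F)]; group

theorem ch_apply (f : Z3 → GL Z3 F) : K.ch f = K.C9 * (sw * blk f * sw) * K.C9⁻¹ := rfl

theorem ch_inj {f g : Z3 → GL Z3 F} (h : K.ch f = K.ch g) : f = g :=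
  blk_inj (mul_left_cancel (mul_right_cancel (mul_left_cancel (mul_right_cancel h))))

theorem ch_const (g : GL Z3 F) : K.ch (fun _ => g) = col g := by
  rw [ch_apply, ← dgn_eq, ← col_apply, C9, dgn_col_comm, mul_inv_cancel_right]

theorem ch_sc (d : Z3 → Fˣ) : K.ch (fun a => sc (d a)) = dgn (K.Qm * Di d * K.Qm⁻¹) := by
  have h : sw * blk (fun a => sc (d a)) * (sw : GL I9 F) = dgn (Di d) := Units.ext (Matrix.ext fun z w => by
    rw [sw_conj_val, blk_val, dgn_val, Di_val, sc_val, Matrix.smul_apply, Matrix.one_apply, smul_eq_mul]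
    by_cases h1 : z.1 = w.1 <;> by_cases h2 : z.2 = w.2 <;> simp [h1, h2])
  rw [ch_apply, h, C9, ← map_mul, ← map_inv, ← map_mul]

theorem dgn_T_eq : dgn (T : GL Z3 F) = K.ch (fun a => sc (if a = 2 then 1 else -1)) := by
  rw [K.ch_sc, ← K.T_Qm, mul_inv_cancel_right]

theorem dgn_Dg_eq (x : Z3) : dgn (K.Dg x) = K.ch (fun a => sc (if a = 0 then K.e x else 1)) := by
  rw [K.ch_sc, ← K.Dg_Qm, mul_inv_cancel_right]

theorem comm_T (f : Z3 → GL Z3 F) : K.ch f * dgn T = dgn T * K.ch f := by
  rw [K.dgn_T_eq, ← map_mul, ← map_mul]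
  congr 1
  funext a
  exact (sc_comm _ _).symm

theorem comm_Dg (f : Z3 → GL Z3 F) (x : Z3) : K.ch f * dgn (K.Dg x) = dgn (K.Dg x) * K.ch f := by
  rw [K.dgn_Dg_eq, ← map_mul, ← map_mul]
  congr 1
  funext a
  exact (sc_comm _ _).symm

theorem ch_pair {f : Z3 → GL Z3 F} (h12 : f 1 = f 2) : K.ch f = sw * blk f * sw := by
  rw [ch_apply, mul_inv_eq_iff_eq_mul]
  refine Units.ext (Matrix.ext fun z w => ?_)
  rw [Units.val_mul, Units.val_mul (sw * blk f * sw), Matrix.mul_apply, Matrix.mul_apply,
    Finset.sum_eq_single ((w.1, z.2) : I9), Finset.sum_eq_single ((z.1, w.2) : I9)]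
  · rw [C9, dgn_val, dgn_val, sw_conj_val, sw_conj_val, blk_val, blk_val]
    simp only [if_true]
    rw [mul_comm]
    by_cases hz : z.1 = 0 <;> by_cases hw : w.1 = 0
    · rw [hz, hw]
    · rw [Qm_val, if_pos hz, if_neg hw, mul_zero, mul_zero]
    · rw [Qm_val, if_neg hz, if_pos hw, mul_zero, mul_zero]
    · have e : ∀ a : Z3, a ≠ 0 → f a = f 1 := fun a ha => by
        rcases z3_cases a with rfl | rfl | rfl
        exacts [absurd rfl ha, rfl, h12.symm]
      rw [e _ hz, e _ hw]
  · intro x _ hx
    rw [C9, dgn_val (w := w), sw_conj_val, blk_val]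
    by_cases h1 : x.2 = w.2
    · rw [if_neg (fun e : z.1 = x.1 => hx (Prod.ext e.symm h1)), zero_mul]
    · rw [if_neg h1, mul_zero]
  · exact fun h => absurd (Finset.mem_univ _) h
  · intro x _ hx
    rw [C9, dgn_val, sw_conj_val, blk_val]
    by_cases h1 : x.1 = w.1
    · rw [if_neg (fun e : z.2 = x.2 => hx (Prod.ext h1 e.symm)), zero_mul]
    · rw [if_neg h1, mul_zero]
  · exact fun h => absurd (Finset.mem_univ _) h

/-- entries in the frame -/
def chart (h : GL I9 F) : GL I9 F := K.C9⁻¹ * h * K.C9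

theorem chart_mul (g h : GL I9 F) : K.chart (g * h) = K.chart g * K.chart h := by rw [chart, chart, chart]; group

theorem chart_one : K.chart 1 = 1 := by rw [chart]; group

theorem chart_ch (f : Z3 → GL Z3 F) : K.chart (K.ch f) = sw * blk f * sw := by rw [chart, ch_apply]; group

theorem chart_dgn_T : K.chart (dgn T) = dgn (Di fun a => if a = 2 then 1 else -1) := by
  rw [chart, C9, ← map_inv, ← map_mul, ← map_mul, mul_assoc, K.T_Qm, inv_mul_cancel_left]

theorem chart_dgn_Dg (x : Z3) : K.chart (dgn (K.Dg x)) = dgn (Di fun a => if a = 0 then K.e x else 1) := by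
  rw [chart, C9, ← map_inv, ← map_mul, ← map_mul, mul_assoc, K.Dg_Qm, inv_mul_cancel_left]

theorem dgn_Di_val (d : Z3 → Fˣ) :
    ((dgn (Di d) : GL I9 F) : Matrix I9 I9 F) = Matrix.diagonal fun z => (d z.1 : F) := Matrix.ext fun z w => by
  rw [dgn_val, Di_val, Matrix.diagonal_apply]
  by_cases h1 : z.1 = w.1 <;> by_cases h2 : z.2 = w.2 <;> simp [h1, h2, Prod.ext_iff]

theorem zero_of_comm {h : GL I9 F} {d : Z3 → Fˣ} (hd : h * dgn (Di d) = dgn (Di d) * h) {z w : I9}
    (hne : d z.1 ≠ d w.1) : (h : Matrix I9 I9 F) z w = 0 := by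
  have e := congrArg (fun m : GL I9 F => (m : Matrix I9 I9 F) z w) hd
  simp only [Units.val_mul, dgn_Di_val, Matrix.mul_diagonal, Matrix.diagonal_mul] at e
  by_contra h0
  exact hne (Units.ext (mul_left_cancel₀ h0 ((mul_comm _ _).trans e.symm)))

/-- an element commuting with both is block diagonal in the frame -/
theorem exists_ch {h : GL I9 F} (hT : h * dgn T = dgn T * h) (hD : h * dgn (K.Dg 1) = dgn (K.Dg 1) * h) :
    ∃ f, h = K.ch f := by
  have h1 : K.chart h * K.chart (dgn T) = K.chart (dgn T) * K.chart h := by rw [← chart_mul, ← chart_mul, hT]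
  have h2 : K.chart h * K.chart (dgn (K.Dg 1)) = K.chart (dgn (K.Dg 1)) * K.chart h := by
    rw [← chart_mul, ← chart_mul, hD]
  rw [chart_dgn_T] at h1
  rw [chart_dgn_Dg] at h2
  have hz : ∀ z w : I9, z.1 ≠ w.1 → (K.chart h : Matrix I9 I9 F) z w = 0 := fun z w hne => by
    by_cases hd : (if z.1 = 0 then K.e 1 else (1 : Fˣ)) = if w.1 = 0 then K.e 1 else 1
    · refine zero_of_comm h1 fun e => hne ?_
      have h10 : K.e 1 ≠ 1 := fun e' => K.ne_one (by rw [← K.eval1, e', Units.val_one])
      have hm : (1 : Fˣ) ≠ -1 := fun e' => K.two (by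
        have := congrArg Units.val e'
        rw [Units.val_neg, Units.val_one] at this
        linear_combination this)
      rcases z3_cases z.1 with a | a | a <;> rcases z3_cases w.1 with b | b | b <;> rw [a, b] at e hd ⊢ <;>
        first
        | rfl
        | (simp +decide at hd; exact absurd hd (by first | exact h10 | exact h10.symm))
        | (simp +decide at e; exact absurd e (by first | exact hm | exact hm.symm))
    · exact zero_of_comm h2 hd
  have hc : sw * K.chart h * sw * (blk fun i => sc (K.e i)) = (blk fun i => sc (K.e i)) * (sw * K.chart h * sw) := by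
    refine Units.ext (Matrix.ext fun z w => ?_)
    have hX : ((blk fun i => sc (K.e i) : GL I9 F) : Matrix I9 I9 F) = Matrix.diagonal fun z => (K.e z.2 : F) :=
      Matrix.ext fun z w => by
        rw [blk_val, Matrix.diagonal_apply, sc_val, Matrix.smul_apply, Matrix.one_apply, smul_eq_mul]
        by_cases e1 : z.1 = w.1 <;> by_cases e2 : z.2 = w.2 <;> simp [e1, e2, Prod.ext_iff]
    rw [Units.val_mul, Units.val_mul (blk _), hX, Matrix.mul_diagonal, Matrix.diagonal_mul, sw_conj_val]
    by_cases e : z.2 = w.2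
    · rw [e, mul_comm]
    · rw [hz _ _ (show (z.2, z.1).1 ≠ (w.2, w.1).1 from e), zero_mul, mul_zero]
  obtain ⟨f, hf⟩ := K.comm_iff hc
  refine ⟨f, ?_⟩
  rw [ch_apply, ← hf, show sw * (sw * K.chart h * sw) * sw = sw * sw * K.chart h * (sw * sw) by group, sw_sq, one_mul,
    mul_one, chart]
  group

/-- the action on the line of the eigenvalue one of the involution -/
def rho (h : GL I9 F) : Matrix Z3 Z3 F := Matrix.of fun i i' => (K.chart h : Matrix I9 I9 F) (2, i) (2, i')

theorem rho_ch (f : Z3 → GL Z3 F) : K.rho (K.ch f) = (f 2 : Matrix Z3 Z3 F) := Matrix.ext fun i i' => by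
  rw [rho, Matrix.of_apply, chart_ch, sw_conj_val, blk_val, if_pos rfl]

theorem rho_one : K.rho 1 = 1 := Matrix.ext fun i i' => by
  rw [rho, Matrix.of_apply, chart_one, Units.val_one]
  simp [Matrix.one_apply]

theorem rho_mul {g h : GL I9 F} (hg : g * dgn T = dgn T * g) : K.rho (g * h) = K.rho g * K.rho h :=
  Matrix.ext fun i i' => by
  have h1 : K.chart g * K.chart (dgn T) = K.chart (dgn T) * K.chart g := by rw [← chart_mul, ← chart_mul, hg]
  rw [chart_dgn_T] at h1
  rw [rho, Matrix.of_apply, chart_mul, Units.val_mul, Matrix.mul_apply, Matrix.mul_apply, Fintype.sum_prod_type,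
    Finset.sum_eq_single (2 : Z3)]
  · rfl
  · intro a _ ha
    refine Finset.sum_eq_zero fun j _ => ?_
    rw [zero_of_comm h1 (z := (2, i)) (w := (a, j)) ?_, zero_mul]
    show (if (2 : Z3) = 2 then (1 : Fˣ) else -1) ≠ if a = 2 then 1 else -1
    rw [if_pos rfl, if_neg ha]
    intro e
    exact K.two (by
      have := congrArg Units.val e
      rw [Units.val_neg, Units.val_one] at this
      linear_combination this)
  · exact fun h => absurd (Finset.mem_univ _) h

/-- the action as a homomorphism of the centraliser of the involution -/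
def rhoHom : Subgroup.centralizer ({dgn T} : Set (GL I9 F)) →* GL Z3 F :=
  MonoidHom.toHomUnits
    { toFun := fun g => K.rho g.1
      map_one' := K.rho_one
      map_mul' := fun g h => K.rho_mul (Subgroup.mem_centralizer_singleton_iff.1 g.2) }

theorem rhoHom_val (g : Subgroup.centralizer ({dgn T} : Set (GL I9 F))) :
    (K.rhoHom g : Matrix Z3 Z3 F) = K.rho g.1 := rfl

theorem rho_col (g : GL Z3 F) : K.rho (col g) = (g : Matrix Z3 Z3 F) := by rw [← K.ch_const, K.rho_ch]

end Root

end Cfsg.Agent.ClassicalMax.SympThree
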