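import Cfsg.Agent.ClassicalMax.SympThree.Frame

/-!
Coordinates in which the four generators are those of the model, and the normaliser.
-/

set_option autoImplicit false

namespace Cfsg.Agent.ClassicalMax.SympThree

open Matrix

variable {F : Type*} [Field F]

theorem pow_val_add {g : GL I9 F} (hg : g ^ 3 = 1) (s : Z3) : g * g ^ s.val = g ^ (s + 1).val := by
  rcases z3_cases s with rfl | rfl | rfl
  · show g * g ^ 0 = g ^ 1
    rw [pow_zero, pow_one, mul_one]
  · show g * g ^ 1 = g ^ 2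
    rw [pow_one, pow_two]
  · show g * g ^ 2 = g ^ 0
    rw [← pow_succ', hg, pow_zero]

namespace Root

variable (K : Root F)

theorem sum_e (i : Z3) : ∑ s, ((K.e (s * i) : Fˣ) : F) = if i = 0 then 3 else 0 := by
  rw [sum_z3]
  rcases z3_cases i with rfl | rfl | rfl
  · simp [Root.e_zero]; norm_num
  · rw [if_neg (by decide), show (1 : Z3) * 1 = 1 by decide, show (2 : Z3) * 1 = 2 by decide, zero_mul, K.eval0,
      K.eval1, K.eval2]
    linear_combination K.eqn
  · rw [if_neg (by decide), show (1 : Z3) * 2 = 2 by decide, show (2 : Z3) * 2 = 1 by decide, zero_mul, K.eval0,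
      K.eval1, K.eval2]
    linear_combination K.eqn

/-- three times the projection to an eigenspace -/
def proj (Y : GL I9 F) (k : Z3) : Matrix I9 I9 F :=
  1 + (K.e (-k) : F) • (Y : Matrix I9 I9 F) + (K.e (-(2 * k)) : F) • ((Y : Matrix I9 I9 F) * Y)

theorem proj_eig {Y : GL I9 F} {x : I9 → F} {m : Z3} (h : (Y : Matrix I9 I9 F) *ᵥ x = (K.e m : F) • x) (k : Z3) :
    K.proj Y k *ᵥ x = (if m = k then (3 : F) else 0) • x := by
  rw [proj, Matrix.add_mulVec, Matrix.add_mulVec, Matrix.one_mulVec, Matrix.smul_mulVec, Matrix.smul_mulVec,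
    ← Matrix.mulVec_mulVec, h, Matrix.mulVec_smul, h, smul_smul, smul_smul, smul_smul]
  have h1 := K.sum_e (m - k)
  rw [sum_z3, zero_mul, one_mul, K.eval0] at h1
  simp only [sub_eq_zero] at h1
  rw [← h1, add_smul, add_smul, one_smul, ← Units.val_mul, ← Units.val_mul, ← Units.val_mul, ← K.e_add, ← K.e_add,
    ← K.e_add]
  congr 4 <;> ring

theorem mul_proj {Y : GL I9 F} (hY : Y ^ 3 = 1) (k : Z3) :
    (Y : Matrix I9 I9 F) * K.proj Y k = (K.e k : F) • K.proj Y k := by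
  have h3 : (Y : Matrix I9 I9 F) * ((Y : Matrix I9 I9 F) * Y) = 1 := by
    rw [← Units.val_mul, ← Units.val_mul, ← pow_two, ← pow_succ', hY, Units.val_one]
  have h : ∀ x : Z3, x + x + x = 0 := fun x => by rcases z3_cases x with rfl | rfl | rfl <;> rfl
  rw [proj, Matrix.mul_add, Matrix.mul_add, Matrix.mul_one, Matrix.mul_smul, Matrix.mul_smul, h3, smul_add, smul_add,
    smul_smul, smul_smul]
  simp only [← Units.val_mul, ← K.e_add]
  rw [add_neg_cancel, K.eval0, one_smul,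
    show k + -(2 * k) = -k by ring, show (K.e (-(2 * k)) : F) = K.e k by
      congr 2; linear_combination -(h k)]
  abel

theorem sum_proj (Y : GL I9 F) : ∑ k, K.proj Y k = (3 : F) • (1 : Matrix I9 I9 F) := by
  have h1 := K.sum_e 1
  have h2 := K.sum_e 2
  rw [if_neg (by decide), sum_z3] at h1 h2
  rw [sum_z3, proj, proj, proj]
  rw [zero_mul, K.eval0, show (1 : Z3) * 1 = 1 by decide, show (2 : Z3) * 1 = 2 by decide] at h1
  rw [neg_zero, mul_zero, neg_zero, K.eval0, show -(1 : Z3) = 2 by decide, show -(2 : Z3) = 1 by decide,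
    show -((2 : Z3) * 1) = 1 by decide, show -((2 : Z3) * 2) = 2 by decide, one_smul, one_smul]
  clear h2
  calc _ = (3 : F) • (1 : Matrix I9 I9 F) + (1 + (K.e 1 : F) + K.e 2) • (Y : Matrix I9 I9 F) +
      (1 + (K.e 1 : F) + K.e 2) • ((Y : Matrix I9 I9 F) * Y) := by module
    _ = _ := by rw [h1, zero_smul, zero_smul, add_zero, add_zero]

theorem exists_proj {Y : GL I9 F} {x : I9 → F} (hx : x ≠ 0) : ∃ k, K.proj Y k *ᵥ x ≠ 0 := by
  by_contra h
  push Not at h
  have h1 := congrArg (· *ᵥ x) (K.sum_proj Y)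
  simp only [Matrix.sum_mulVec, h, Finset.sum_const_zero, Matrix.smul_mulVec, Matrix.one_mulVec] at h1
  exact hx ((smul_eq_zero.1 h1.symm).resolve_left K.three)

end Root

namespace Abs.Quad

variable [Fintype F] {K : Root F} {R : Subgroup (GL I9 F)} {A B C D : GL I9 F} (q : Abs.Quad K R A B C D) (hR : Abs R)
include q hR

theorem cubes : A ^ 3 = 1 ∧ B ^ 3 = 1 ∧ C ^ 3 = 1 ∧ D ^ 3 = 1 := by
  refine ⟨?_, ?_, ?_, ?_⟩ <;> rw [pow_succ, pow_two]
  exacts [hR.cube A q.memA, hR.cube B q.memB, hR.cube C q.memC, hR.cube D q.memD]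

theorem exists_fixed : ∃ w : I9 → F, w ≠ 0 ∧ (A : Matrix I9 I9 F) *ᵥ w = w ∧ (C : Matrix I9 I9 F) *ᵥ w = w := by
  obtain ⟨hA, hB, hC, hD⟩ := q.cubes hR
  obtain ⟨i, hi⟩ := K.exists_proj (Y := A) (x := Pi.single 0 1) (by simp)
  set x := K.proj A i *ᵥ Pi.single 0 1 with hx
  obtain ⟨j, hne⟩ := K.exists_proj (Y := C) hi
  set S0 := K.proj C j *ᵥ x with hS0
  have hCA : (A : Matrix I9 I9 F) * K.proj C j = K.proj C j * (A : Matrix I9 I9 F) := by
    have hc : (A : Matrix I9 I9 F) * C = C * A := by rw [← Units.val_mul, q.AC, Units.val_mul]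
    rw [Root.proj, Matrix.mul_add, Matrix.mul_add, Matrix.add_mul, Matrix.add_mul, Matrix.mul_one, Matrix.one_mul,
      Matrix.mul_smul, Matrix.mul_smul, Matrix.smul_mul, Matrix.smul_mul, hc, ← Matrix.mul_assoc (A : Matrix I9 I9 F), hc,
      Matrix.mul_assoc (C : Matrix I9 I9 F), hc, ← Matrix.mul_assoc (C : Matrix I9 I9 F)]
  have hAS : (A : Matrix I9 I9 F) *ᵥ S0 = (K.e i : F) • S0 := by
    rw [hS0, Matrix.mulVec_mulVec, hCA, ← Matrix.mulVec_mulVec, hx, Matrix.mulVec_mulVec _ _ (K.proj A i),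
      K.mul_proj hA, Matrix.smul_mulVec, Matrix.mulVec_smul]
  have hCS : (C : Matrix I9 I9 F) *ᵥ S0 = (K.e j : F) • S0 := by
    rw [hS0, Matrix.mulVec_mulVec, K.mul_proj hC, Matrix.smul_mulVec]
  set X := B ^ (-i).val * D ^ (-j).val
  have hAX : A * X = sc (K.e (-i)) * (X * A) := by
    have h1 := Abs.conj_mul K (Abs.conj_pow_mul K q.AB (-i).val)
      (Abs.conj_pow_mul K (show A * D * A⁻¹ = sc (K.e 0) * D by rw [Root.e_zero, map_one, one_mul, q.AD, mul_inv_cancel_right]) (-j).val)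
    rw [ZMod.natCast_zmod_val, mul_one, mul_zero, add_zero, mul_inv_eq_iff_eq_mul, mul_assoc] at h1
    exact h1
  have hCX : C * X = sc (K.e (-j)) * (X * C) := by
    have h1 := Abs.conj_mul K
      (Abs.conj_pow_mul K (show C * B * C⁻¹ = sc (K.e 0) * B by rw [Root.e_zero, map_one, one_mul, ← q.BC, mul_inv_cancel_right]) (-i).val)
      (Abs.conj_pow_mul K q.CD (-j).val)
    rw [ZMod.natCast_zmod_val, ZMod.natCast_zmod_val, mul_one, mul_zero, zero_add, mul_inv_eq_iff_eq_mul, mul_assoc] at h1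
    exact h1
  have hfix : ∀ (Y : GL I9 F) (k : Z3), Y * X = sc (K.e (-k)) * (X * Y) →
      (Y : Matrix I9 I9 F) *ᵥ S0 = (K.e k : F) • S0 →
      (Y : Matrix I9 I9 F) *ᵥ ((X : Matrix I9 I9 F) *ᵥ S0) = (X : Matrix I9 I9 F) *ᵥ S0 := fun Y k h h' => by
    rw [Matrix.mulVec_mulVec, ← Units.val_mul, h, val_sc_mul, Units.val_mul, Matrix.smul_mulVec, ← Matrix.mulVec_mulVec,
      h', Matrix.mulVec_smul, smul_smul, ← Units.val_mul, ← K.e_add, neg_add_cancel, K.eval0, one_smul]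
  refine ⟨(X : Matrix I9 I9 F) *ᵥ S0, fun h => hne ?_, hfix A i hAX hAS, hfix C j hCX hCS⟩
  have := congrArg (((X⁻¹ : GL I9 F) : Matrix I9 I9 F) *ᵥ ·) h
  simpa [Matrix.mulVec_mulVec, ← Units.val_mul] using this

/-- conjugation of the generators to those of the model -/
theorem exists_coord : ∃ P : GL I9 F, P * A * P⁻¹ = col (K.W 1 0) ∧ P * B * P⁻¹ = col (K.W 0 1) ∧
    P * C * P⁻¹ = dgn (K.W 1 0) ∧ P * D * P⁻¹ = dgn (K.W 0 1) := by
  obtain ⟨hA, hB, hC, hD⟩ := q.cubes hR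
  obtain ⟨w, hw0, hwA, hwC⟩ := q.exists_fixed hR
  let v : I9 → I9 → F := fun z => ((D ^ z.1.val * B ^ z.2.val : GL I9 F) : Matrix I9 I9 F) *ᵥ w
  have h0 : ∀ {x y : GL I9 F}, x * y = y * x → x * y * x⁻¹ = sc (K.e 0) * y := fun h => by
    rw [Root.e_zero, map_one, one_mul, h, mul_inv_cancel_right]
  have heig : ∀ (Y : GL I9 F) (a b : Z3), Y * D * Y⁻¹ = sc (K.e a) * D → Y * B * Y⁻¹ = sc (K.e b) * B →
      (Y : Matrix I9 I9 F) *ᵥ w = w → ∀ z : I9, (Y : Matrix I9 I9 F) *ᵥ v z = (K.e (z.1 * a + z.2 * b) : F) • v z :=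
    fun Y a b ha hb hw z => by
    have h1 := Abs.conj_mul K (Abs.conj_pow_mul K ha z.1.val) (Abs.conj_pow_mul K hb z.2.val)
    rw [ZMod.natCast_zmod_val, ZMod.natCast_zmod_val, mul_inv_eq_iff_eq_mul] at h1
    show _ *ᵥ (_ *ᵥ w) = _
    rw [Matrix.mulVec_mulVec, ← Units.val_mul, h1, Units.val_mul, val_sc_mul, ← Matrix.mulVec_mulVec, hw,
      Matrix.smul_mulVec]
  have hvA : ∀ z, (A : Matrix I9 I9 F) *ᵥ v z = (K.e z.2 : F) • v z := fun z => by
    simpa using heig A 0 1 (h0 q.AD) q.AB hwA z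
  have hvC : ∀ z, (C : Matrix I9 I9 F) *ᵥ v z = (K.e z.1 : F) • v z := fun z => by
    simpa using heig C 1 0 q.CD (h0 q.BC.symm) hwC z
  have hvB : ∀ z : I9, (B : Matrix I9 I9 F) *ᵥ v z = v (z.1, z.2 + 1) := fun z => by
    show _ *ᵥ (_ *ᵥ w) = _
    rw [Matrix.mulVec_mulVec, ← Units.val_mul, ← mul_assoc, ((Commute.pow_right q.BD z.1.val)).eq, mul_assoc,
      pow_val_add hB]
  have hvD : ∀ z : I9, (D : Matrix I9 I9 F) *ᵥ v z = v (z.1 + 1, z.2) := fun z => by
    show _ *ᵥ (_ *ᵥ w) = _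
    rw [Matrix.mulVec_mulVec, ← Units.val_mul, ← mul_assoc, pow_val_add hD]
  let M : Matrix I9 I9 F := Matrix.of fun z z' => v z' z
  have hinj : Function.Injective M.mulVec := by
    have key : ∀ c : I9 → F, M *ᵥ c = 0 → c = 0 := fun c hc => funext fun y => by
      have hsum : ∑ z, c z • v z = 0 := by
        funext x
        rw [← hc, Finset.sum_apply]
        simp [M, Matrix.mulVec, dotProduct, mul_comm]
      have h1 : (K.proj C y.1 * K.proj A y.2) *ᵥ ∑ z, c z • v z = 0 := by rw [hsum, Matrix.mulVec_zero]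
      rw [Matrix.mulVec_sum, Finset.sum_eq_single y, Matrix.mulVec_smul, ← Matrix.mulVec_mulVec, K.proj_eig (hvA y),
        if_pos rfl, Matrix.mulVec_smul, K.proj_eig (hvC y), if_pos rfl, smul_smul, smul_smul] at h1
      · have hvy : v y ≠ 0 := fun h => hw0 (by
          have h' := congrArg ((((D ^ y.1.val * B ^ y.2.val)⁻¹ : GL I9 F) : Matrix I9 I9 F) *ᵥ ·) h
          simp only [v, Matrix.mulVec_mulVec, Matrix.mulVec_zero] at h'
          rwa [← Units.val_mul, inv_mul_cancel, Units.val_one, Matrix.one_mulVec] at h')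
        simpa [K.three] using (smul_eq_zero.1 h1).resolve_right hvy
      · intro z _ hz
        rw [Matrix.mulVec_smul, ← Matrix.mulVec_mulVec, K.proj_eig (hvA z), Matrix.mulVec_smul, K.proj_eig (hvC z)]
        by_cases h2 : z.2 = y.2
        · rw [if_neg (fun e : z.1 = y.1 => hz (Prod.ext e h2)), zero_smul, smul_zero, smul_zero]
        · rw [if_neg h2, zero_smul, smul_zero]
      · simp
    intro c c' h
    exact sub_eq_zero.1 (key _ (by rw [Matrix.mulVec_sub, h, sub_self]))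
  obtain ⟨P, hP⟩ := Matrix.mulVec_injective_iff_isUnit.1 hinj
  have hconj : ∀ (Y N : GL I9 F), (∀ z' z, ((Y : Matrix I9 I9 F) *ᵥ v z') z = ∑ x, v x z * (N : Matrix I9 I9 F) x z') →
      P⁻¹ * Y * (P⁻¹)⁻¹ = N := fun Y N h => by
    have h1 : Y * P = P * N := Units.ext (Matrix.ext fun z z' => by
      rw [Units.val_mul, Units.val_mul, hP, Matrix.mul_apply, Matrix.mul_apply]
      exact h z' z)
    rw [inv_inv, mul_assoc, h1, inv_mul_cancel_left]
  refine ⟨P⁻¹, hconj _ _ fun z' z => ?_, hconj _ _ fun z' z => ?_, hconj _ _ fun z' z => ?_, hconj _ _ fun z' z => ?_⟩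
  · rw [hvA, Pi.smul_apply, smul_eq_mul, Finset.sum_eq_single z']
    · simp [col_val, Root.W_val, mul_comm]
    · intro x _ hx
      rw [col_val, Root.W_val, add_zero]
      by_cases h : x.1 = z'.1
      · rw [if_pos h, if_neg (fun e => hx (Prod.ext h e)), mul_zero]
      · rw [if_neg h, mul_zero]
    · simp
  · rw [hvB, Finset.sum_eq_single ((z'.1, z'.2 + 1) : I9)]
    · simp [col_val, Root.W_val, Root.e_zero]
    · intro x _ hx
      rw [col_val, Root.W_val]
      by_cases h : x.1 = z'.1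
      · rw [if_pos h, if_neg (fun e => hx (Prod.ext h e)), mul_zero]
      · rw [if_neg h, mul_zero]
    · simp
  · rw [hvC, Pi.smul_apply, smul_eq_mul, Finset.sum_eq_single z']
    · simp [dgn_val, Root.W_val, mul_comm]
    · intro x _ hx
      rw [dgn_val, Root.W_val, add_zero]
      by_cases h : x.2 = z'.2
      · rw [if_pos h, if_neg (fun e => hx (Prod.ext e h)), mul_zero]
      · rw [if_neg h, mul_zero]
    · simp
  · rw [hvD, Finset.sum_eq_single ((z'.1 + 1, z'.2) : I9)]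
    · simp [dgn_val, Root.W_val, Root.e_zero]
    · intro x _ hx
      rw [dgn_val, Root.W_val]
      by_cases h : x.2 = z'.2
      · rw [if_pos h, if_neg (fun e => hx (Prod.ext e h)), mul_zero]
      · rw [if_neg h, mul_zero]
    · simp

end Abs.Quad

namespace Root

variable (K : Root F)

/-- the elements of order dividing three of the model -/
def Om : Subgroup (GL I9 F) := Subgroup.closure {x | x ∈ K.RS ∧ x ^ 3 = 1}

theorem El_cube (v : V4) : K.El v ^ 3 = 1 := by
  have hW : ∀ a b, K.W a b ^ 3 = 1 := fun a b => by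
    have h : ∀ x : Z3, x + x + x = 0 := fun x => by rcases z3_cases x with rfl | rfl | rfl <;> rfl
    rw [pow_succ, pow_two, K.W_mul, mul_assoc, K.W_mul, ← mul_assoc, ← map_mul, ← K.e_add, h, h, K.W_zero, mul_one,
      show -(a * b) + -(a * (b + b)) = -(a * b + a * b + a * b) by ring, h, neg_zero, Root.e_zero, map_one]
  rw [El, (show Commute (col (K.W v.1.1 v.1.2)) (dgn (K.W v.2.1 v.2.2)) from (dgn_col_comm _ _).symm).mul_pow,
    ← map_pow, ← map_pow, hW, hW, map_one, map_one, one_mul]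

theorem normalizer_Om [Finite F] : Subgroup.normalizer (K.Om : Set (GL I9 F)) = K.NR := by
  have hle : K.Om ≤ K.RS := (Subgroup.closure_le _).2 fun x hx => hx.1
  refine le_antisymm (fun g hg => ?_) (fun g hg => ?_)
  · have h1 : ∀ v, g * K.El v * g⁻¹ ∈ K.RS := fun v =>
      hle ((Subgroup.mem_normalizer_iff.1 hg _).1 (Subgroup.subset_closure ⟨K.El_mem_RS v, K.El_cube v⟩))
    have h0 : ∀ v (x : GL I9 F), K.El v = x → g * x * g⁻¹ ∈ K.RS := fun v x e => e ▸ h1 v
    exact K.mem_NR_of_four (h0 ((1, 0), (0, 0)) _ (by simp [El, K.W_zero])) (h0 ((0, 1), (0, 0)) _ (by simp [El, K.W_zero]))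
      (h0 ((0, 0), (1, 0)) _ (by simp [El, K.W_zero])) (h0 ((0, 0), (0, 1)) _ (by simp [El, K.W_zero]))
  · haveI : Finite (K.Om : Set (GL I9 F)) := Subtype.finite
    refine Subgroup.mem_normalizer_fintype fun x hx => ?_
    refine Subgroup.closure_induction (p := fun x _ => g * x * g⁻¹ ∈ K.Om) ?_ ?_ ?_ ?_ hx
    · exact fun y hy => Subgroup.subset_closure ⟨(Subgroup.mem_normalizer_iff.1 hg _).1 hy.1, by
        rw [conj_pow, hy.2, mul_one, mul_inv_cancel]⟩
    · rw [mul_one, mul_inv_cancel]; exact one_mem _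
    · exact fun y z _ _ hy hz => by
        rw [show g * (y * z) * g⁻¹ = g * y * g⁻¹ * (g * z * g⁻¹) by group]; exact mul_mem hy hz
    · exact fun y _ hy => by rw [show g * y⁻¹ * g⁻¹ = (g * y * g⁻¹)⁻¹ by group]; exact inv_mem hy

end Root

namespace Abs

variable [Fintype F] {R : Subgroup (GL I9 F)} (hR : Abs R) (K : Root F)
include hR

/-- conjugate to the model -/
theorem exists_conj : ∃ P : GL I9 F, R.map (MulAut.conj P).toMonoidHom = K.Om := by
  obtain ⟨A, B, C, D, q, hgen⟩ := hR.exists_quad K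
  obtain ⟨P, eA, eB, eC, eD⟩ := q.exists_coord hR
  refine ⟨P, le_antisymm ?_ ((Subgroup.closure_le _).2 ?_)⟩
  · rintro _ ⟨g, hg, rfl⟩
    refine Subgroup.subset_closure ⟨?_, ?_⟩
    · obtain ⟨i, j, k, l, c, rfl⟩ := hgen g hg
      rw [map_mul, map_mul, map_mul, map_mul, map_pow, map_pow, map_pow, map_pow,
        show (MulAut.conj P).toMonoidHom A = col (K.W 1 0) from eA, show (MulAut.conj P).toMonoidHom B = col (K.W 0 1) from eB,
        show (MulAut.conj P).toMonoidHom C = dgn (K.W 1 0) from eC, show (MulAut.conj P).toMonoidHom D = dgn (K.W 0 1) from eD,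
        show (MulAut.conj P).toMonoidHom (sc c) = sc c from sc_conj c P]
      exact mul_mem (K.sc_mem_RS c) (mul_mem (mul_mem (mul_mem (pow_mem (K.col_mem_RS 1 0) i) (pow_mem (K.col_mem_RS 0 1) j))
        (pow_mem (K.dgn_mem_RS 1 0) k)) (pow_mem (K.dgn_mem_RS 0 1) l))
    · rw [← map_pow, show g ^ 3 = 1 by rw [pow_succ, pow_two]; exact hR.cube g hg, map_one]
  · rintro x ⟨⟨c, v, rfl⟩, hx3⟩
    rw [Commute.mul_pow (show Commute (sc c) (K.El v) from sc_comm _ _), K.El_cube, mul_one, ← map_pow,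
      ← map_one (sc (κ := I9) (F := F))] at hx3
    have hc : sc c ∈ R.map (MulAut.conj P).toMonoidHom := ⟨sc c, hR.scal c (sc_inj9 hx3), sc_conj c P⟩
    refine mul_mem hc ?_
    rw [Root.El, K.W_split v.1.1, K.W_split v.2.1]
    simp only [map_mul, map_pow]
    exact mul_mem (mul_mem (pow_mem (Subgroup.mem_map.2 ⟨A, q.memA, eA⟩) _) (pow_mem (Subgroup.mem_map.2 ⟨B, q.memB, eB⟩) _))
      (mul_mem (pow_mem (Subgroup.mem_map.2 ⟨C, q.memC, eC⟩) _) (pow_mem (Subgroup.mem_map.2 ⟨D, q.memD, eD⟩) _))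

end Abs

end Cfsg.Agent.ClassicalMax.SympThree
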