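import Cfsg.Agent.ClassicalMax.SympThree.Ascent
import Cfsg.Agent.SymplecticType.Main

/-!
An absolutely irreducible group of order 243, exponent three and symplectic type in dimension nine is conjugate to the
model.
-/

set_option autoImplicit false

namespace Cfsg.Agent.ClassicalMax.SympThree

open Matrix

theorem comm_central {G : Type*} [Group G] [Finite G] (hG : IsPGroup 3 G)
    (hsymp : ∀ A : Subgroup G, A.Characteristic → IsMulCommutative A → IsCyclic A) (x y : G) :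
    x * y * x⁻¹ * y⁻¹ ∈ Subgroup.center G := by
  haveI : Fact (Nat.Prime 3) := ⟨Nat.prime_three⟩
  obtain ⟨E, Q, hcomm, htop, hE, hQ⟩ := SymplecticType.hall hG hsymp
  have hQc : IsCyclic Q := hQ.resolve_right (fun h => absurd h.1 (by norm_num))
  have hdec : ∀ g : G, ∃ e ∈ E, ∃ r ∈ Q, g = e * r := fun g => by
    have hle : Q ≤ Subgroup.normalizer (E : Set G) := fun r hr => Subgroup.mem_normalizer_iff.2 fun e => by
      have h : ∀ e ∈ E, r * e * r⁻¹ = e := fun e he => by rw [← hcomm e he r hr, mul_inv_cancel_right]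
      refine ⟨fun he => by rwa [h e he], fun he => ?_⟩
      have h2 := h _ he
      rw [mul_left_inj, mul_right_inj] at h2
      rwa [h2] at he
    have h1 : g ∈ ((E ⊔ Q : Subgroup G) : Set G) := by rw [htop]; trivial
    rw [Subgroup.coe_mul_of_right_le_normalizer_left E Q hle] at h1
    obtain ⟨e, he, r, hr, rfl⟩ := h1
    exact ⟨e, he, r, hr, rfl⟩
  have hQcomm : ∀ r ∈ Q, ∀ s ∈ Q, r * s = s * r := fun r hr s hs => by
    letI := hQc.commGroup
    exact congrArg Subtype.val (mul_comm (⟨r, hr⟩ : Q) ⟨s, hs⟩)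
  have hQcen : ∀ r ∈ Q, ∀ g : G, r * g = g * r := fun r hr g => by
    obtain ⟨e, he, s, hs, rfl⟩ := hdec g
    rw [← mul_assoc, ← hcomm e he r hr, mul_assoc, hQcomm r hr s hs, mul_assoc]
  obtain ⟨e, he, r, hr, rfl⟩ := hdec x
  obtain ⟨f, hf, s, hs, rfl⟩ := hdec y
  have h1 : e * r * (f * s) * (e * r)⁻¹ * (f * s)⁻¹ = e * f * e⁻¹ * f⁻¹ := by
    calc e * r * (f * s) * (e * r)⁻¹ * (f * s)⁻¹
        = e * (r * (f * s) * r⁻¹) * e⁻¹ * (f * s)⁻¹ := by group
      _ = e * f * (s * e⁻¹ * s⁻¹) * f⁻¹ := by rw [hQcen r hr, mul_inv_cancel_right]; group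
      _ = e * f * e⁻¹ * f⁻¹ := by rw [hQcen s hs, mul_inv_cancel_right]
  rw [h1]
  rcases hE with rfl | ⟨⟨-, -, hd⟩, -⟩
  · obtain rfl := Subgroup.mem_bot.1 he
    obtain rfl := Subgroup.mem_bot.1 hf
    simp
  · have hmem : (⟨e, he⟩ : E) * ⟨f, hf⟩ * (⟨e, he⟩ : E)⁻¹ * (⟨f, hf⟩ : E)⁻¹ ∈ Subgroup.center E := by
      rw [← hd, ← commutatorElement_def]
      exact Subgroup.commutator_mem_commutator (Subgroup.mem_top _) (Subgroup.mem_top _)
    refine Subgroup.mem_center_iff.2 fun g => ?_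
    obtain ⟨e', he', r', hr', rfl⟩ := hdec g
    have h3 := congrArg Subtype.val (Subgroup.mem_center_iff.1 hmem ⟨e', he'⟩)
    simp only [Subgroup.coe_mul, InvMemClass.coe_inv] at h3
    rw [mul_assoc e' r', hQcen r' hr', ← mul_assoc e', h3, mul_assoc _ e' r']

theorem fin3_cast : ∀ a b : Fin 3, ((a : ℕ) : Z3) = ((b : ℕ) : Z3) → a = b := by decide

variable {F : Type*} [Field F] [Fintype F]

/-- the hypotheses on the group -/
structure Abs (R : Subgroup (GL I9 F)) : Prop where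
  card : Nat.card R = 243
  cube : ∀ x ∈ R, x * x * x = 1
  scal : ∀ c : Fˣ, c ^ 3 = 1 → sc c ∈ R
  cen : ∀ x ∈ R, (∀ y ∈ R, x * y = y * x) → ∃ c : Fˣ, x = sc c
  comm : ∀ x ∈ R, ∀ y ∈ R, ∃ c : Fˣ, x * y * x⁻¹ = sc c * y

theorem abs_of_data (K : Root F) {R : Subgroup (GL I9 F)} (hpg : IsPGroup 3 R)
    (hsymp : ∀ A : Subgroup R, A.Characteristic → IsMulCommutative A → IsCyclic A)
    (hexp : Monoid.exponent R = 3) (hz : Nat.card (Subgroup.center R) = 3) (hcard : Nat.card R = 243)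
    (hirr : Cfsg.Geo.ActsAbsolutelyIrreducibly (Cfsg.Geo.matrixSet R)) : Abs R := by
  have hc : ∀ x : R, x ∈ Subgroup.center R → ∃ c : Fˣ, (x : GL I9 F) = sc c := fun x hx => by
    obtain ⟨c, hc⟩ := hirr.2 ((x : GL I9 F) : Matrix I9 I9 F) (by
      rintro _ ⟨g, hg, rfl⟩
      exact congrArg (fun x : R => ((x : GL I9 F) : Matrix I9 I9 F)) (Subgroup.mem_center_iff.1 hx ⟨g, hg⟩).symm)
    obtain ⟨d, hd⟩ := SympType.exists_sc_of_smul hc
    exact ⟨d, hd.trans (Units.ext (by rw [SympType.sc_val, sc_val]))⟩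
  have hcube : ∀ x ∈ R, x * x * x = 1 := fun x hx => by
    have h1 := Monoid.pow_exponent_eq_one (⟨x, hx⟩ : R)
    rw [hexp, pow_succ, pow_two] at h1
    exact congrArg Subtype.val h1
  refine ⟨hcard, hcube, fun c hc3 => ?_, fun x hx h => ?_, fun x hx y hy => ?_⟩
  · obtain ⟨k, hk⟩ := K.exists_e (c := (c : F)) (by rw [← Units.val_pow_eq_pow_val, hc3, Units.val_one])
    obtain rfl : c = K.e k := Units.ext hk
    haveI : Nontrivial (Subgroup.center R) := Finite.one_lt_card_iff_nontrivial.1 (by rw [hz]; norm_num)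
    obtain ⟨z, hz1⟩ := exists_ne (1 : Subgroup.center R)
    obtain ⟨d, hd⟩ := hc z.1 z.2
    have hd3 : d ^ 3 = 1 := by
      have h2 := hcube _ z.1.2
      rw [hd, ← map_mul, ← map_mul, ← pow_two, ← pow_succ] at h2
      have h3 := congrArg (fun m : GL I9 F => (m : Matrix I9 I9 F) 0 0) h2
      simp only [sc_val, Units.val_one, Matrix.smul_apply, Matrix.one_apply_eq, smul_eq_mul, mul_one] at h3
      exact Units.ext h3
    obtain ⟨j, hj⟩ := K.exists_e (c := (d : F)) (by rw [← Units.val_pow_eq_pow_val, hd3, Units.val_one])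
    have hj0 : j ≠ 0 := fun e => hz1 (Subtype.ext (Subtype.ext (by
      show (z.1 : GL I9 F) = _
      rw [hd, Units.ext hj, e, Root.e_zero, map_one]; rfl)))
    have hpow : ∀ n : ℕ, sc (K.e ((n : Z3) * j)) ∈ R := fun n => by
      induction n with
      | zero => rw [Nat.cast_zero, zero_mul, Root.e_zero, map_one]; exact one_mem _
      | succ n ih =>
        rw [Nat.cast_succ, add_mul, one_mul, K.e_add, map_mul, ← Units.ext hj, ← hd]
        exact mul_mem ih z.1.2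
    have hkj : k = k * j * j := by
      have := (by decide : ∀ k j : Z3, j ≠ 0 → k = k * j * j) k j hj0
      exact this
    rw [hkj]
    have := hpow (k * j).val
    rwa [ZMod.natCast_zmod_val] at this
  · exact hc ⟨x, hx⟩ (Subgroup.mem_center_iff.2 fun y => Subtype.ext (h y y.2).symm)
  · obtain ⟨c, hc'⟩ := hc _ (comm_central hpg hsymp ⟨x, hx⟩ ⟨y, hy⟩)
    refine ⟨c, ?_⟩
    rw [← mul_inv_eq_iff_eq_mul]
    exact hc'

namespace Abs

variable {R : Subgroup (GL I9 F)} (hR : Abs R) (K : Root F)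
include hR

omit hR in
theorem sc_inj9 {c d : Fˣ} (h : (sc c : GL I9 F) = sc d) : c = d := by
  have := congrArg (fun m : GL I9 F => (m : Matrix I9 I9 F) 0 0) h
  simp only [sc_val, Matrix.smul_apply, Matrix.one_apply_eq, smul_eq_mul, mul_one] at this
  exact Units.ext this

theorem comm_e {x y : GL I9 F} (hx : x ∈ R) (hy : y ∈ R) : ∃ k : Z3, x * y * x⁻¹ = sc (K.e k) * y := by
  obtain ⟨c, hc⟩ := hR.comm x hx y hy
  have hy3 : y ^ 3 = 1 := by rw [pow_succ, pow_two]; exact hR.cube y hy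
  have h1 := congrArg (· ^ 3) hc
  simp only [conj_pow, hy3, mul_one, mul_inv_cancel, Commute.mul_pow (show Commute (sc c) y from sc_comm c y),
    ← map_pow] at h1
  have h2 := sc_inj9 ((map_one sc).trans h1)
  obtain ⟨k, hk⟩ := K.exists_e (c := (c : F)) (by
    rw [← Units.val_pow_eq_pow_val, ← h2, Units.val_one])
  exact ⟨k, by rw [hc, Units.ext hk]⟩

omit hR in
theorem conj_pow_mul {a g : GL I9 F} {k : Z3} (h : a * g * a⁻¹ = sc (K.e k) * g) (n : ℕ) :
    a * g ^ n * a⁻¹ = sc (K.e ((n : Z3) * k)) * g ^ n := by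
  induction n with
  | zero => simp [Root.e_zero]
  | succ n ih =>
    rw [pow_succ, show a * (g ^ n * g) * a⁻¹ = a * g ^ n * a⁻¹ * (a * g * a⁻¹) by group, ih, h, Nat.cast_succ, add_mul,
      one_mul, K.e_add, map_mul, mul_assoc (sc (K.e _)), ← mul_assoc (g ^ n), ← sc_comm]
    simp only [mul_assoc]

omit hR in
theorem conj_mul {a g g' : GL I9 F} {k k' : Z3} (h : a * g * a⁻¹ = sc (K.e k) * g)
    (h' : a * g' * a⁻¹ = sc (K.e k') * g') : a * (g * g') * a⁻¹ = sc (K.e (k + k')) * (g * g') := by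
  rw [show a * (g * g') * a⁻¹ = a * g * a⁻¹ * (a * g' * a⁻¹) by group, h, h', K.e_add, map_mul, mul_assoc (sc (K.e k)),
    ← mul_assoc g, ← sc_comm]
  simp only [mul_assoc]

omit hR in
theorem conj_self (a : GL I9 F) : a * a * a⁻¹ = sc (K.e 0) * a := by
  rw [Root.e_zero, map_one, one_mul, mul_inv_cancel_right]

theorem pair_split {x y g : GL I9 F} (hx : x ∈ R) (hy : y ∈ R) (hg : g ∈ R) (hxy : x * y * x⁻¹ = sc (K.e 1) * y) :
    ∃ i j : ℕ, x * (g * (x ^ i * y ^ j)) * x⁻¹ = g * (x ^ i * y ^ j) ∧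
      y * (g * (x ^ i * y ^ j)) * y⁻¹ = g * (x ^ i * y ^ j) := by
  obtain ⟨a, ha⟩ := hR.comm_e K hx hg
  obtain ⟨b, hb⟩ := hR.comm_e K hy hg
  obtain ⟨d, hd⟩ := hR.comm_e K hy hx
  have hd1 : d = -1 := by
    have h1 : x * y = sc (K.e 1) * (y * x) := by rw [← mul_assoc, ← hxy]; group
    have h2 : y * x = sc (K.e d) * (x * y) := by rw [← mul_assoc, ← hd]; group
    rw [h1, ← mul_assoc, ← map_mul, ← K.e_add] at h2
    have h3 : (sc (K.e (d + 1)) : GL I9 F) = sc (K.e 0) := by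
      rw [Root.e_zero, map_one]; exact (mul_eq_right.1 h2.symm)
    linear_combination K.e_inj (sc_inj9 h3)
  refine ⟨b.val, (-a).val, ?_, ?_⟩
  · have h1 := conj_mul K ha (conj_mul K (conj_pow_mul K (conj_self K x) b.val) (conj_pow_mul K hxy (-a).val))
    rw [h1]
    simp [Root.e_zero]
  · have h1 := conj_mul K hb (conj_mul K (conj_pow_mul K hd b.val) (conj_pow_mul K (conj_self K y) (-a).val))
    rw [h1, hd1]
    simp [Root.e_zero]

theorem exists_pair {C : Subgroup (GL I9 F)} (hC : C ≤ R) (h : ∃ x ∈ C, ∃ y ∈ C, x * y ≠ y * x) :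
    ∃ x ∈ C, ∃ y ∈ C, x * y * x⁻¹ = sc (K.e 1) * y := by
  obtain ⟨x, hx, y, hy, hne⟩ := h
  obtain ⟨k, hk⟩ := hR.comm_e K (hC hx) (hC hy)
  have hk0 : k ≠ 0 := fun e => hne (by
    rw [e, Root.e_zero, map_one, one_mul, mul_inv_eq_iff_eq_mul] at hk; exact hk)
  refine ⟨x, hx, y ^ k.val, pow_mem hy _, ?_⟩
  rw [conj_pow_mul K hk, ZMod.natCast_zmod_val, (by decide : ∀ k : Z3, k ≠ 0 → k * k = 1) k hk0]

/-- four generators with the commutation of the model -/
structure Quad (R : Subgroup (GL I9 F)) (A B C D : GL I9 F) : Prop where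
  memA : A ∈ R
  memB : B ∈ R
  memC : C ∈ R
  memD : D ∈ R
  AB : A * B * A⁻¹ = sc (K.e 1) * B
  CD : C * D * C⁻¹ = sc (K.e 1) * D
  AC : A * C = C * A
  AD : A * D = D * A
  BC : B * C = C * B
  BD : B * D = D * B

set_option maxHeartbeats 3200000 in
theorem exists_quad : ∃ A B C D, Quad K R A B C D ∧
    ∀ g ∈ R, ∃ (i j k l : ℕ) (c : Fˣ), g = sc c * (A ^ i * B ^ j * C ^ k * D ^ l) := by
  haveI : Fact (Nat.Prime 3) := ⟨Nat.prime_three⟩
  obtain ⟨A, hA, B, hB, hAB⟩ := hR.exists_pair K le_rfl (by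
    by_contra hcon
    push Not at hcon
    let f : Z3 → R := fun k => ⟨sc (K.e k), hR.scal _ (K.e_cube k)⟩
    have hf : Function.Surjective f := fun x => by
      obtain ⟨c, hc⟩ := hR.cen x x.2 (hcon x x.2)
      have h3 := hR.cube _ x.2
      rw [hc, ← map_mul, ← map_mul, ← map_one sc] at h3
      obtain ⟨k, hk⟩ := K.exists_e (c := (c : F)) (by
        rw [← Units.val_pow_eq_pow_val, pow_succ, pow_two, sc_inj9 h3, Units.val_one])
      exact ⟨k, Subtype.ext (show sc (K.e k) = (x : GL I9 F) by rw [hc, Units.ext hk])⟩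
    have := Nat.card_le_card_of_surjective f hf
    rw [hR.card, Nat.card_zmod] at this
    omega)
  set C1 := R ⊓ Subgroup.centralizer {A, B} with hC1
  have mem1 : ∀ g, g ∈ C1 ↔ g ∈ R ∧ A * g = g * A ∧ B * g = g * B := fun g => by
    rw [hC1, Subgroup.mem_inf, Subgroup.mem_centralizer_iff]
    simp only [Set.mem_insert_iff, Set.mem_singleton_iff, forall_eq_or_imp, forall_eq]
  have split1 : ∀ g ∈ R, ∃ i j : ℕ, g * (A ^ i * B ^ j) ∈ C1 := fun g hg => by
    obtain ⟨i, j, h1, h2⟩ := hR.pair_split K hA hB hg hAB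
    exact ⟨i, j, (mem1 _).2 ⟨mul_mem hg (mul_mem (pow_mem hA i) (pow_mem hB j)), mul_inv_eq_iff_eq_mul.1 h1,
      mul_inv_eq_iff_eq_mul.1 h2⟩⟩
  have hA3 : A ^ 3 = 1 := by rw [pow_succ, pow_two]; exact hR.cube A hA
  have hB3 : B ^ 3 = 1 := by rw [pow_succ, pow_two]; exact hR.cube B hB
  by_cases hab : ∃ x ∈ C1, ∃ y ∈ C1, x * y ≠ y * x
  swap
  · push Not at hab
    exfalso
    -- the centraliser is then central
    have hcen : ∀ z ∈ C1, ∃ c : Fˣ, z = sc c := fun z hz => by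
      obtain ⟨hzR, hzA, hzB⟩ := (mem1 z).1 hz
      refine hR.cen z hzR fun g hg => ?_
      obtain ⟨i, j, hij⟩ := split1 g hg
      rw [show g = g * (A ^ i * B ^ j) * ((B ^ j)⁻¹ * (A ^ i)⁻¹) by group]
      have hcA : Commute z (A ^ i) := (Commute.symm hzA).pow_right i
      have hcB : Commute z (B ^ j) := (Commute.symm hzB).pow_right j
      exact ((show Commute z (g * (A ^ i * B ^ j)) from hab z hz _ hij).mul_right (hcB.inv_right.mul_right hcA.inv_right))
    have hcov : ∀ g : R, ∃ v : Fin 3 × Fin 3 × Z3,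
        (g : GL I9 F) = sc (K.e v.2.2) * (B ^ (v.2.1 : ℕ) * A ^ (v.1 : ℕ)) := fun g => by
      obtain ⟨i, j, hij⟩ := split1 g g.2
      obtain ⟨c, hc⟩ := hcen _ hij
      have hc3 := hR.cube _ ((mem1 _).1 hij).1
      rw [hc, ← map_mul, ← map_mul, ← map_one sc] at hc3
      obtain ⟨k, hk⟩ := K.exists_e (c := (c : F)) (by
        rw [← Units.val_pow_eq_pow_val, pow_succ, pow_two, sc_inj9 hc3, Units.val_one])
      refine ⟨(⟨(2 * i) % 3, Nat.mod_lt _ (by norm_num)⟩, ⟨(2 * j) % 3, Nat.mod_lt _ (by norm_num)⟩, k), ?_⟩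
      rw [← Units.ext hk, ← hc, ← pow_eq_pow_mod _ hA3, ← pow_eq_pow_mod _ hB3]
      have hA' : (A ^ i)⁻¹ = A ^ (2 * i) := inv_eq_of_mul_eq_one_right (by
        rw [← pow_add, show i + 2 * i = 3 * i by ring, pow_mul, hA3, one_pow])
      have hB' : (B ^ j)⁻¹ = B ^ (2 * j) := inv_eq_of_mul_eq_one_right (by
        rw [← pow_add, show j + 2 * j = 3 * j by ring, pow_mul, hB3, one_pow])
      rw [← hA', ← hB']
      group
    choose f hf using hcov
    have := Nat.card_le_card_of_injective f fun x y e => Subtype.ext (by rw [hf x, hf y, e])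
    rw [hR.card, Nat.card_prod, Nat.card_prod, Nat.card_fin, Nat.card_zmod] at this
    omega
  obtain ⟨C, hC, D, hD, hCD⟩ := hR.exists_pair K inf_le_left hab
  obtain ⟨hCR, hAC, hBC⟩ := (mem1 C).1 hC
  obtain ⟨hDR, hAD, hBD⟩ := (mem1 D).1 hD
  refine ⟨A, B, C, D, ⟨hA, hB, hCR, hDR, hAB, hCD, hAC, hAD, hBC, hBD⟩, ?_⟩
  set C2 := R ⊓ Subgroup.centralizer {A, B, C, D} with hC2
  have mem2 : ∀ g, g ∈ C2 ↔ g ∈ R ∧ A * g = g * A ∧ B * g = g * B ∧ C * g = g * C ∧ D * g = g * D := fun g => by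
    rw [hC2, Subgroup.mem_inf, Subgroup.mem_centralizer_iff]
    simp only [Set.mem_insert_iff, Set.mem_singleton_iff, forall_eq_or_imp, forall_eq]
  have split2 : ∀ g ∈ R, ∃ i j k l : ℕ, g * (A ^ i * B ^ j) * (C ^ k * D ^ l) ∈ C2 := fun g hg => by
    obtain ⟨i, j, hij⟩ := split1 g hg
    obtain ⟨hgR, hgA, hgB⟩ := (mem1 _).1 hij
    obtain ⟨k, l, h1, h2⟩ := hR.pair_split K hCR hDR hgR hCD
    refine ⟨i, j, k, l, (mem2 _).2 ⟨mul_mem hgR (mul_mem (pow_mem hCR k) (pow_mem hDR l)), ?_, ?_,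
      mul_inv_eq_iff_eq_mul.1 h1, mul_inv_eq_iff_eq_mul.1 h2⟩⟩
    · exact (Commute.mul_right hgA ((Commute.pow_right hAC k).mul_right (Commute.pow_right hAD l))).eq
    · exact (Commute.mul_right hgB ((Commute.pow_right hBC k).mul_right (Commute.pow_right hBD l))).eq
  -- counting the cosets
  let Φ : (Fin 3 × Fin 3 × Fin 3 × Fin 3) × C2 → R := fun v =>
    ⟨A ^ (v.1.1 : ℕ) * B ^ (v.1.2.1 : ℕ) * C ^ (v.1.2.2.1 : ℕ) * D ^ (v.1.2.2.2 : ℕ) * v.2,
      mul_mem (mul_mem (mul_mem (mul_mem (pow_mem hA _) (pow_mem hB _)) (pow_mem hCR _)) (pow_mem hDR _))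
        ((mem2 _).1 v.2.2).1⟩
  obtain ⟨a0, ha0⟩ := hR.comm_e K hB hA
  obtain ⟨c0, hc0⟩ := hR.comm_e K hDR hCR
  have hne0 : ∀ {x y : GL I9 F} {d : Z3}, x * y * x⁻¹ = sc (K.e 1) * y → y * x * y⁻¹ = sc (K.e d) * x → d ≠ 0 := by
    intro x y d h h' hd
    rw [hd, Root.e_zero, map_one, one_mul, mul_inv_eq_iff_eq_mul] at h'
    rw [← h', mul_inv_cancel_right, eq_comm, mul_eq_right, ← map_one sc] at h
    exact K.ne_one (by rw [← K.eval1, sc_inj9 h, Units.val_one])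
  have hn1 := hne0 hAB ha0
  have hn2 := hne0 hCD hc0
  have hconjPhi : ∀ (X : GL I9 F) (ka kb kc kd : Z3), X * A * X⁻¹ = sc (K.e ka) * A → X * B * X⁻¹ = sc (K.e kb) * B →
      X * C * X⁻¹ = sc (K.e kc) * C → X * D * X⁻¹ = sc (K.e kd) * D → (∀ z ∈ C2, X * z = z * X) →
      ∀ v, X * (Φ v : GL I9 F) * X⁻¹ = sc (K.e ((v.1.1 : ℕ) * ka + (v.1.2.1 : ℕ) * kb + (v.1.2.2.1 : ℕ) * kc +
        (v.1.2.2.2 : ℕ) * kd + 0)) * (Φ v : GL I9 F) := fun X ka kb kc kd ha hb hc hd hz v =>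
    conj_mul K (conj_mul K (conj_mul K (conj_mul K (conj_pow_mul K ha _) (conj_pow_mul K hb _)) (conj_pow_mul K hc _))
      (conj_pow_mul K hd _)) (by rw [Root.e_zero, map_one, one_mul, hz _ v.2.2, mul_inv_cancel_right])
  have htriv : ∀ {x y : GL I9 F}, x * y = y * x → x * y * x⁻¹ = sc (K.e 0) * y := fun h => by
    rw [Root.e_zero, map_one, one_mul, h, mul_inv_cancel_right]
  have hinjΦ : Function.Injective Φ := by
    intro v w e
    have key : ∀ {s t : Z3}, sc (K.e s) * (Φ v : GL I9 F) = sc (K.e t) * (Φ v : GL I9 F) → s = t := fun h =>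
      K.e_inj (sc_inj9 (mul_right_cancel h))
    have k1 := key (((hconjPhi A 0 1 0 0 (conj_self K A) hAB (htriv hAC) (htriv hAD)
      (fun z hz => ((mem2 z).1 hz).2.1) v).symm).trans (e ▸ hconjPhi A 0 1 0 0 (conj_self K A) hAB (htriv hAC) (htriv hAD)
      (fun z hz => ((mem2 z).1 hz).2.1) w))
    have k2 := key (((hconjPhi B a0 0 0 0 ha0 (conj_self K B) (htriv hBC) (htriv hBD)
      (fun z hz => ((mem2 z).1 hz).2.2.1) v).symm).trans (e ▸ hconjPhi B a0 0 0 0 ha0 (conj_self K B) (htriv hBC) (htriv hBD)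
      (fun z hz => ((mem2 z).1 hz).2.2.1) w))
    have k3 := key (((hconjPhi C 0 0 0 1 (htriv hAC.symm) (htriv hBC.symm) (conj_self K C) hCD
      (fun z hz => ((mem2 z).1 hz).2.2.2.1) v).symm).trans (e ▸ hconjPhi C 0 0 0 1 (htriv hAC.symm) (htriv hBC.symm)
      (conj_self K C) hCD (fun z hz => ((mem2 z).1 hz).2.2.2.1) w))
    have k4 := key (((hconjPhi D 0 0 c0 0 (htriv hAD.symm) (htriv hBD.symm) hc0 (conj_self K D)
      (fun z hz => ((mem2 z).1 hz).2.2.2.2) v).symm).trans (e ▸ hconjPhi D 0 0 c0 0 (htriv hAD.symm) (htriv hBD.symm)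
      hc0 (conj_self K D) (fun z hz => ((mem2 z).1 hz).2.2.2.2) w))
    simp only [mul_zero, mul_one, add_zero, zero_add] at k1 k2 k3 k4
    obtain ⟨⟨i, j, k, l⟩, z⟩ := v
    obtain ⟨⟨i', j', k', l'⟩, z'⟩ := w
    obtain rfl := fin3_cast _ _ k1
    obtain rfl := fin3_cast _ _ (mul_right_cancel₀ hn1 k2)
    obtain rfl := fin3_cast _ _ k3
    obtain rfl := fin3_cast _ _ (mul_right_cancel₀ hn2 k4)
    exact Prod.ext rfl (Subtype.ext (mul_left_cancel (congrArg Subtype.val e)))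
  have hle := Nat.card_le_card_of_injective Φ hinjΦ
  rw [hR.card, Nat.card_prod, Nat.card_prod, Nat.card_prod, Nat.card_prod, Nat.card_fin] at hle
  have hscal : ∀ z ∈ C2, ∃ c : Fˣ, z = sc c := by
    let f : Z3 → C2 := fun k => ⟨sc (K.e k), (mem2 _).2 ⟨hR.scal _ (K.e_cube k), (sc_comm _ _).symm, (sc_comm _ _).symm,
      (sc_comm _ _).symm, (sc_comm _ _).symm⟩⟩
    have hf : Function.Injective f := fun a b e => K.e_inj (sc_inj9 (congrArg Subtype.val e))
    have hb : Function.Bijective f := by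
      rw [Nat.bijective_iff_injective_and_card]
      refine ⟨hf, le_antisymm (Nat.card_le_card_of_injective f hf) ?_⟩
      rw [Nat.card_zmod]; omega
    intro z hz
    obtain ⟨k, hk⟩ := hb.2 ⟨z, hz⟩
    exact ⟨_, (congrArg Subtype.val hk).symm⟩
  intro g hg
  obtain ⟨i, j, k, l, h⟩ := split2 g⁻¹ (inv_mem hg)
  obtain ⟨c, hc⟩ := hscal _ h
  refine ⟨i, j, k, l, c⁻¹, ?_⟩
  rw [show g = g * (g⁻¹ * (A ^ i * B ^ j) * (C ^ k * D ^ l)) * sc c⁻¹ by
    rw [hc, mul_assoc g, ← map_mul, mul_inv_cancel, map_one, mul_one]]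
  rw [show g * (g⁻¹ * (A ^ i * B ^ j) * (C ^ k * D ^ l)) = A ^ i * B ^ j * C ^ k * D ^ l by group, sc_comm]

end Abs

end Cfsg.Agent.ClassicalMax.SympThree
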