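import Cfsg.Agent.ClassicalMax.SympThree.RS

/-!
The involutions of the normaliser: central inversion of the model or conjugates of the involution of one factor.
-/

set_option autoImplicit false

namespace Cfsg.Agent.ClassicalMax.SympThree

open Matrix

variable {F : Type*} [Field F]

/-- adjugate of a coefficient pair -/
def adj (m : M2) : M2 := ((m.2.2, -m.1.2), (-m.2.1, m.1.1))

theorem adj_spec : ∀ m : M2, det2 m = 1 → det2 (adj m) = 1 ∧ ∀ a b, app m (app (adj m) a b).1 (app (adj m) a b).2 = (a, b) := by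
  decide +kernel

theorem det2_comp (m n : M2) : det2 (comp m n) = det2 m * det2 n := by simp only [det2, comp, app]; ring

theorem invol_cases : ∀ m : M2, det2 m = 1 → comp m m = m1 → m = m1 ∨ m = mT := by decide +kernel

theorem det2_basic : det2 m1 = 1 ∧ det2 mT = 1 ∧ det2 mP = 1 ∧ det2 mF = 1 ∧ det2 ((1, 0), (0, 1)) = 1 := by decide

namespace Root

variable (K : Root F)

theorem img_W (a b : Z3) : K.Img (K.W a b) m1 := fun a' b' => ⟨K.e (a * b' - a' * b), by simp [app, m1, K.W_conj]⟩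

theorem exists_img_gens {g : GL Z3 F} (hg : g ∈ K.gens) : ∃ m, det2 m = 1 ∧ K.Img g m := by
  refine Subgroup.closure_induction (p := fun (g : GL Z3 F) _ => ∃ m, det2 m = 1 ∧ K.Img g m) ?_
    ⟨m1, det2_basic.1, K.img_one⟩ ?_ ?_ hg
  · intro x hx
    simp only [Set.mem_insert_iff, Set.mem_singleton_iff] at hx
    obtain ⟨h1, hT, hP, hF, -⟩ := det2_basic
    rcases hx with rfl | rfl | rfl | rfl | rfl
    exacts [⟨_, h1, K.img_W 1 0⟩, ⟨_, h1, K.img_W 0 1⟩, ⟨_, hT, K.img_T⟩, ⟨_, hP, K.img_P⟩, ⟨_, hF, K.img_Fr⟩]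
  · rintro x y - - ⟨m, hm, hx⟩ ⟨n, hn, hy⟩
    exact ⟨comp m n, by rw [det2_comp, hm, hn, one_mul], hx.mul K hy⟩
  · rintro x - ⟨m, hm, hx⟩
    obtain ⟨h1, h2⟩ := adj_spec m hm
    refine ⟨adj m, h1, fun a b => ?_⟩
    obtain ⟨c, hc⟩ := hx (app (adj m) a b).1 (app (adj m) a b).2
    rw [h2] at hc
    refine ⟨c⁻¹, ?_⟩
    rw [show K.W a b = sc c⁻¹ * (sc c * K.W a b) by rw [← mul_assoc, ← map_mul, inv_mul_cancel, map_one, one_mul], ← hc,
      conj_sc_mul]
    group

theorem Img.unique {g : GL Z3 F} {m n : M2} (h : K.Img g m) (h' : K.Img g n) : m = n := by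
  have key : ∀ a b, app m a b = app n a b := fun a b => by
    obtain ⟨c, hc⟩ := h a b
    obtain ⟨d, hd⟩ := h' a b
    have e : K.W (app m a b).1 (app m a b).2 = sc (c⁻¹ * d) * K.W (app n a b).1 (app n a b).2 := by
      rw [map_mul, mul_assoc, ← hd, hc, ← mul_assoc, ← map_mul, inv_mul_cancel, map_one, one_mul]
    exact Prod.ext (K.W_inj e).1 (K.W_inj e).2
  have h1 := key 1 0
  have h2 := key 0 1
  simp only [app, mul_one, mul_zero, add_zero, zero_add, Prod.mk.injEq] at h1 h2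
  exact Prod.ext (Prod.ext h1.1 h1.2) (Prod.ext h2.1 h2.2)

theorem Img.sc_mul {g : GL Z3 F} {m : M2} (h : K.Img g m) (c : Fˣ) : K.Img (sc c * g) m := fun a b => by
  rw [sc_mul_conj]; exact h a b

theorem centr_of_img {g : GL Z3 F} (h : K.Img g m1) : ∃ (u : Fˣ) (a b : Z3), g = sc u * K.W a b := by
  obtain ⟨c, hc⟩ := h 1 0
  obtain ⟨d, hd⟩ := h 0 1
  simp only [app, m1, mul_one, mul_zero, add_zero, zero_add] at hc hd
  exact K.centr hc hd

theorem T_sq : (T : GL Z3 F) * T = 1 := by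
  refine Units.ext (Matrix.ext fun z w => ?_)
  rw [Units.val_mul, Matrix.mul_apply, Finset.sum_eq_single (-z)]
  · simp [T_val, Matrix.one_apply]
  · intro x _ hx
    rw [T_val, if_neg (fun e => hx (by rw [e, neg_neg])), zero_mul]
  · exact fun h => absurd (Finset.mem_univ _) h

theorem T_inv : (T : GL Z3 F)⁻¹ = T := inv_eq_of_mul_eq_one_right T_sq

theorem T_W (a b : Z3) : T * K.W a b = K.W (-a) (-b) * (T : GL Z3 F) := mul_inv_eq_iff_eq_mul.1 (K.T_conj a b)

/-- moving the translation part of a reflected Weyl matrix -/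
theorem W_TW (a b : Z3) : ∃ c : Fˣ, K.W (-a) (-b) * (T * K.W a b) * (K.W (-a) (-b))⁻¹ = sc c * T := by
  set X := K.W (-a) (-b) with hX
  have h1 : T * X⁻¹ = (K.W a b)⁻¹ * (T : GL Z3 F) := by
    have h2 := K.T_conj (-a) (-b)
    rw [neg_neg, neg_neg, ← hX] at h2
    rw [← h2]; group
  refine ⟨K.e (-((-a) * (-b))) * K.e (-(a * b)) * K.e (-((-a) * (-b + -b))), ?_⟩
  rw [K.T_W, ← hX, show X * (X * T) * X⁻¹ = X * X * (T * X⁻¹) by group, h1, K.W_inv, ← hX]
  have h3 : (3 : Z3) = 0 := rfl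
  rw [hX, K.W_mul, ← mul_assoc (sc _ * K.W _ _), ← mul_assoc (sc _ * K.W _ _), mul_assoc (sc _) (K.W _ _) (sc _), ← sc_comm,
    ← mul_assoc (sc _) (sc _), ← map_mul, mul_assoc (sc _) (K.W _ _) (K.W _ _), K.W_mul, ← mul_assoc, ← map_mul,
    show -a + -a + -a = 0 by linear_combination -a * h3, show -b + -b + -b = 0 by linear_combination -b * h3, K.W_zero,
    mul_one]

/-- the central inversion -/
def jj : GL I9 F := col T * dgn T

theorem jj_sq : (jj : GL I9 F) * jj = 1 := by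
  rw [jj, mul_assoc, ← mul_assoc (dgn T), dgn_col_comm, mul_assoc (col T), ← map_mul dgn, T_sq, map_one, mul_one,
    ← map_mul, T_sq, map_one]

theorem jj_conj (v : V4) : jj * K.El v * (jj : GL I9 F)⁻¹ = K.El (-v) := by
  have h1 : ∀ x y : GL Z3 F, jj * (col x * dgn y) * (jj : GL I9 F)⁻¹ = col (T * x * T⁻¹) * dgn (T * y * T⁻¹) := fun x y => by
    rw [jj, map_mul, map_mul, map_mul, map_mul, map_inv, map_inv, _root_.mul_inv_rev]
    calc col T * dgn T * (col x * dgn y) * ((dgn T)⁻¹ * (col T)⁻¹)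
        = col T * (dgn T * col x) * (dgn y * (dgn T)⁻¹ * (col T)⁻¹) := by group
      _ = col T * col x * (dgn T * dgn y * (dgn T)⁻¹ * (col T)⁻¹) := by rw [dgn_col_comm]; group
      _ = col T * col x * ((col T)⁻¹ * (dgn T * dgn y * (dgn T)⁻¹)) := by
          rw [← map_inv col, ← map_inv dgn, ← map_mul dgn, ← map_mul dgn, dgn_col_comm]
      _ = _ := by group
  rw [El, h1, K.T_conj, K.T_conj]
  rfl

theorem El_val (v : V4) (z w : I9) :
    (K.El v : Matrix I9 I9 F) z w =
      (K.W v.1.1 v.1.2 : Matrix Z3 Z3 F) z.2 w.2 * (K.W v.2.1 v.2.2 : Matrix Z3 Z3 F) z.1 w.1 := by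
  rw [El, Units.val_mul, Matrix.mul_apply, Finset.sum_eq_single ((z.1, w.2) : I9)]
  · simp [dgn_val, col_val]
  · intro x _ hx
    rw [dgn_val, col_val]
    by_cases h1 : x.2 = w.2
    · rw [if_neg (fun e => hx (Prod.ext e.symm h1)), zero_mul]
    · rw [if_neg h1, mul_zero]
  · exact fun h => absurd (Finset.mem_univ _) h

theorem El_inj {v w : V4} {c : Fˣ} (h : K.El v = sc c * K.El w) : v = w := by
  have key : ∀ z z' : I9, (K.W v.1.1 v.1.2 : Matrix Z3 Z3 F) z.2 z'.2 * (K.W v.2.1 v.2.2 : Matrix Z3 Z3 F) z.1 z'.1 =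
      c * ((K.W w.1.1 w.1.2 : Matrix Z3 Z3 F) z.2 z'.2 * (K.W w.2.1 w.2.2 : Matrix Z3 Z3 F) z.1 z'.1) := fun z z' => by
    rw [← K.El_val, ← K.El_val, h, val_sc_mul, Matrix.smul_apply, smul_eq_mul]
  have hP : (K.W v.1.1 v.1.2 : Matrix Z3 Z3 F) v.1.2 0 ≠ 0 := by rw [W_val, zero_add, if_pos rfl]; exact (K.e _).ne_zero
  have hA : (K.W v.2.1 v.2.2 : Matrix Z3 Z3 F) v.2.2 0 ≠ 0 := by rw [W_val, zero_add, if_pos rfl]; exact (K.e _).ne_zero
  have k0 := key (v.2.2, v.1.2) (0, 0)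
  have hP' : (K.W w.1.1 w.1.2 : Matrix Z3 Z3 F) v.1.2 0 ≠ 0 := fun e => by
    rw [e, zero_mul, mul_zero] at k0; exact mul_ne_zero hP hA k0
  have hA' : (K.W w.2.1 w.2.2 : Matrix Z3 Z3 F) v.2.2 0 ≠ 0 := fun e => by
    rw [e, mul_zero, mul_zero] at k0; exact mul_ne_zero hP hA k0
  have eP : ∃ d : Fˣ, K.W v.1.1 v.1.2 = sc d * K.W w.1.1 w.1.2 := by
    refine ⟨Units.mk0 _ (mul_ne_zero (mul_ne_zero c.ne_zero hA') (inv_ne_zero hA)), Units.ext (Matrix.ext fun a b => ?_)⟩
    rw [val_sc_mul, Matrix.smul_apply, smul_eq_mul, Units.val_mk0]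
    have := key (v.2.2, a) (0, b)
    field_simp
    linear_combination this
  have eA : ∃ d : Fˣ, K.W v.2.1 v.2.2 = sc d * K.W w.2.1 w.2.2 := by
    refine ⟨Units.mk0 _ (mul_ne_zero (mul_ne_zero c.ne_zero hP') (inv_ne_zero hP)), Units.ext (Matrix.ext fun a b => ?_)⟩
    rw [val_sc_mul, Matrix.smul_apply, smul_eq_mul, Units.val_mk0]
    have := key (a, v.1.2) (b, 0)
    field_simp
    linear_combination this
  obtain ⟨d, hd⟩ := eP
  obtain ⟨d', hd'⟩ := eA
  exact Prod.ext (Prod.ext (K.W_inj hd).1 (K.W_inj hd).2) (Prod.ext (K.W_inj hd').1 (K.W_inj hd').2)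

theorem T_trace : Matrix.trace ((T : GL Z3 F) : Matrix Z3 Z3 F) = -1 := by
  rw [Matrix.trace, sum_z3]; simp +decide [Matrix.diag, T_val]

theorem trace_dgn (g : GL Z3 F) : Matrix.trace (dgn g : Matrix I9 I9 F) = 3 * Matrix.trace (g : Matrix Z3 Z3 F) := by
  simp only [Matrix.trace, Fintype.sum_prod_type, Matrix.diag, dgn_val, sum_z3, if_true]; ring

theorem trace_col (g : GL Z3 F) : Matrix.trace (col g : Matrix I9 I9 F) = 3 * Matrix.trace (g : Matrix Z3 Z3 F) := by
  simp only [Matrix.trace, Fintype.sum_prod_type, Matrix.diag, col_val, sum_z3, if_true]; ring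

theorem trace_jj : Matrix.trace ((jj : GL I9 F) : Matrix I9 I9 F) = 1 := by
  have h : ∀ z : I9, ((jj : GL I9 F) : Matrix I9 I9 F) z z =
      ((T : GL Z3 F) : Matrix Z3 Z3 F) z.2 z.2 * ((T : GL Z3 F) : Matrix Z3 Z3 F) z.1 z.1 := fun z => by
    rw [jj, Units.val_mul, Matrix.mul_apply, Finset.sum_eq_single ((z.1, z.2) : I9)]
    · simp [dgn_val, col_val]
    · intro x _ hx
      rw [dgn_val, col_val]
      by_cases h1 : x.2 = z.2
      · rw [if_neg (fun e => hx (Prod.ext e.symm h1)), zero_mul]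
      · rw [if_neg h1, mul_zero]
    · exact fun h => absurd (Finset.mem_univ _) h
  simp only [Matrix.trace, Matrix.diag, h, Fintype.sum_prod_type, sum_z3, T_val]
  simp +decide

theorem trace_conj {κ : Type*} [Fintype κ] [DecidableEq κ] (g x : GL κ F) :
    Matrix.trace ((g * x * g⁻¹ : GL κ F) : Matrix κ κ F) = Matrix.trace (x : Matrix κ κ F) := by
  rw [Units.val_mul, Units.val_mul, Matrix.trace_units_conj]

variable {K} [Finite F] {H : Subgroup (GL I9 F)} (O : K.Over H)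
include O

set_option maxHeartbeats 1600000 in
/-- the involutions of the normaliser -/
theorem Over.invol (hs : K.Small H) {z : GL I9 F} (hzH : z ∈ H) (hzN : z ∈ K.NR) (hz : z * z = 1) :
    z = 1 ∨ z * jj ∈ K.RS ∨ ∃ n ∈ K.base, n * z * n⁻¹ = dgn T := by
  have hzi : z⁻¹ = z := inv_eq_of_mul_eq_one_right hz
  by_cases hfix : ∀ (v : V4) (d : Fˣ), z * K.El v * z⁻¹ = sc d * K.El v → v = 0
  · refine Or.inr (Or.inl (K.mem_RS_of_centr fun v => ?_))
    obtain ⟨c, w, e⟩ := K.conj_class hzN (-v)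
    have hw : -v + w = 0 := by
      obtain ⟨a, ha⟩ := K.El_mul (-v) w
      obtain ⟨b, hb⟩ := K.El_mul w (-v)
      have e' : z * K.El w * z⁻¹ = sc c⁻¹ * K.El (-v) := by
        rw [show K.El w = sc c⁻¹ * (sc c * K.El w) by rw [← mul_assoc, ← map_mul, inv_mul_cancel, map_one, one_mul], ← e,
          conj_sc_mul, hzi, show z * (z * K.El (-v) * z) * z = z * z * K.El (-v) * (z * z) by group, hz, one_mul, mul_one]
      refine hfix _ (a⁻¹ * b) ?_
      calc z * K.El (-v + w) * z⁻¹ = z * (sc a⁻¹ * (K.El (-v) * K.El w)) * z⁻¹ := by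
            rw [ha, ← mul_assoc (sc a⁻¹), ← map_mul, inv_mul_cancel, map_one, one_mul]
        _ = sc a⁻¹ * (z * K.El (-v) * z⁻¹ * (z * K.El w * z⁻¹)) := by
            rw [conj_sc_mul, show z * (K.El (-v) * K.El w) * z⁻¹ = z * K.El (-v) * z⁻¹ * (z * K.El w * z⁻¹) by group]
        _ = sc a⁻¹ * (sc c * K.El w * (sc c⁻¹ * K.El (-v))) := by rw [e, e']
        _ = sc a⁻¹ * (K.El w * K.El (-v)) := by
            rw [mul_assoc (sc c), ← mul_assoc (K.El w), ← sc_comm, mul_assoc (sc c⁻¹), ← mul_assoc (sc c), ← map_mul,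
              mul_inv_cancel, map_one, one_mul]
        _ = sc (a⁻¹ * b) * K.El (-v + w) := by rw [hb, ← mul_assoc, ← map_mul, add_comm]
    rw [show w = v by linear_combination (norm := abel) hw] at e
    exact ⟨c, by rw [show z * jj * K.El v * (z * jj)⁻¹ = z * (jj * K.El v * jj⁻¹) * z⁻¹ by group, K.jj_conj, e]⟩
  push Not at hfix
  obtain ⟨v, d, e, hv⟩ := hfix
  obtain ⟨n, hn, c, hnc⟩ := K.to_X v hv
  have hX : K.El ((1, 0), (0, 0)) = col (K.W 1 0) := by simp [El, K.W_zero]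
  rw [hX] at hnc
  have hnH := O.base_le hn
  set z' := n * z * n⁻¹ with hz'
  have hz'2 : z' * z' = 1 := by
    rw [hz', show n * z * n⁻¹ * (n * z * n⁻¹) = n * (z * z) * n⁻¹ by group, hz, mul_one, mul_inv_cancel]
  have e' : z' * col (K.W 1 0) * z'⁻¹ = sc d * col (K.W 1 0) := by
    have h2 : sc c * (z' * col (K.W 1 0) * z'⁻¹) = sc c * (sc d * col (K.W 1 0)) := by
      rw [← conj_sc_mul, ← hnc, show z' * (n * K.El v * n⁻¹) * z'⁻¹ = n * (z * K.El v * z⁻¹) * n⁻¹ by rw [hz']; group,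
        e, conj_sc_mul, hnc, ← mul_assoc, ← mul_assoc, ← map_mul, ← map_mul, mul_comm]
    exact mul_left_cancel h2
  have hd : d = 1 := by
    have h3 : K.W 1 0 ^ 3 = 1 := by
      rw [K.W_split 1 0]
      simp [pow_succ, K.W_mul, e_zero, K.W_zero, show (1 : Z3) + 1 + 1 = 0 by decide, ZMod.val_one]
    have hone : ∀ d : Fˣ, (sc d : GL I9 F) = 1 → d = 1 := fun d h => by
      have := congrArg (fun m : GL I9 F => (m : Matrix I9 I9 F) 0 0) h
      simp only [sc_val, Units.val_one, Matrix.smul_apply, Matrix.one_apply_eq, smul_eq_mul, mul_one] at this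
      exact Units.ext this
    have h1 := congrArg (· ^ 3) e'
    simp only [conj_pow, ← map_pow, h3, map_one, mul_one, mul_inv_cancel] at h1
    rw [Commute.mul_pow (show Commute (sc d) (col (K.W 1 0)) from sc_comm _ _), ← map_pow, ← map_pow, h3, map_one,
      mul_one] at h1
    have hd3 := hone _ h1.symm
    have h2 : sc (d ^ 2) * col (K.W 1 0) = col (K.W 1 0) := by
      calc sc (d ^ 2) * col (K.W 1 0) = z' * (z' * col (K.W 1 0) * z'⁻¹) * z'⁻¹ := by
            rw [e', conj_sc_mul, e', ← mul_assoc, ← map_mul, pow_two]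
        _ = z' * z' * col (K.W 1 0) * (z' * z')⁻¹ := by group
        _ = _ := by rw [hz'2, one_mul, inv_one, mul_one]
    have hd2 := hone _ (mul_eq_right.1 h2)
    rw [pow_succ, hd2, one_mul] at hd3
    exact hd3
  subst hd
  rw [map_one, one_mul] at e'
  obtain ⟨f, hf⟩ := K.comm_iff (g := z') (by simpa [col_W_diag] using mul_inv_eq_iff_eq_mul.1 e')
  have hfH : blk f ∈ H := hf ▸ mul_mem (mul_mem hnH hzH) (inv_mem hnH)
  obtain ⟨u, g0, m, a, b, hg0, hform⟩ := O.local_form hs hfH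
  have hfs : ∀ i, f i * f i = 1 := by
    rw [hf, ← map_mul] at hz'2
    exact fun i => congrFun (blk_inj (hz'2.trans (map_one blk).symm)) i
  obtain ⟨μ, hμd, hμ⟩ := K.exists_img_gens hg0
  have h0 : f 0 = sc (u * K.e (m 0)) * g0 := by
    rw [hform 0, mul_zero, mul_zero, K.W_zero, mul_one, sc_comm]
  have hmm : comp μ μ = m1 := by
    have h1 := Img.mul K (Img.sc_mul K hμ (u * K.e (m 0))) (Img.sc_mul K hμ (u * K.e (m 0)))
    rw [← h0, hfs 0] at h1
    exact Img.unique K h1 K.img_one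
  rcases invol_cases μ hμd hmm with rfl | rfl
  · -- every block is scalar
    left
    obtain ⟨u', t, s, hg⟩ := K.centr_of_img hμ
    have hblock : ∀ i, ∃ v : Fˣ, ∃ a' b' : Z3, f i = sc (v * K.e (m i)) * K.W a' b' ∧ v ^ 3 = (u' * u) ^ 3 := fun i => by
      refine ⟨u' * u * K.e (-(a * i * s)), t + a * i, s + b * i, ?_, ?_⟩
      · rw [hform, hg, mul_assoc (sc u'), ← mul_assoc (K.W t s), ← sc_comm, mul_assoc (sc (u * K.e (m i))), K.W_mul,
          ← mul_assoc, ← mul_assoc, ← map_mul, ← map_mul]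
        congr 2
        apply Units.ext; push_cast; ring
      · rw [mul_pow, K.e_cube, mul_one]
    choose w a' b' hw hw3 using hblock
    have hsc : ∀ i, (w i * K.e (m i)) ^ 2 = 1 ∧ f i = sc (w i * K.e (m i)) := fun i => by
      have h1 := hfs i
      rw [hw, mul_assoc (sc _), ← mul_assoc (K.W _ _), ← sc_comm, mul_assoc (sc _) (K.W _ _), K.W_mul, ← mul_assoc,
        ← mul_assoc, ← map_mul, ← map_mul] at h1
      set q := w i * K.e (m i) * (w i * K.e (m i)) * K.e (-(a' i * b' i))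
      have h2 : K.W (a' i + a' i) (b' i + b' i) = sc q⁻¹ * K.W 0 0 := by
        rw [K.W_zero, mul_one, map_inv, eq_inv_of_mul_eq_one_right h1]
      obtain ⟨ha, hb⟩ := K.W_inj h2
      have h3 : (3 : Z3) = 0 := rfl
      have hwi := hw i
      rw [show a' i = 0 by linear_combination 2 * ha - a' i * h3, show b' i = 0 by linear_combination 2 * hb - b' i * h3,
        K.W_zero, mul_one] at hwi
      refine ⟨?_, hwi⟩
      have h4 := hfs i
      rw [hwi, ← map_mul, ← pow_two] at h4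
      have := congrArg (fun m : GL Z3 F => (m : Matrix Z3 Z3 F) 0 0) h4
      simp only [sc_val, Units.val_one, Matrix.smul_apply, Matrix.one_apply_eq, smul_eq_mul, mul_one] at this
      exact Units.ext this
    have heq : ∀ i, w i * K.e (m i) = w 0 * K.e (m 0) := fun i => by
      have h3 : ∀ i, (w i * K.e (m i)) ^ 3 = (u' * u) ^ 3 := fun i => by rw [mul_pow, hw3, K.e_cube, mul_one]
      have e2 : ∀ x : Fˣ, x ^ 2 = 1 → x ^ 3 = x := fun x hx => by rw [pow_succ, hx, one_mul]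
      rw [← e2 _ (hsc i).1, ← e2 _ (hsc 0).1, h3, h3]
    have hz'c : z' = sc (w 0 * K.e (m 0)) := by
      rw [hf, ← blk_const_sc]; congr 1; funext i; rw [(hsc i).2, heq]
    have hdet := O.sl z' (mul_mem (mul_mem hnH hzH) (inv_mem hnH))
    rw [hz'c, sc_val, Matrix.det_smul, Matrix.det_one, mul_one, Fintype.card_prod, ZMod.card,
      ← Units.val_pow_eq_pow_val] at hdet
    have hd9 : (w 0 * K.e (m 0)) ^ (3 * 3) = 1 := Units.ext hdet
    rw [show 3 * 3 = 2 * 4 + 1 from rfl, pow_succ, pow_mul, (hsc 0).1, one_pow, one_mul] at hd9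
    rw [hd9, map_one, hz', mul_inv_eq_iff_eq_mul, one_mul, mul_eq_left] at hz'c
    exact hz'c
  · -- every block is a translated reflection
    right; right
    have hT : (T : GL Z3 F) * g0 ∈ ({g | K.Img g m1} : Set (GL Z3 F)) := by
      have := K.img_T.mul K hμ
      rwa [show comp mT mT = m1 by decide] at this
    obtain ⟨u', t, s, hg⟩ := K.centr_of_img hT
    have hg0 : g0 = sc u' * (T * K.W t s) := by
      rw [← mul_assoc, sc_comm, mul_assoc, ← hg, ← mul_assoc, T_sq, one_mul]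
    have hblock : ∀ i, ∃ v : Fˣ, f i = sc v * (T * K.W (t + a * i) (s + b * i)) ∧ v ^ 3 = (u' * u) ^ 3 := fun i => by
      refine ⟨u' * u * K.e (m i) * K.e (-(a * i * s)), ?_, by rw [mul_pow, mul_pow, K.e_cube, K.e_cube, mul_one, mul_one]⟩
      rw [hform, hg0, mul_assoc (sc u'), mul_assoc (T : GL Z3 F), ← mul_assoc (K.W t s), ← sc_comm,
        mul_assoc (sc (u * K.e (m i))), K.W_mul, ← mul_assoc (sc (u * K.e (m i))), ← map_mul, ← mul_assoc (T : GL Z3 F), ← sc_comm,
        mul_assoc (sc _) T, ← mul_assoc, ← map_mul]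
      congr 2
      apply Units.ext; push_cast; ring
    choose w hw hw3 using hblock
    let n2 : GL I9 F := blk (fun i => K.W (-a * i) (-b * i)) * dgn (K.W (-t) (-s))
    have hn2 : n2 ∈ K.base := mul_mem (upow_base _ _) (dgn_base (K.W_exact_mem _ _))
    refine ⟨n2 * n, mul_mem hn2 hn, ?_⟩
    have hconj : ∀ i, ∃ v : Fˣ, K.W (-a * i) (-b * i) * K.W (-t) (-s) * f i * (K.W (-a * i) (-b * i) * K.W (-t) (-s))⁻¹ =
        sc v * T ∧ v ^ 3 = (u' * u) ^ 3 := fun i => by
      obtain ⟨c, hc⟩ := K.W_TW (t + a * i) (s + b * i)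
      refine ⟨w i * c, ?_, ?_⟩
      · rw [K.W_mul, sc_mul_conj, show -a * i + -t = -(t + a * i) by ring, show -b * i + -s = -(s + b * i) by ring, hw,
          conj_sc_mul, hc, map_mul, mul_assoc]
      · have hc3 : c ^ 3 = 1 := Units.ext (by
          have := congrArg (fun m : GL Z3 F => (m : Matrix Z3 Z3 F).det) hc
          simp only [det_conj, det_sc_mul, det_T, ZMod.card, mul_one] at this
          rw [Units.val_mul, Matrix.det_mul, det_T, K.det_W, one_mul] at this
          rw [Units.val_pow_eq_pow_val, Units.val_one, ← this])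
        rw [mul_pow, hw3, hc3, mul_one]
    choose v hv hv3 using hconj
    have hn2z : n2 * z' * n2⁻¹ = blk fun i => sc (v i) * T := by
      rw [hf]
      simp only [n2, dgn_eq, ← map_mul, ← map_inv]
      congr 1
      exact funext hv
    have hv2 : ∀ i, v i ^ 2 = 1 := fun i => by
      have h1 : (sc (v i) * T) * (sc (v i) * T) = (1 : GL Z3 F) := by
        rw [← hv]
        calc _ = K.W (-a * i) (-b * i) * K.W (-t) (-s) * (f i * f i) * (K.W (-a * i) (-b * i) * K.W (-t) (-s))⁻¹ := by group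
          _ = _ := by rw [hfs, mul_one, mul_inv_cancel]
      rw [mul_assoc, ← mul_assoc (T : GL Z3 F), ← sc_comm, mul_assoc, T_sq, mul_one, ← map_mul, ← pow_two] at h1
      have := congrArg (fun m : GL Z3 F => (m : Matrix Z3 Z3 F) 0 0) h1
      simp only [sc_val, Units.val_one, Matrix.smul_apply, Matrix.one_apply_eq, smul_eq_mul, mul_one] at this
      exact Units.ext this
    have heq : ∀ i, v i = v 0 := fun i => by
      have e2 : ∀ x : Fˣ, x ^ 2 = 1 → x ^ 3 = x := fun x hx => by rw [pow_succ, hx, one_mul]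
      rw [← e2 _ (hv2 i), ← e2 _ (hv2 0), hv3, hv3]
    have hall : n2 * z' * n2⁻¹ = sc (v 0) * dgn T := by
      rw [hn2z, ← dgn_sc, dgn_eq, dgn_eq, ← map_mul]; congr 1; funext i; rw [Pi.mul_apply, heq]
    have hv1 : v 0 = 1 := by
      have hdet := congrArg (fun m : GL I9 F => (m : Matrix I9 I9 F).det) hall
      simp only [det_conj, det_sc_mul, dgn_eq, det_blk, det_T, Finset.prod_const_one, mul_one, Fintype.card_prod,
        ZMod.card] at hdet
      rw [hz', det_conj, O.sl z hzH, ← Units.val_pow_eq_pow_val] at hdet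
      have hd9 : v 0 ^ (3 * 3) = 1 := Units.ext hdet.symm
      rw [show 3 * 3 = 2 * 4 + 1 from rfl, pow_succ, pow_mul, hv2, one_pow, one_mul] at hd9
      exact hd9
    rw [hv1, map_one, one_mul] at hall
    rw [← hall, hz']
    group

end Root

end Cfsg.Agent.ClassicalMax.SympThree
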