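import Cfsg.Agent.ClassicalMax.SympThree.Blocks
import Cfsg.Agent.Coprime.Generation

/-!
The elements of the overgroup acting by scalars on the eigenspace of the eigenvalue one of the involution of one
factor lie in the normaliser and fix the classes of the other factor.
-/

set_option autoImplicit false

namespace Cfsg.Agent.ClassicalMax.SympThree

open Matrix

variable {F : Type*} [Field F]
namespace Root

variable (K : Root F)

theorem col_comm_T (g : GL Z3 F) : col g * dgn T = dgn T * col g := (dgn_col_comm _ _).symm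

/-- an element of the normaliser commuting with the involution maps the other factor to itself -/
theorem factor_of_NR {k : GL I9 F} (hkN : k ∈ K.NR) (hk : k * dgn T = dgn T * k) (a b : Z3) :
    ∃ (c : Fˣ) (p q : Z3), k * col (K.W a b) * k⁻¹ = sc c * col (K.W p q) := by
  obtain ⟨c, ⟨⟨p, q⟩, ⟨a', b'⟩⟩, e⟩ := K.conj_class hkN ((a, b), (0, 0))
  have hX : K.El ((a, b), (0, 0)) = col (K.W a b) := by simp [El, K.W_zero]
  rw [hX] at e
  have e' : K.El ((p, q), (a', b')) = sc 1 * K.El ((p, q), (-a', -b')) := by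
    have h1 : dgn T * (k * col (K.W a b) * k⁻¹) * (dgn T)⁻¹ = k * col (K.W a b) * k⁻¹ := by
      rw [show dgn T * (k * col (K.W a b) * k⁻¹) * (dgn T)⁻¹ = dgn T * k * col (K.W a b) * (dgn T * k)⁻¹ by group,
        ← hk, show k * dgn T * col (K.W a b) * (k * dgn T)⁻¹ = k * (dgn T * col (K.W a b) * (dgn T)⁻¹) * k⁻¹ by group,
        dgn_col_comm, mul_inv_cancel_right]
    rw [e, conj_sc_mul, El, show dgn T * (col (K.W p q) * dgn (K.W a' b')) * (dgn T)⁻¹ =
      dgn T * col (K.W p q) * (dgn (K.W a' b') * (dgn T)⁻¹) by group, dgn_col_comm, mul_assoc (col _), ← mul_assoc (dgn T),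
      ← map_inv dgn, ← map_mul, ← map_mul, K.T_conj] at h1
    rw [map_one, one_mul]
    exact (mul_left_cancel h1).symm
  have h2 := K.El_inj e'
  simp only [Prod.mk.injEq, true_and] at h2
  have h3 : (3 : Z3) = 0 := rfl
  obtain rfl : a' = 0 := by linear_combination 2 * h2.1 - a' * h3
  obtain rfl : b' = 0 := by linear_combination 2 * h2.2 - b' * h3
  exact ⟨c, p, q, by rw [e, El, K.W_zero, map_one, mul_one]⟩

end Root

variable [NeZero (2 : F)]

/-- the scalar matrices in dimension nine -/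
def Zc (F : Type*) [Field F] : Subgroup (GL I9 F) := (sc : Fˣ →* GL I9 F).range

instance : (Zc F).Normal := ⟨fun _ ⟨c, e⟩ g => ⟨c, by rw [← e, sc_conj]⟩⟩

namespace Root

variable (K : Root F)

/-- scalar on the eigenspace of the eigenvalue one -/
def Kern (H : Subgroup (GL I9 F)) : Subgroup (GL I9 F) :=
  H ⊓ ((Subgroup.center (GL Z3 F)).comap K.rhoHom).map (Subgroup.subtype _)

theorem mem_Kern {H : Subgroup (GL I9 F)} {h : GL I9 F} :
    h ∈ K.Kern H ↔ h ∈ H ∧ h * dgn T = dgn T * h ∧ ∃ c : Fˣ, K.rho h = ((sc c : GL Z3 F) : Matrix Z3 Z3 F) := by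
  constructor
  · rintro ⟨hH, ⟨x, hx⟩, hc, rfl⟩
    obtain ⟨c, hc'⟩ := SympType.exists_sc_of_center hc
    refine ⟨hH, Subgroup.mem_centralizer_singleton_iff.1 hx, c, ?_⟩
    show (K.rhoHom ⟨x, hx⟩ : Matrix Z3 Z3 F) = _
    rw [sc_val, ← SympType.sc_val]
    exact congrArg Units.val hc'.symm
  · rintro ⟨hH, hT, c, hc⟩
    refine ⟨hH, ⟨h, Subgroup.mem_centralizer_singleton_iff.2 hT⟩, ?_, rfl⟩
    rw [SetLike.mem_coe, Subgroup.mem_comap, show K.rhoHom ⟨h, _⟩ = sc c from Units.ext hc]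
    exact Subgroup.mem_center_iff.2 fun g => (sc_comm c g).symm

theorem rho_conj_col {k : GL I9 F} (hk : k * dgn T = dgn T * k) (g : GL Z3 F) :
    ∀ hkc, K.rho (k * col g * k⁻¹) =
      ((K.rhoHom ⟨k, hkc⟩ * g * (K.rhoHom ⟨k, hkc⟩)⁻¹ : GL Z3 F) : Matrix Z3 Z3 F) := fun hkc => by
  have hg : col g ∈ Subgroup.centralizer ({dgn T} : Set (GL I9 F)) :=
    Subgroup.mem_centralizer_singleton_iff.2 (col_comm_T g)
  have e : K.rhoHom ⟨col g, hg⟩ = g := Units.ext (K.rho_col g)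
  conv_rhs => rw [← e]
  rw [← map_inv, ← map_mul, ← map_mul]
  rfl

theorem rho_conj_scalar {k : GL I9 F} (hk : k * dgn T = dgn T * k) {c : Fˣ}
    (hc : K.rho k = ((sc c : GL Z3 F) : Matrix Z3 Z3 F)) (g : GL Z3 F) :
    K.rho (k * col g * k⁻¹) = (g : Matrix Z3 Z3 F) := by
  have hkc : k ∈ Subgroup.centralizer ({dgn T} : Set (GL I9 F)) := Subgroup.mem_centralizer_singleton_iff.2 hk
  rw [K.rho_conj_col hk g hkc, show K.rhoHom ⟨k, hkc⟩ = sc c from Units.ext hc, sc_comm, mul_inv_cancel_right]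

/-- in the normaliser the scalar action forces to fix the other factor -/
theorem kern_comm {H : Subgroup (GL I9 F)} {k : GL I9 F} (hk : k ∈ K.Kern H) (hkN : k ∈ K.NR) (a b : Z3) :
    k * col (K.W a b) = col (K.W a b) * k := by
  obtain ⟨-, hT, c, hc⟩ := K.mem_Kern.1 hk
  obtain ⟨u, p, q, e⟩ := K.factor_of_NR hkN hT a b
  have h1 := K.rho_conj_scalar hT hc (K.W a b)
  rw [e, ← col_sc, ← map_mul, K.rho_col] at h1
  have h2 : sc u * K.W p q = K.W a b := Units.ext h1
  rw [← col_sc, ← map_mul, h2] at e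
  exact mul_inv_eq_iff_eq_mul.1 e

theorem T_Fr : K.Fr * T = (T : GL Z3 F) * K.Fr := Units.ext (Matrix.ext fun z w => by
  rw [Units.val_mul, Units.val_mul, Matrix.mul_apply, Matrix.mul_apply, Finset.sum_eq_single (-w),
    Finset.sum_eq_single (-z)]
  · simp [T_val, Fr_val]
  · intro x _ hx
    rw [T_val, if_neg (fun e => hx (by rw [e, neg_neg])), zero_mul]
  · exact fun h => absurd (Finset.mem_univ _) h
  · intro x _ hx
    rw [T_val, if_neg hx, mul_zero]
  · exact fun h => absurd (Finset.mem_univ _) h)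

theorem Dg_gens : K.Dg 1 ∈ K.gens := by
  have e : K.Dg 1 = K.W 0 1 * K.P * (K.W 0 1)⁻¹ := by
    rw [eq_mul_inv_iff_mul_eq]
    refine Units.ext (Matrix.ext fun z w => ?_)
    rw [Units.val_mul, Units.val_mul, Matrix.mul_apply, Matrix.mul_apply, sum_z3, sum_z3]
    rcases z3_cases z with rfl | rfl | rfl <;> rcases z3_cases w with rfl | rfl | rfl <;>
      simp +decide [Dg_val, W_val, P, ph, e_zero, mul_comm]
  rw [e]
  exact mul_mem (mul_mem (K.W_exact_mem 0 1) (Subgroup.subset_closure (by simp))) (inv_mem (K.W_exact_mem 0 1))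

theorem rho_dgn (g : GL Z3 F) :
    K.rho (dgn g) = ((K.Qm⁻¹ * g * K.Qm : GL Z3 F) : Matrix Z3 Z3 F) 2 2 • (1 : Matrix Z3 Z3 F) :=
  Matrix.ext fun i i' => by
  rw [rho, Matrix.of_apply, chart, C9, ← map_inv, ← map_mul, ← map_mul, dgn_val, Matrix.smul_apply, Matrix.one_apply,
    smul_eq_mul, mul_ite, mul_one, mul_zero]

theorem rho_dgn_scalar {g : GL Z3 F} (hg : g * T = T * g) :
    ∃ c : Fˣ, K.rho (dgn g) = ((sc c : GL Z3 F) : Matrix Z3 Z3 F) := by
  have hc : dgn g ∈ Subgroup.centralizer ({dgn T} : Set (GL I9 F)) :=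
    Subgroup.mem_centralizer_singleton_iff.2 (by rw [← map_mul, ← map_mul, hg])
  have h0 : ((K.Qm⁻¹ * g * K.Qm : GL Z3 F) : Matrix Z3 Z3 F) 2 2 ≠ 0 := fun e => by
    have h1 := congrArg (· 0 0) (K.rhoHom ⟨_, hc⟩).mul_inv
    simp only [K.rhoHom_val, K.rho_dgn, e, zero_smul, Matrix.zero_mul, Matrix.zero_apply, Matrix.one_apply_eq] at h1
    exact zero_ne_one h1
  exact ⟨Units.mk0 _ h0, by rw [K.rho_dgn, sc_val, Units.val_mk0]⟩

variable {K} [Fintype F] {H : Subgroup (GL I9 F)} (O : K.Over H) (hs : K.Small H) (hD : K.Amb H)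
include O hs hD

omit hs hD in
theorem Over.col_W_mem (a b : Z3) : col (K.W a b) ∈ H := by
  rw [← K.ch_const]; exact O.col_mem (K.W_exact_mem a b)

omit hs hD in
theorem Over.tau_kern : dgn (K.Dg 1) ∈ K.Kern H := by
  refine K.mem_Kern.2 ⟨O.const _ K.Dg_gens, ?_, 1, ?_⟩
  · rw [K.dgn_Dg_eq]; exact K.comm_T _
  · rw [K.dgn_Dg_eq, K.rho_ch]; simp +decide

/-- the centraliser of the diagonal element is diagonal -/
theorem Over.kern_diag {h : GL I9 F} (hk : h ∈ K.Kern H) (hc : h * dgn (K.Dg 1) = dgn (K.Dg 1) * h) :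
    ∃ d : Z3 → Fˣ, h = K.ch fun x => sc (d x) := by
  obtain ⟨hH, hT, c, hrho⟩ := K.mem_Kern.1 hk
  obtain ⟨f, rfl⟩ := K.exists_ch hT hc
  rw [K.rho_ch] at hrho
  choose d hd using O.tau_cent hs hD hH ⟨c, Units.ext hrho⟩
  exact ⟨d, congrArg _ (funext hd)⟩

theorem Over.kern_tau {g : GL I9 F} (hg : g ∈ K.Kern H)
    (hc : g * dgn (K.Dg 1) * g⁻¹ * dgn (K.Dg 1) = dgn (K.Dg 1) * (g * dgn (K.Dg 1) * g⁻¹)) :
    g * dgn (K.Dg 1) = dgn (K.Dg 1) * g := by
  set τ : GL I9 F := dgn (K.Dg 1) with hτ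
  have hτK := O.tau_kern
  have hmem : g * τ * g⁻¹ ∈ K.Kern H := mul_mem (mul_mem hg hτK) (inv_mem hg)
  obtain ⟨d, hd⟩ := O.kern_diag hs hD hmem hc
  have h3 : τ ^ 3 = 1 := by
    rw [hτ, K.dgn_Dg_eq, ← map_pow, ← map_one K.ch]
    congr 1
    funext x
    rw [Pi.pow_apply, ← map_pow, Pi.one_apply, ← map_one sc]
    congr 1
    split_ifs
    exacts [K.e_cube 1, one_pow 3]
  have hd3 : ∀ x, d x ^ 3 = 1 := fun x => by
    have h1 : (fun x => sc (d x)) ^ 3 = (1 : Z3 → GL Z3 F) :=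
      K.ch_inj (by rw [map_pow, ← hd, conj_pow, h3, map_one, mul_one, mul_inv_cancel])
    have h2 := congrFun h1 x
    rw [Pi.pow_apply, ← map_pow] at h2
    exact sc_inj3 (h2.trans (map_one sc).symm)
  obtain ⟨hgH, hgT, cg, hgrho⟩ := K.mem_Kern.1 hg
  have hd2 : d 2 = 1 := by
    have hgc : g ∈ Subgroup.centralizer ({dgn T} : Set (GL I9 F)) := Subgroup.mem_centralizer_singleton_iff.2 hgT
    have htc : τ ∈ Subgroup.centralizer ({dgn T} : Set (GL I9 F)) :=
      Subgroup.mem_centralizer_singleton_iff.2 (K.mem_Kern.1 hτK).2.1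
    have h1 : K.rhoHom ⟨τ, htc⟩ = 1 := Units.ext (by
      show K.rho τ = _
      rw [hτ, K.dgn_Dg_eq, K.rho_ch]; simp +decide)
    have h2 : K.rhoHom (⟨g, hgc⟩ * ⟨τ, htc⟩ * ⟨g, hgc⟩⁻¹) = 1 := by
      rw [map_mul, map_mul, h1, mul_one, map_inv, mul_inv_cancel]
    have h3' : K.rho (g * τ * g⁻¹) = 1 := congrArg Units.val h2
    rw [hd, K.rho_ch] at h3'
    exact sc_inj3 ((Units.ext h3').trans (map_one sc).symm)
  have hH' : K.ch (fun x => sc (d x)) ∈ H := hd ▸ (K.mem_Kern.1 hmem).1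
  have hd1 : d 1 = 1 := O.rel_one hs hH' hd2 (hd3 0)
  obtain ⟨k, hk⟩ := K.exists_e (c := (d 0 : F)) (by rw [← Units.val_pow_eq_pow_val, hd3, Units.val_one])
  have hfun : (fun x => sc (d x)) = fun x => (sc (if x = 0 then K.e k else 1) : GL Z3 F) := funext fun x => by
    rcases z3_cases x with rfl | rfl | rfl
    · rw [if_pos rfl, Units.ext hk]
    · rw [hd1, if_neg (by decide)]
    · rw [hd2, if_neg (by decide)]
  have hform : g * τ * g⁻¹ = dgn (K.Dg k) := by rw [hd, hfun, K.dgn_Dg_eq]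
  have htr := congrArg (fun m : GL I9 F => Matrix.trace (m : Matrix I9 I9 F)) hform
  simp only [trace_conj, hτ, trace_dgn] at htr
  have htD : ∀ x, Matrix.trace (K.Dg x : Matrix Z3 Z3 F) = K.e x + 2 := fun x => by
    rw [Matrix.trace, sum_z3]
    simp +decide [Matrix.diag, Dg_val]
    ring
  rw [htD, htD] at htr
  obtain rfl : k = 1 := (K.e_val_inj (by linear_combination mul_left_cancel₀ K.three htr)).symm
  exact mul_inv_eq_iff_eq_mul.1 hform

theorem Over.kern_comm_cent {g h : GL I9 F} (hg : g ∈ K.Kern H) (hh : h ∈ K.Kern H)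
    (h1 : g * dgn (K.Dg 1) = dgn (K.Dg 1) * g) (h2 : h * dgn (K.Dg 1) = dgn (K.Dg 1) * h) : g * h = h * g := by
  obtain ⟨d, rfl⟩ := O.kern_diag hs hD hg h1
  obtain ⟨d', rfl⟩ := O.kern_diag hs hD hh h2
  rw [← map_mul, ← map_mul]
  exact congrArg _ (funext fun x => sc_comm _ _)

/-- the kernel lies in the normaliser -/
theorem Over.kern_le : K.Kern H ≤ K.NR := by
  haveI : Fact (Nat.Prime 3) := ⟨Nat.prime_three⟩
  have hτH := O.tau_kern
  set t : K.Kern H := ⟨dgn (K.Dg 1), hτH⟩ with ht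
  have ht3 : t ^ (3 ^ 1) = 1 := Subtype.ext (by
    rw [pow_one, SubmonoidClass.coe_pow]
    show dgn (K.Dg 1) ^ 3 = 1
    rw [← map_pow, ← map_one dgn]
    congr 1
    refine Units.ext ?_
    rw [Units.val_pow_eq_pow_val]
    show (Matrix.diagonal _) ^ 3 = _
    rw [Matrix.diagonal_pow, Units.val_one, ← Matrix.diagonal_one]
    congr 1
    funext z
    rw [Pi.pow_apply]
    split_ifs
    · rw [← Units.val_pow_eq_pow_val, K.e_cube, Units.val_one]
    · exact one_pow 3)
  have hz : IsPGroup 3 (Subgroup.zpowers t) := by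
    rintro ⟨x, j, rfl⟩
    refine ⟨1, Subtype.ext ?_⟩
    show (t ^ j) ^ (3 ^ 1) = 1
    rw [← zpow_natCast, ← _root_.zpow_mul, mul_comm, _root_.zpow_mul, zpow_natCast, ht3, _root_.one_zpow]
  obtain ⟨P, hP⟩ := hz.exists_le_sylow
  have htP : t ∈ P := hP (Subgroup.mem_zpowers t)
  -- the Sylow subgroup centralises the diagonal element
  have hPt : ∀ x ∈ P, x * t = t * x := by
    let C : Subgroup P := Subgroup.centralizer {⟨t, htP⟩}
    haveI : Group.IsNilpotent P := P.isPGroup'.isNilpotent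
    by_contra hne
    push Not at hne
    obtain ⟨x, hx, hxt⟩ := hne
    have hlt : C < ⊤ := lt_top_iff_ne_top.2 fun e => hxt (congrArg Subtype.val
      (Subgroup.mem_centralizer_singleton_iff.1 (show (⟨x, hx⟩ : P) ∈ C by rw [e]; trivial)))
    obtain ⟨y, hy, hyC⟩ := SetLike.exists_of_lt (Group.normalizerCondition_of_isNilpotent C hlt)
    refine hyC (Subgroup.mem_centralizer_singleton_iff.2 (Subtype.ext (Subtype.ext ?_)))
    have h1 : y * ⟨t, htP⟩ * y⁻¹ ∈ C :=
      (Subgroup.mem_normalizer_iff.1 hy _).1 (Subgroup.mem_centralizer_singleton_iff.2 rfl)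
    have h2 := congrArg (fun p : P => ((p : K.Kern H) : GL I9 F)) (Subgroup.mem_centralizer_singleton_iff.1 h1)
    exact O.kern_tau hs hD (y : K.Kern H).2 h2
  have hN : Subgroup.normalizer (P : Set (K.Kern H)) ≤ Subgroup.centralizer (P : Set (K.Kern H)) := by
    intro g hg
    have h1 := hPt _ ((Subgroup.mem_normalizer_iff.1 hg t).1 htP)
    have hgt := O.kern_tau hs hD g.2 (congrArg Subtype.val h1)
    exact Subgroup.mem_centralizer_iff.2 fun x hx => Subtype.ext
      (O.kern_comm_cent hs hD x.2 g.2 (congrArg Subtype.val (hPt x hx)) hgt)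
  have hcomp := MonoidHom.ker_transferSylow_isComplement' P hN
  set M := (MonoidHom.transferSylow P hN).ker with hM
  set M' := M.map (K.Kern H).subtype with hM'
  have hX0 : (((1, 0), (0, 0)) : V4) ≠ 0 := fun e => absurd (congrArg (fun v : V4 => v.1.1) e) one_ne_zero
  have hndvd : ¬ 3 ∣ Nat.card M' := by
    rw [hM', Subgroup.card_map_of_injective (K.Kern H).subtype_injective]
    exact MonoidHom.not_dvd_card_ker_transferSylow P hN
  have hcolN : ∀ a b, col (K.W a b) ∈ K.NR := fun a b => K.col_nor_mem (K.nor_W a b)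
  -- the other factor normalises the complement
  have hstab : ∀ (a b : Z3) (m : GL I9 F), m ∈ M' → col (K.W a b) * m * (col (K.W a b))⁻¹ ∈ M' := by
    rintro a b _ ⟨m, hm, rfl⟩
    obtain ⟨hmH, hmT, c, hc⟩ := K.mem_Kern.1 m.2
    set w := col (K.W a b) with hw
    have hmem : w * m * w⁻¹ ∈ K.Kern H := by
      refine K.mem_Kern.2 ⟨mul_mem (mul_mem (O.col_W_mem a b) hmH) (inv_mem (O.col_W_mem a b)), ?_, c, ?_⟩
      · rw [hw, ← map_inv, mul_assoc (col _ * _), col_comm_T, ← mul_assoc, mul_assoc (col _) _ (dgn T), hmT,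
          ← mul_assoc (col _), col_comm_T, mul_assoc (dgn T), mul_assoc (dgn T)]
      · have hmc : (m : GL I9 F) ∈ Subgroup.centralizer ({dgn T} : Set (GL I9 F)) :=
          Subgroup.mem_centralizer_singleton_iff.2 hmT
        have hwc : w ∈ Subgroup.centralizer ({dgn T} : Set (GL I9 F)) :=
          Subgroup.mem_centralizer_singleton_iff.2 (col_comm_T _)
        show (K.rhoHom (⟨w, hwc⟩ * ⟨m, hmc⟩ * ⟨w, hwc⟩⁻¹) : Matrix Z3 Z3 F) = _
        rw [map_mul, map_mul, map_inv, show K.rhoHom ⟨(m : GL I9 F), hmc⟩ = sc c from Units.ext hc, sc_conj]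
    refine ⟨⟨_, hmem⟩, ?_, rfl⟩
    set x : K.Kern H := ⟨_, hmem⟩
    obtain ⟨k, hk⟩ := P.isPGroup' (MonoidHom.transferSylow P hN x)
    have hox : orderOf x ∣ Nat.card M' := by
      rw [← Subgroup.orderOf_coe]
      show orderOf (w * (m : GL I9 F) * w⁻¹) ∣ _
      rw [show w * (m : GL I9 F) * w⁻¹ = MulAut.conj w (m : GL I9 F) from rfl, MulEquiv.orderOf_eq]
      exact Subgroup.orderOf_dvd_natCard _ ⟨m, hm, rfl⟩
    have hcop : Nat.Coprime (3 ^ k) (Nat.card M') :=
      Nat.Coprime.pow_left _ ((Nat.Prime.coprime_iff_not_dvd Nat.prime_three).2 hndvd)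
    have h1 : orderOf (MonoidHom.transferSylow P hN x) = 1 :=
      Nat.eq_one_of_dvd_coprimes hcop (orderOf_dvd_of_pow_eq_one hk) ((orderOf_map_dvd _ x).trans hox)
    exact MonoidHom.mem_ker.2 (orderOf_eq_one_iff.1 h1)
  -- generation in the quotient by the scalars
  let q := QuotientGroup.mk' (Zc F)
  have hq : ∀ c : Fˣ, q (sc c) = 1 := fun c => (QuotientGroup.eq_one_iff _).2 ⟨c, rfl⟩
  let φ : Multiplicative V4 →* GL I9 F ⧸ Zc F :=
    MonoidHom.mk' (fun v => q (K.El v.toAdd)) fun v w => by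
      obtain ⟨c, hc⟩ := K.El_mul v.toAdd w.toAdd
      rw [← map_mul q, hc, map_mul q, hq, one_mul]
      rfl
  set A := φ (Multiplicative.ofAdd ((1, 0), (0, 0))) with hA
  set B := φ (Multiplicative.ofAdd ((0, 1), (0, 0))) with hB
  have hnat : ∀ a b : Z3, φ (Multiplicative.ofAdd ((a, b), (0, 0))) ∈
      Subgroup.normalizer (M'.map q : Set (GL I9 F ⧸ Zc F)) := fun a b => by
    haveI : Finite ↥(M'.map q : Set (GL I9 F ⧸ Zc F)) := Subtype.finite
    refine Subgroup.mem_normalizer_fintype ?_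
    rintro _ ⟨m, hm, rfl⟩
    refine ⟨_, hstab a b m hm, ?_⟩
    rw [map_mul, map_mul, map_inv]
    simp [φ, q, El, K.W_zero]
  have hcube : ∀ v : Multiplicative V4, φ v ^ 3 = 1 := fun v => by
    have h3 : ∀ v : V4, v + v + v = 0 := fun v => by
      have h : ∀ z : Z3, z + z + z = 0 := fun z => by
        rcases z3_cases z with rfl | rfl | rfl <;> rfl
      exact Prod.ext (Prod.ext (h _) (h _)) (Prod.ext (h _) (h _))
    rw [← map_pow, show v ^ 3 = 1 from congrArg Multiplicative.ofAdd ((succ_nsmul v.toAdd 2).trans (by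
      rw [two_nsmul]; exact h3 _)), map_one]
  have hcard : (Nat.card (M'.map q)) ∣ Nat.card M' := Subgroup.card_map_dvd _ _
  have hsub : M'.map q ≤ K.NR.map q := by
    have h4 : Nat.card (Multiplicative V4) = 3 ^ 4 := by
      rw [Nat.card_congr Multiplicative.toAdd]; simp [Nat.card_prod, Nat.card_zmod]
    refine Coprime.le_of_centralizers_le (a := A) (b := B) ?_ (hnat 1 0) (hnat 0 1) Nat.prime_three ?_ ?_ ?_ ?_ ?_ ?_
    · exact (Commute.all (Multiplicative.ofAdd ((1, 0), (0, 0))) (Multiplicative.ofAdd ((0, 1), (0, 0)))).map φ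
    · rw [hA, hcube]; exact one_mem _
    · rw [hB, hcube]; exact one_mem _
    · exact (Nat.Prime.coprime_iff_not_dvd Nat.prime_three).2 fun h => hndvd (h.trans hcard)
    · refine Nat.Coprime.coprime_dvd_right hcard (Nat.Coprime.coprime_dvd_left ?_
        (Nat.Coprime.pow_left 4 ((Nat.Prime.coprime_iff_not_dvd Nat.prime_three).2 hndvd)))
      rw [← h4]
      refine (Subgroup.card_dvd_of_le (K := φ.range) ((Subgroup.closure_le _).2 ?_)).trans (Subgroup.card_range_dvd φ)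
      rintro x (rfl | rfl)
      exacts [⟨_, rfl⟩, ⟨_, rfl⟩]
    · rintro _ ⟨⟨m, hm, rfl⟩, hc⟩
      have h1 := Subgroup.mem_centralizer_singleton_iff.1 hc
      refine ⟨m, ?_, rfl⟩
      obtain ⟨m0, -, rfl⟩ := hm
      obtain ⟨c, hc'⟩ := (QuotientGroup.eq_one_iff _).1 (show q ((m0 : GL I9 F) * K.El ((1, 0), (0, 0)) *
        (m0 : GL I9 F)⁻¹ * (K.El ((1, 0), (0, 0)))⁻¹) = 1 by
          rw [map_mul, map_mul, map_mul, map_inv, map_inv]
          exact mul_inv_eq_one.2 (mul_inv_eq_iff_eq_mul.2 h1))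
      exact O.cent_mem hs (K.mem_Kern.1 m0.2).1 (v := ((1, 0), (0, 0))) hX0 (mul_inv_eq_iff_eq_mul.1 hc'.symm)
    · intro n
      rintro _ ⟨⟨m, hm, rfl⟩, hc⟩
      have h1 := Subgroup.mem_centralizer_singleton_iff.1 hc
      rw [hA, hB, ← map_pow, ← map_mul] at h1
      refine ⟨m, ?_, rfl⟩
      obtain ⟨m0, -, rfl⟩ := hm
      set v : V4 := Multiplicative.toAdd (Multiplicative.ofAdd (((1, 0), (0, 0)) : V4) ^ n *
        Multiplicative.ofAdd (((0, 1), (0, 0)) : V4)) with hv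
      have hv0 : v ≠ 0 := fun e => by
        have := congrArg (fun v : V4 => v.1.2) e
        simp [hv] at this
      obtain ⟨c, hc'⟩ := (QuotientGroup.eq_one_iff _).1 (show q ((m0 : GL I9 F) * K.El v *
        (m0 : GL I9 F)⁻¹ * (K.El v)⁻¹) = 1 by
          rw [map_mul, map_mul, map_mul, map_inv, map_inv]
          exact mul_inv_eq_one.2 (mul_inv_eq_iff_eq_mul.2 h1))
      exact O.cent_mem hs (K.mem_Kern.1 m0.2).1 hv0 (mul_inv_eq_iff_eq_mul.1 hc'.symm)
  have hMN : M' ≤ K.NR := fun m hm => by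
    obtain ⟨n, hn, e⟩ := hsub ⟨m, hm, rfl⟩
    obtain ⟨c, hc⟩ := QuotientGroup.eq.1 (show (n : GL I9 F ⧸ Zc F) = m from e)
    rw [show m = n * (n⁻¹ * m) by group, ← hc]
    exact mul_mem hn (K.sc_mem_NR c)
  intro k hk
  obtain ⟨⟨m, p⟩, e⟩ := hcomp.2 ⟨k, hk⟩
  have e' : k = (m : K.Kern H).1 * (p : K.Kern H).1 := (congrArg Subtype.val e).symm
  rw [e']
  refine mul_mem (hMN ⟨m, m.2, rfl⟩) ?_
  obtain ⟨d, hd⟩ := O.kern_diag hs hD (p : K.Kern H).2 (congrArg Subtype.val (hPt _ p.2))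
  rw [K.ch_sc] at hd
  refine O.cent_mem hs (K.mem_Kern.1 (p : K.Kern H).2).1 (v := ((1, 0), (0, 0))) (d := 1) hX0 ?_
  rw [map_one, one_mul, hd, show K.El ((1, 0), (0, 0)) = col (K.W 1 0) by simp [El, K.W_zero], dgn_col_comm,
    mul_inv_cancel_right]

omit O hs hD in
theorem D3_no_image (c : Fˣ) (p q : Z3)
    (h : Matrix.SpecialLinearGroup.toGL (D3 (F := F)) * K.W 0 1 =
      sc c * K.W p q * Matrix.SpecialLinearGroup.toGL (D3 (F := F))) : False := by
  have key : ∀ z w : Z3, (if z = 2 then (1 : F) else -1) * (K.W 0 1 : Matrix Z3 Z3 F) z w =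
      c * (K.W p q : Matrix Z3 Z3 F) z w * (if w = 2 then (1 : F) else -1) := fun z w => by
    have h1 := congrArg (fun m : GL Z3 F => (m : Matrix Z3 Z3 F) z w) h
    simp only [Units.val_mul, val_sc_mul, Matrix.SpecialLinearGroup.coe_GL_coe_matrix] at h1
    change ((Matrix.diagonal fun z : Z3 => if z = 2 then (1 : F) else -1) * (K.W 0 1 : Matrix Z3 Z3 F)) z w = _ at h1
    rw [Matrix.diagonal_mul] at h1
    rw [h1]
    rw [sc_val, show ((D3 : Matrix.SpecialLinearGroup Z3 F) : Matrix Z3 Z3 F) =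
      Matrix.diagonal (fun z : Z3 => if z = 2 then (1 : F) else -1) from rfl]
    rw [Matrix.mul_diagonal, Matrix.smul_mul, Matrix.one_mul, Matrix.smul_apply, smul_eq_mul]
  obtain rfl : q = 1 := by
    by_contra hq
    have k := key 1 0
    rw [W_val, W_val, zero_add, zero_add, if_pos rfl, if_neg (Ne.symm hq), mul_zero, zero_mul, zero_mul] at k
    simp +decide [e_zero] at k
  have k0 := key 0 2
  have k1 := key 1 0
  simp +decide [W_val, e_zero] at k0 k1
  have hc : (c : F) = -1 := by linear_combination -k0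
  have hp : (K.e p : F) = -1 := by linear_combination k1 + (K.e p : F) * hc
  have h3 := congrArg Units.val (K.e_cube p)
  rw [Units.val_pow_eq_pow_val, hp, Units.val_one] at h3
  exact K.two (by linear_combination -h3)

/-- the centraliser of the involution of one factor lies in the normaliser -/
theorem Over.cent_T {k : GL I9 F} (hkH : k ∈ H) (hkT : k * dgn T = dgn T * k) : k ∈ K.NR := by
  have hkern : ∀ m ∈ K.Kern H, ∀ a b, m * col (K.W a b) = col (K.W a b) * m := fun m hm =>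
    K.kern_comm hm (O.kern_le hs hD hm)
  let C := Subgroup.centralizer ({dgn T} : Set (GL I9 F))
  let k' : C := ⟨k, Subgroup.mem_centralizer_singleton_iff.2 hkT⟩
  have hcol : ∀ g ∈ K.gens, col g ∈ H := fun g hg => by rw [← K.ch_const]; exact O.col_mem hg
  let colC : GL Z3 F → C := fun g => ⟨col g, Subgroup.mem_centralizer_singleton_iff.2 (col_comm_T g)⟩
  have hrc : ∀ g, K.rhoHom (colC g) = g := fun g => Units.ext (K.rho_col g)
  rcases hD.dich (withSc ((H.subgroupOf C).map K.rhoHom))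
    (by rintro _ ⟨c, _, ⟨x, hx, rfl⟩, rfl⟩; exact mul_mem (hD.sc_mem c) (hD.rho_mem x hx)) (fun g hg => ⟨1, g, ⟨colC g, hcol g hg, hrc g⟩, by rw [map_one, one_mul]⟩)
    (fun c => sc_mem_withSc _ c) with hN | hFull
  · obtain ⟨u, g, hg, e⟩ := K.exists_gen (hN _ ⟨1, K.rhoHom k', ⟨k', hkH, rfl⟩, by rw [map_one, one_mul]⟩)
    have h1 : K.rhoHom ((colC g)⁻¹ * k') = sc u := by
      rw [map_mul, map_inv, hrc, e, sc_comm, inv_mul_cancel_left]
    have h2 : (col g)⁻¹ * k ∈ K.Kern H := K.mem_Kern.2 ⟨mul_mem (inv_mem (hcol g hg)) hkH,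
      Subgroup.mem_centralizer_singleton_iff.1 ((colC g)⁻¹ * k').2, u, congrArg Units.val h1⟩
    rw [show k = col g * ((col g)⁻¹ * k) by group]
    exact mul_mem (K.col_nor_mem (K.nor_gens hg)) (O.kern_le hs hD h2)
  · exfalso
    obtain ⟨c, _, ⟨k0, hk0, rfl⟩, e⟩ := hFull _ (hD.D3_mem D3 rfl)
    set X := col (K.W 1 0) with hX
    set s := (k0 : GL I9 F) * X * (k0 : GL I9 F)⁻¹ * X⁻¹ with hs'
    have hkD : K.rhoHom k0 = sc c⁻¹ * Matrix.SpecialLinearGroup.toGL (D3 (F := F)) := by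
      rw [e, ← mul_assoc, ← map_mul, inv_mul_cancel, map_one, one_mul]
    have hconj : ∀ g, K.rhoHom (k0 * colC g * k0⁻¹) =
        Matrix.SpecialLinearGroup.toGL (D3 (F := F)) * g * (Matrix.SpecialLinearGroup.toGL (D3 (F := F)))⁻¹ := fun g => by
      rw [map_mul, map_mul, map_inv, hrc, hkD, sc_mul_conj]
    have hs1 : K.rhoHom (k0 * colC (K.W 1 0) * k0⁻¹ * (colC (K.W 1 0))⁻¹) = 1 := by
      rw [map_mul, hconj, map_inv, hrc, K.D3_comm, mul_inv_cancel_right, mul_inv_cancel]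
    have hsK : s ∈ K.Kern H := K.mem_Kern.2 ⟨mul_mem (mul_mem (mul_mem hk0 (O.col_W_mem 1 0)) (inv_mem hk0))
      (inv_mem (O.col_W_mem 1 0)), Subgroup.mem_centralizer_singleton_iff.1
        (k0 * colC (K.W 1 0) * k0⁻¹ * (colC (K.W 1 0))⁻¹).2, 1, by
        rw [map_one]; exact congrArg Units.val hs1⟩
    have hcen : ∀ m ∈ K.Kern H, m * s = s * m := by
      intro m hm
      obtain ⟨hmH, hmT, v, hv⟩ := K.mem_Kern.1 hm
      let m' : C := ⟨m, Subgroup.mem_centralizer_singleton_iff.2 hmT⟩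
      have h1 : (k0 : GL I9 F)⁻¹ * m * k0 ∈ K.Kern H :=
        K.mem_Kern.2 ⟨mul_mem (mul_mem (inv_mem hk0) hmH) hk0,
          Subgroup.mem_centralizer_singleton_iff.1 (k0⁻¹ * m' * k0).2, v, congrArg Units.val (show
            K.rhoHom (k0⁻¹ * m' * k0) = sc v by
              rw [map_mul, map_mul, map_inv, show K.rhoHom m' = sc v from Units.ext hv, ← sc_comm,
                mul_assoc, inv_mul_cancel, mul_one])⟩
      have h2 := hkern _ h1 1 0
      have h3 := hkern m hm 1 0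
      rw [← hX] at h2 h3
      calc m * s = (k0 : GL I9 F) * ((k0 : GL I9 F)⁻¹ * m * k0 * X) * (k0 : GL I9 F)⁻¹ * X⁻¹ := by rw [hs']; group
        _ = (k0 : GL I9 F) * X * (k0 : GL I9 F)⁻¹ * (m * X⁻¹) := by rw [h2]; group
        _ = (k0 : GL I9 F) * X * (k0 : GL I9 F)⁻¹ * (X⁻¹ * m) := by
            rw [show m * X⁻¹ = X⁻¹ * (X * m) * X⁻¹ by group, ← h3]; group
        _ = s * m := by rw [hs']; group
    obtain ⟨d, hd⟩ := O.kern_diag hs hD hsK (hcen _ O.tau_kern).symm
    have hX3 : X ^ 3 = 1 := by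
      rw [hX, ← map_pow, K.W_split 1 0]
      simp [pow_succ, K.W_mul, e_zero, K.W_zero, show (1 : Z3) + 1 + 1 = 0 by decide, ZMod.val_one]
    have hs3 : s ^ 3 = 1 := by
      have h1 : Commute s X := hkern s hsK 1 0
      have h2 := congrArg (· ^ 3) (show s * X = (k0 : GL I9 F) * X * (k0 : GL I9 F)⁻¹ by rw [hs']; group)
      simpa [h1.mul_pow, conj_pow, hX3] using h2
    have hd3 : ∀ x, d x ^ 3 = 1 := fun x => by
      rw [hd, ← map_pow, ← map_one K.ch] at hs3
      have h2 := congrFun (K.ch_inj hs3) x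
      rw [Pi.pow_apply, ← map_pow] at h2
      exact sc_inj3 (h2.trans (map_one sc).symm)
    have hd2 : d 2 = 1 := by
      have h1 : K.rho s = 1 := congrArg Units.val hs1
      rw [hd, K.rho_ch] at h1
      exact sc_inj3 ((Units.ext h1).trans (map_one sc).symm)
    have hd1 : d 1 = 1 := O.rel_one hs (hd ▸ (K.mem_Kern.1 hsK).1) hd2 (hd3 0)
    obtain ⟨j, hj⟩ := K.exists_e (c := (d 0 : F)) (by rw [← Units.val_pow_eq_pow_val, hd3, Units.val_one])
    have hfun : (fun x => sc (d x)) = fun x => (sc (if x = 0 then K.e j else 1) : GL Z3 F) := funext fun x => by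
      rcases z3_cases x with rfl | rfl | rfl
      · rw [if_pos rfl, Units.ext hj]
      · rw [hd1, if_neg (by decide)]
      · rw [hd2, if_neg (by decide)]
    rw [hfun, ← K.dgn_Dg_eq] at hd
    have hF : dgn K.Fr ∈ K.Kern H := K.mem_Kern.2 ⟨O.const _ (Subgroup.subset_closure (by simp)),
      by rw [← map_mul, ← map_mul, K.T_Fr], K.rho_dgn_scalar K.T_Fr⟩
    have hj0 : j = 0 := by
      have h1 := hcen _ hF
      rw [hd, ← map_mul, ← map_mul] at h1
      have h2 := congrArg (fun m : GL Z3 F => (m : Matrix Z3 Z3 F) 1 0) (congrFun (blk_inj h1) 0)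
      simp +decide [Matrix.mul_apply, sum_z3, Dg_val, Fr_val, e_zero] at h2
      refine K.e_val_inj ?_
      rw [eval0]
      exact (mul_eq_left₀ (inv_ne_zero (sub_ne_zero.2 K.ne_one.symm))).1 h2
    have hk0N : (k0 : GL I9 F) ∈ K.NR := by
      have hfix : (k0 : GL I9 F) * X * (k0 : GL I9 F)⁻¹ = X := by
        rw [hj0, K.Dg_zero, map_one, hs'] at hd
        exact mul_inv_eq_one.1 hd
      refine O.cent_mem hs hk0 (v := ((1, 0), (0, 0)))
        (fun e => absurd (congrArg (fun v : V4 => v.1.1) e) one_ne_zero) (d := 1) ?_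
      rw [map_one, one_mul, show K.El ((1, 0), (0, 0)) = X by simp [hX, El, K.W_zero]]
      exact hfix
    obtain ⟨u, p, q, he⟩ := K.factor_of_NR hk0N (Subgroup.mem_centralizer_singleton_iff.1 k0.2) 0 1
    rw [← col_sc, ← map_mul] at he
    have h1 : K.rhoHom (k0 * colC (K.W 0 1) * k0⁻¹) = sc u * K.W p q := by
      rw [← hrc (sc u * K.W p q)]
      exact congrArg _ (Subtype.ext he)
    rw [hconj, mul_inv_eq_iff_eq_mul] at h1
    exact D3_no_image u p q h1

end Root

end Cfsg.Agent.ClassicalMax.SympThree
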