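import Cfsg.Agent.ClassicalMax.SympThree.Model

/-!
If the blocks of the centraliser of the phase normalise the groups of order 27 then this centraliser lies in the
normaliser of the group of order 243.
-/

set_option autoImplicit false

namespace Cfsg.Agent.ClassicalMax.SympThree

open Matrix

variable {F : Type*} [Field F]

theorem det_conj {κ : Type*} [Fintype κ] [DecidableEq κ] (g x : GL κ F) :
    ((g * x * g⁻¹ : GL κ F) : Matrix κ κ F).det = (x : Matrix κ κ F).det := by
  rw [Units.val_mul, Units.val_mul, Matrix.det_units_conj]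

/-- negation of the first index in one block -/
def flipAt (i : Z3) : Equiv.Perm I9 :=
  (show Function.Involutive (fun z : I9 => if z.2 = i then (-z.1, z.2) else z) from fun z => by
    by_cases h : z.2 = i <;> simp [h, Prod.ext_iff]).toPerm

theorem flipAt_apply (i : Z3) (z : I9) : flipAt i z = if z.2 = i then (-z.1, z.2) else z := rfl

theorem blk_T (i : Z3) : (blk (Pi.mulSingle i Root.T) : GL I9 F) = smon (flipAt i) (fun w => decide (w.2 = i)) := by
  refine Units.ext (Matrix.ext fun z w => ?_)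
  rw [blk_val, smon_val, flipAt_apply]
  obtain ⟨a, j⟩ := z
  obtain ⟨a', j'⟩ := w
  by_cases h : j' = i
  · subst h
    by_cases hj : j = j'
    · subst hj; simp [Root.T_val, Prod.ext_iff]
    · simp [hj, Prod.ext_iff]
  · by_cases hj : j = j'
    · subst hj; simp [h, Prod.ext_iff, Matrix.one_apply]
    · simp [hj, h, Prod.ext_iff]

theorem smon_ext {π π' : Equiv.Perm I9} {b b' : I9 → Bool} (h : π = π') (h' : b = b') :
    (smon π b : GL I9 F) = smon π' b' := by rw [h, h']

namespace Root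

variable {K : Root F}

theorem W_exact_mem (a b : Z3) : K.W a b ∈ K.gens := by
  have h1 : K.W 1 0 ∈ K.gens := Subgroup.subset_closure (by simp)
  have h2 : K.W 0 1 ∈ K.gens := Subgroup.subset_closure (by simp)
  have ha : ∀ n : ℕ, K.W (n : Z3) 0 ∈ K.gens := fun n => by
    induction n with
    | zero => rw [Nat.cast_zero, K.W_zero]; exact one_mem _
    | succ n ih =>
      have := mul_mem ih h1
      rwa [K.W_mul, mul_zero, neg_zero, e_zero, map_one, one_mul, add_zero, ← Nat.cast_succ] at this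
  have hb : ∀ n : ℕ, K.W 0 (n : Z3) ∈ K.gens := fun n => by
    induction n with
    | zero => rw [Nat.cast_zero, K.W_zero]; exact one_mem _
    | succ n ih =>
      have := mul_mem ih h2
      rwa [K.W_mul, zero_mul, neg_zero, e_zero, map_one, one_mul, add_zero, ← Nat.cast_succ] at this
  have := mul_mem (ha a.val) (hb b.val)
  rwa [K.W_mul, mul_zero, neg_zero, e_zero, map_one, one_mul, add_zero, zero_add, ZMod.natCast_zmod_val,
    ZMod.natCast_zmod_val] at this

/-- the part of the overgroup that is known to normalise the model -/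
def base (K : Root F) : Subgroup (GL I9 F) :=
  Subgroup.closure ((dgn '' (K.gens : Set (GL Z3 F))) ∪ (Set.range fun v : Z3 × Z3 => blk fun i => K.W (v.1 * i) (v.2 * i)) ∪
    (Set.range fun f : Z3 → Z3 => blk fun i => sc (K.e (f i))) ∪ {yy, sw})

theorem dgn_base {g : GL Z3 F} (hg : g ∈ K.gens) : dgn g ∈ K.base :=
  Subgroup.subset_closure (Or.inl (Or.inl (Or.inl ⟨g, hg, rfl⟩)))
theorem upow_base (a b : Z3) : blk (fun i => K.W (a * i) (b * i)) ∈ K.base :=
  Subgroup.subset_closure (Or.inl (Or.inl (Or.inr ⟨(a, b), rfl⟩)))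
theorem phase_base (f : Z3 → Z3) : blk (fun i => sc (K.e (f i))) ∈ K.base :=
  Subgroup.subset_closure (Or.inl (Or.inr ⟨f, rfl⟩))
theorem yy_base : yy ∈ K.base := Subgroup.subset_closure (Or.inr (by simp))
theorem sw_base : sw ∈ K.base := Subgroup.subset_closure (Or.inr (by simp))

variable {H : Subgroup (GL I9 F)} (O : K.Over H)
include O

theorem Over.base_le : K.base ≤ H := by
  refine (Subgroup.closure_le _).2 ?_
  rintro g (((⟨g', h, rfl⟩ | ⟨v, rfl⟩) | ⟨f, rfl⟩) | h)
  · exact O.const _ h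
  · exact O.upow _ _
  · exact O.phase _
  · rcases h with rfl | rfl
    exacts [O.shift, O.swap]

/-- the certificate: a single shifted diagonal cannot belong to a small overgroup -/
theorem Over.no_single (hs : K.Small H) (h : blk (Pi.mulSingle 0 (K.W 1 0)) ∈ H) : False := by
  have hz : ∀ k : Z3, blk (fun i => K.Dg (i + k)) ∈ H := fun k => by
    have h1 := mul_mem (O.phase (fun i => if i = 0 then k else 0)) h
    rw [← map_mul] at h1
    have h2 : (fun i => sc (K.e (if i = 0 then k else 0))) * Pi.mulSingle 0 (K.W 1 0) =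
        Pi.mulSingle (0 : Z3) (sc (K.e k) * K.W 1 0) := funext fun i => by
      by_cases hi : i = 0
      · subst hi; simp
      · simp [hi, e_zero]
    rw [h2] at h1
    rw [← K.sw_single]
    exact mul_mem (mul_mem O.swap h1) O.swap
  have hF := O.const K.Fr (Subgroup.subset_closure (by simp))
  have hc := mul_mem (mul_mem (hz 0) (mul_mem (mul_mem hF (hz 2)) (inv_mem hF)))
    (mul_mem (inv_mem (hz 0)) (inv_mem (mul_mem (mul_mem hF (hz 2)) (inv_mem hF))))
  have hc2 := pow_mem hc 2
  rw [dgn_eq] at hc2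
  simp only [← map_inv, ← map_mul, ← map_pow] at hc2
  have hsq : ∀ i : Z3, ((K.Dg (i + 0)) * (K.Fr * K.Dg (i + 2) * K.Fr⁻¹) *
      ((K.Dg (i + 0))⁻¹ * (K.Fr * K.Dg (i + 2) * K.Fr⁻¹)⁻¹)) ^ 2 = (Pi.mulSingle (2 : Z3) T : Z3 → GL Z3 F) i := by
    intro i
    rcases z3_cases i with rfl | rfl | rfl
    · rw [Pi.mulSingle_eq_of_ne (show (0 : Z3) ≠ 2 by decide), add_zero, K.Dg_zero]; group
    · rw [Pi.mulSingle_eq_of_ne (show (1 : Z3) ≠ 2 by decide), show (1 : Z3) + 2 = 0 by decide, K.Dg_zero]; group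
    · rw [Pi.mulSingle_eq_same, show (2 : Z3) + 2 = 1 by decide, add_zero, ← mul_assoc, K.comm_sq]
  have h2 : blk (Pi.mulSingle (2 : Z3) T) ∈ H := by
    convert hc2 using 2
    exact funext fun i => (hsq i).symm
  have hshift : ∀ j : Z3, blk (Pi.mulSingle j T) ∈ H → blk (Pi.mulSingle (j + 1) T) ∈ H := fun j hj => by
    have := mul_mem (mul_mem O.shift hj) (inv_mem O.shift)
    rw [yy_conj] at this
    convert this using 2
    funext i
    by_cases e : i = j + 1
    · subst e; simp
    · rw [Pi.mulSingle_eq_of_ne e, Pi.mulSingle_eq_of_ne (fun e' => e (by rw [← e', sub_add_cancel]))]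
  have hρ : blk (Pi.mulSingle (0 : Z3) T) ∈ H := by
    have := hshift 2 h2
    rwa [show (2 : Z3) + 1 = 0 by decide] at this
  have h1 : blk (Pi.mulSingle (1 : Z3) T) ∈ H := by simpa using hshift 0 hρ
  have hγ := mul_mem (mul_mem O.swap h1) O.swap
  have hw := mul_mem (mul_mem hγ hρ) (mul_mem hγ hρ)
  rw [blk_T, blk_T, sw, smon_mul, smon_mul, smon_mul, smon_mul] at hw
  have hw' : (smon 1 fun w : I9 => decide (w.2 = 0 ∧ w.1 ≠ 0) : GL I9 F) ∈ H := by
    convert hw using 1
    exact smon_ext (by decide +kernel) (funext (by decide +kernel))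
  set w := (smon 1 fun w : I9 => decide (w.2 = 0 ∧ w.1 ≠ 0) : GL I9 F) with hwd
  have hcomm : w * (blk fun i => sc (K.e i)) = (blk fun i => sc (K.e i)) * w := Units.ext (Matrix.ext fun z z' => by
    rw [hwd, Units.val_mul, Units.val_mul, Matrix.mul_apply, Matrix.mul_apply, Finset.sum_eq_single z,
      Finset.sum_eq_single z']
    · rw [smon_val, smon_val, blk_val, sc_val, Matrix.smul_apply, Matrix.one_apply]
      by_cases e : z = z'
      · subst e; simp [mul_comm]
      · by_cases e2 : z.2 = z'.2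
        · simp [e, e2, show z.1 ≠ z'.1 from fun h => e (Prod.ext h e2)]
        · simp [e, e2]
    · intro x _ hx
      rw [smon_val, if_neg (by simpa using hx), mul_zero]
    · exact fun h => absurd (Finset.mem_univ _) h
    · intro x _ hx
      rw [smon_val, if_neg (by simpa using Ne.symm hx), zero_mul]
    · exact fun h => absurd (Finset.mem_univ _) h)
  obtain ⟨f, hf⟩ := K.comm_iff hcomm
  obtain ⟨c, a, b, e⟩ := hs.nor f (hf ▸ hw') 0 0 1
  have hent : ∀ z z', (f 0 : Matrix Z3 Z3 F) z z' = if z = z' then (if z = 0 then 1 else -1) else 0 := fun z z' => by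
    have := congrArg (fun m : GL I9 F => (m : Matrix I9 I9 F) (z, 0) (z', 0)) hf
    simp only [blk_val, if_pos] at this
    rw [← this, hwd, smon_val]
    by_cases e : z = z'
    · subst e; by_cases e0 : z = 0 <;> simp [e0]
    · simp [e]
  rw [mul_inv_eq_iff_eq_mul] at e
  have eq : ∀ z z', (if z = z' + 1 then (if z = 0 then 1 else -1) else 0 : F) =
      (c : F) * ((if z = z' + b then (K.e (a * z) : F) else 0) * (if z' = 0 then 1 else -1)) := fun z z' => by
    have h' := congrArg (fun m : GL Z3 F => (m : Matrix Z3 Z3 F) z z') e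
    rw [Units.val_mul, Units.val_mul, val_sc_mul, Matrix.smul_mul] at h'
    simp only [Matrix.smul_apply, smul_eq_mul,
      Matrix.mul_apply, hent, W_val, ite_mul, mul_ite, zero_mul, mul_zero] at h'
    simp only [Finset.sum_ite_eq, Finset.sum_ite_eq', Finset.mem_univ, if_true, eval0] at h'
    simp only [ite_mul, mul_ite, zero_mul, mul_zero, mul_one, one_mul, mul_neg, neg_mul] at h' ⊢
    rw [h']; split_ifs <;> simp
  have e10 := eq 1 0
  have e21 := eq 2 1
  have e02 := eq 0 2
  rcases z3_cases b with rfl | rfl | rfl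
  · simp +decide at e10
  swap
  · simp +decide at e10
  simp +decide [mul_one, e_zero] at e10 e21 e02
  rcases z3_cases a with rfl | rfl | rfl
  · rw [show (0 : Z3) * 2 = 0 by decide, eval0] at e21
    exact hs.nt (by linear_combination e02 + e21) h2
  · rw [eval1] at e10
    exact K.ne_one (by linear_combination e10 + (K.l : F) * e02)
  · rw [eval2] at e10
    have hl : (K.l : F) * K.l = 1 := by linear_combination e10 + (K.l : F) * K.l * e02
    exact K.ne_one (by linear_combination K.cube - (K.l : F) * hl)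

/-- exponents of Weyl matrices in the blocks have vanishing sums -/
theorem Over.sum_zero (hs : K.Small H) (c : Z3 → Fˣ) (hc : ∀ i, (c i) ^ 3 = 1) (a b : Z3 → Z3)
    (h : blk (fun i => sc (c i) * K.W (a i) (b i)) ∈ H) : a 0 + a 1 + a 2 = 0 ∧ b 0 + b 1 + b 2 = 0 := by
  by_contra hne
  have hk : ∀ i, ∃ k, c i = K.e k := fun i => by
    obtain ⟨k, hk⟩ := K.exists_e (show (c i : F) ^ 3 = 1 by rw [← Units.val_pow_eq_pow_val, hc, Units.val_one])
    exact ⟨k, Units.ext hk⟩
  choose k hk using hk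
  set A := a 0 + a 1 + a 2
  set B := b 0 + b 1 + b 2
  set x := a 1 - a 0
  set y := b 1 - b 0
  have h1 := mul_mem (mul_mem h (O.upow (-x) (-y))) (O.const _ (K.W_exact_mem (-a 0) (-b 0)))
  rw [dgn_eq, ← map_mul, ← map_mul] at h1
  have h2 : ∃ m : Z3 → Z3, (fun i => sc (c i) * K.W (a i) (b i)) * (fun i => K.W (-x * i) (-y * i)) *
      (fun _ => K.W (-a 0) (-b 0)) = fun i => sc (K.e (m i)) * (Pi.mulSingle (2 : Z3) (K.W A B) : Z3 → GL Z3 F) i := by
    refine ⟨fun i => k i + -(-x * i * b i) + -(-a 0 * (b i + -y * i)), funext fun i => ?_⟩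
    simp only [Pi.mul_apply, hk]
    rw [mul_assoc (sc (K.e (k i))), K.W_mul, ← mul_assoc, ← map_mul, mul_assoc, K.W_mul, ← mul_assoc, ← map_mul,
      ← K.e_add, ← K.e_add]
    congr 1
    rcases z3_cases i with rfl | rfl | rfl
    · rw [Pi.mulSingle_eq_of_ne (show (0 : Z3) ≠ 2 by decide), ← K.W_zero]; congr 1 <;> ring
    · rw [Pi.mulSingle_eq_of_ne (show (1 : Z3) ≠ 2 by decide), ← K.W_zero]; congr 1 <;> ring
    · rw [Pi.mulSingle_eq_same]
      have h3 : (3 : Z3) = 0 := rfl
      congr 1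
      · show a 2 + -x * 2 + -a 0 = a 0 + a 1 + a 2
        linear_combination (-a 1) * h3
      · show b 2 + -y * 2 + -b 0 = b 0 + b 1 + b 2
        linear_combination (-b 1) * h3
  obtain ⟨m, hm⟩ := h2
  rw [hm] at h1
  have h4 := mul_mem (O.phase fun i => -m i) h1
  rw [← map_mul] at h4
  have h5 : ((fun i => sc (K.e (-m i))) * fun i => sc (K.e (m i)) * (Pi.mulSingle (2 : Z3) (K.W A B) : Z3 → GL Z3 F) i) =
      Pi.mulSingle (2 : Z3) (K.W A B) := funext fun i => by
    rw [Pi.mul_apply, ← mul_assoc, ← map_mul, ← K.e_add, neg_add_cancel, e_zero, map_one, one_mul]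
  rw [h5] at h4
  have h6 := mul_mem (mul_mem O.shift h4) (inv_mem O.shift)
  rw [yy_conj] at h6
  have h7 : (fun i : Z3 => (Pi.mulSingle (2 : Z3) (K.W A B) : Z3 → GL Z3 F) (i - 1)) = Pi.mulSingle (0 : Z3) (K.W A B) :=
    funext fun i => by
      by_cases e : i = 0
      · subst e; rw [show (0 : Z3) - 1 = 2 by decide]; simp
      · rw [Pi.mulSingle_eq_of_ne e, Pi.mulSingle_eq_of_ne (fun e' => e (by
          rw [← sub_add_cancel i 1, e']; rfl))]
  rw [h7] at h6
  obtain ⟨m2, hm2, happ⟩ := exists_to_first A B (by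
    rcases not_and_or.1 hne with e | e
    exacts [Or.inl e, Or.inr e])
  obtain ⟨g, hg, hi⟩ := K.exists_img hm2
  obtain ⟨d, hd⟩ := hi A B
  rw [happ] at hd
  have hd3 : (d : F) ^ 3 = 1 := by
    have := congrArg (fun m : GL Z3 F => (m : Matrix Z3 Z3 F).det) hd
    simp only [det_conj, det_sc_mul, K.det_W, ZMod.card, mul_one] at this
    exact this.symm
  obtain ⟨k0, hk0⟩ := K.exists_e hd3
  have h8 := mul_mem (O.phase fun i => if i = 0 then -k0 else 0)
    (mul_mem (mul_mem (O.const g hg) h6) (inv_mem (O.const g hg)))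
  rw [dgn_eq, ← map_inv, ← map_mul, ← map_mul, ← map_mul] at h8
  refine O.no_single hs ?_
  convert h8 using 2
  funext i
  by_cases e : i = 0
  · subst e
    simp only [Pi.mul_apply, Pi.inv_apply, Pi.mulSingle_eq_same, if_pos, hd]
    rw [← mul_assoc, ← map_mul, show d = K.e k0 from Units.ext hk0, ← K.e_add, neg_add_cancel, e_zero, map_one, one_mul]
  · simp [e, e_zero]

/-- the blocks of an element centralising the phase -/
theorem Over.local_form (hs : K.Small H) {f : Z3 → GL Z3 F} (hf : blk f ∈ H) :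
    ∃ (u : Fˣ) (g0 : GL Z3 F) (m : Z3 → Z3) (a b : Z3), g0 ∈ K.gens ∧
      ∀ i, f i = g0 * (sc (u * K.e (m i)) * K.W (a * i) (b * i)) := by
  obtain ⟨u0, g0, hg0, e0⟩ := K.exists_gen (hs.nor f hf 0)
  set f' : Z3 → GL Z3 F := fun i => g0⁻¹ * f i with hf'
  have hf'H : blk f' ∈ H := by
    have := mul_mem (inv_mem (O.const g0 hg0)) hf
    rwa [dgn_eq, ← map_inv, ← map_mul] at this
  have hf0 : f' 0 = sc u0 := by rw [hf']; show g0⁻¹ * f 0 = _; rw [e0, sc_comm, inv_mul_cancel_left]
  choose c p q hpq using fun i => hs.nor f' hf'H i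
  have hc : ∀ i a b, (c i a b) ^ 3 = 1 := fun i a b => Units.ext (by
    have := congrArg (fun m : GL Z3 F => (m : Matrix Z3 Z3 F).det) (hpq i a b)
    simp only [det_conj, det_sc_mul, K.det_W, ZMod.card, mul_one] at this
    rw [Units.val_pow_eq_pow_val, Units.val_one, ← this])
  have h00 : ∀ a b, p 0 a b = a ∧ q 0 a b = b := fun a b => by
    have h1 := hpq 0 a b
    rw [hf0, sc_comm, mul_inv_cancel_right] at h1
    exact ⟨(K.W_inj h1).1.symm, (K.W_inj h1).2.symm⟩
  have hone : ∀ a b, p 0 a b + p 1 a b + p 2 a b = 0 ∧ q 0 a b + q 1 a b + q 2 a b = 0 := fun a b => by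
    have h1 := mul_mem (mul_mem hf'H (O.const _ (K.W_exact_mem a b))) (inv_mem hf'H)
    rw [dgn_eq, ← map_inv, ← map_mul, ← map_mul] at h1
    have h2 : (f' * (fun _ => K.W a b) * f'⁻¹) = fun i => sc (c i a b) * K.W (p i a b) (q i a b) :=
      funext fun i => hpq i a b
    rw [h2] at h1
    exact O.sum_zero hs _ (fun i => hc i a b) _ _ h1
  have htwo : ∀ a b, p 1 a b + p 2 (a * 2) (b * 2) = 0 ∧ q 1 a b + q 2 (a * 2) (b * 2) = 0 := fun a b => by
    have h1 := mul_mem (mul_mem hf'H (O.upow a b)) (inv_mem hf'H)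
    rw [← map_inv, ← map_mul, ← map_mul] at h1
    have h2 : (f' * (fun i => K.W (a * i) (b * i)) * f'⁻¹) =
        fun i => sc (c i (a * i) (b * i)) * K.W (p i (a * i) (b * i)) (q i (a * i) (b * i)) :=
      funext fun i => hpq i _ _
    rw [h2] at h1
    have := O.sum_zero hs _ (fun i => hc i _ _) _ _ h1
    simpa [h00, mul_one, mul_zero] using this
  have hneg : ∀ i a b, p i (a * 2) (b * 2) = -p i a b ∧ q i (a * 2) (b * 2) = -q i a b := fun i a b => by
    have h1 : f' i * (K.W a b * K.W a b) * (f' i)⁻¹ = sc (K.e (-(a * b))) * (sc (c i (a * 2) (b * 2)) *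
        K.W (p i (a * 2) (b * 2)) (q i (a * 2) (b * 2))) := by
      rw [← hpq, K.W_mul, conj_sc_mul, mul_two, mul_two]
    have h2 : f' i * (K.W a b * K.W a b) * (f' i)⁻¹ = sc (c i a b * c i a b * K.e (-(p i a b * q i a b))) *
        K.W (-p i a b) (-q i a b) := by
      rw [show f' i * (K.W a b * K.W a b) * (f' i)⁻¹ = f' i * K.W a b * (f' i)⁻¹ * (f' i * K.W a b * (f' i)⁻¹) by group,
        hpq, mul_assoc, ← mul_assoc (K.W _ _), ← sc_comm, mul_assoc (sc (c i a b)) (K.W _ _), K.W_mul, ← mul_assoc,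
        ← mul_assoc, ← map_mul, ← map_mul]
      congr 1
      have h3 : (3 : Z3) = 0 := rfl
      congr 1
      · linear_combination (p i a b) * h3
      · linear_combination (q i a b) * h3
    rw [h2, ← mul_assoc, ← map_mul] at h1
    have h4 := K.W_inj (c := (c i a b * c i a b * K.e (-(p i a b * q i a b))) / (K.e (-(a * b)) * c i (a * 2) (b * 2)))
      (a := p i (a * 2) (b * 2)) (b := q i (a * 2) (b * 2)) (a' := -p i a b) (b' := -q i a b) (by
        rw [div_eq_inv_mul, map_mul, map_inv, mul_assoc, h1, inv_mul_cancel_left])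
    exact h4
  have heq : ∀ i a b, p i a b = a ∧ q i a b = b := fun i a b => by
    obtain ⟨s1, t1⟩ := hone a b
    obtain ⟨s2, t2⟩ := htwo a b
    rw [(hneg 2 a b).1] at s2
    rw [(hneg 2 a b).2] at t2
    rw [(h00 a b).1] at s1
    rw [(h00 a b).2] at t1
    have h3 : (3 : Z3) = 0 := rfl
    rcases z3_cases i with rfl | rfl | rfl
    · exact h00 a b
    · exact ⟨by linear_combination 2 * s1 + 2 * s2 - a * h3 - p 1 a b * h3,
        by linear_combination 2 * t1 + 2 * t2 - b * h3 - q 1 a b * h3⟩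
    · exact ⟨by linear_combination 2 * s1 - 2 * s2 - a * h3 - p 2 a b * h3,
        by linear_combination 2 * t1 - 2 * t2 - b * h3 - q 2 a b * h3⟩
  have hcen : ∀ i, ∃ (u : Fˣ) (a b : Z3), f' i = sc u * K.W a b := fun i => by
    have h1 := hpq i 1 0
    have h2 := hpq i 0 1
    rw [(heq i 1 0).1, (heq i 1 0).2] at h1
    rw [(heq i 0 1).1, (heq i 0 1).2] at h2
    exact K.centr h1 h2
  choose u a b hab using hcen
  have ha0 : a 0 = 0 ∧ b 0 = 0 := by
    have h1 := hab 0
    rw [hf0] at h1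
    have h2 : K.W (a 0) (b 0) = sc ((u 0)⁻¹ * u0) * K.W 0 0 := by
      rw [K.W_zero, mul_one, map_mul, map_inv, h1, inv_mul_cancel_left]
    exact K.W_inj h2
  -- the exponents are linear in the block
  obtain ⟨sa, sb⟩ : a 0 + a 1 + a 2 = 0 ∧ b 0 + b 1 + b 2 = 0 := by
    have hF : K.Fr ∈ K.gens := Subgroup.subset_closure (by simp)
    have h1 := mul_mem hf'H (mul_mem (mul_mem (O.const _ hF) (inv_mem hf'H)) (inv_mem (O.const _ hF)))
    rw [dgn_eq, ← map_inv, ← map_inv, ← map_mul, ← map_mul, ← map_mul] at h1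
    have h2 : f' * ((fun _ => K.Fr) * f'⁻¹ * (fun _ => K.Fr)⁻¹) = fun i =>
        sc (K.e (-(a i * b i) + a i * b i + -(-b i * b i))) * K.W (a i + -b i) (b i + a i) := funext fun i => by
      simp only [Pi.mul_apply, Pi.inv_apply, hab]
      rw [_root_.mul_inv_rev, K.W_inv, ← map_inv, ← mul_assoc K.Fr, ← sc_comm, mul_assoc (sc (u i)⁻¹), conj_sc_mul, K.Fr_conj, neg_neg]
      have h3 : ∀ (d e : Fˣ) (x y : GL Z3 F), sc d * x * (sc e * y) = sc (d * e) * (x * y) := fun d e x y => by
        rw [map_mul, mul_assoc, ← mul_assoc x, ← sc_comm e x]; simp only [mul_assoc]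
      rw [← mul_assoc (sc (K.e _)), ← map_mul, ← mul_assoc (sc (u i)⁻¹), ← map_mul, h3, K.W_mul, ← mul_assoc, ← map_mul,
        ← mul_assoc (u i), mul_inv_cancel, one_mul, ← K.e_add, ← K.e_add, neg_mul_neg]
    rw [h2] at h1
    obtain ⟨s, t⟩ := O.sum_zero hs _ (fun i => K.e_cube _) _ _ h1
    have h3 : (3 : Z3) = 0 := rfl
    exact ⟨by linear_combination 2 * s + 2 * t - (a 0 + a 1 + a 2) * h3,
      by linear_combination 2 * t - 2 * s - (b 0 + b 1 + b 2) * h3⟩
  have hlin : ∀ i, a i = a 1 * i ∧ b i = b 1 * i := fun i => by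
    have h3 : (3 : Z3) = 0 := rfl
    rw [ha0.1] at sa
    rw [ha0.2] at sb
    rcases z3_cases i with rfl | rfl | rfl
    · simp [ha0.1, ha0.2]
    · simp
    · exact ⟨by linear_combination sa - a 1 * h3, by linear_combination sb - b 1 * h3⟩
  have hsplit : f' = (fun i => sc (u i)) * fun i => K.W (a 1 * i) (b 1 * i) := funext fun i => by
    rw [Pi.mul_apply, hab i, ← (hlin i).1, ← (hlin i).2]
  have huH : blk (fun i => sc (u i)) ∈ H := by
    have := hf'H
    rw [hsplit, map_mul] at this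
    exact (Subgroup.mul_mem_cancel_right H (O.upow _ _)).1 this
  -- the scalars differ by cube roots of unity
  let Dc : GL Z3 F := ⟨Matrix.diagonal fun z => (u z : F), Matrix.diagonal fun z => ((u z)⁻¹ : Fˣ), by
    rw [Matrix.diagonal_mul_diagonal]; simp, by rw [Matrix.diagonal_mul_diagonal]; simp⟩
  have hcol : blk (fun _ => Dc) ∈ H := by
    have h1 := mul_mem (mul_mem O.swap huH) O.swap
    convert h1 using 1
    refine Units.ext (Matrix.ext fun z w => ?_)
    rw [sw_conj_val, blk_val, blk_val, sc_val, Matrix.smul_apply, Matrix.one_apply, smul_eq_mul]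
    show (if z.2 = w.2 then Matrix.diagonal (fun z => (u z : F)) z.1 w.1 else 0) = _
    rw [Matrix.diagonal_apply]
    by_cases h1 : z.2 = w.2 <;> by_cases h2 : z.1 = w.1 <;> simp [h1, h2]
  obtain ⟨k, a', b', e⟩ := hs.nor _ hcol 0 0 1
  rw [mul_inv_eq_iff_eq_mul] at e
  have eq : ∀ z z', (u z : F) * (if z = z' + 1 then 1 else 0) =
      (k : F) * ((if z = z' + b' then (K.e (a' * z) : F) else 0) * u z') := fun z z' => by
    have h' := congrArg (fun m : GL Z3 F => (m : Matrix Z3 Z3 F) z z') e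
    rw [Units.val_mul, Units.val_mul, val_sc_mul, Matrix.smul_mul] at h'
    simp only [Matrix.smul_apply, smul_eq_mul] at h'
    rw [show (Dc : Matrix Z3 Z3 F) = Matrix.diagonal fun z => (u z : F) from rfl, Matrix.diagonal_mul,
      Matrix.mul_diagonal, W_val, W_val, zero_mul, eval0] at h'
    exact h'
  have hb' : b' = 1 := by
    have h10 := eq 1 0
    rcases z3_cases b' with rfl | rfl | rfl
    · simp +decide at h10
    · rfl
    · simp +decide at h10
  subst hb'
  have e10 := eq 1 0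
  have e21 := eq 2 1
  have e02 := eq 0 2
  simp +decide [e_zero] at e10 e21 e02
  have hk3 : (k : F) ^ 3 = 1 := by
    refine mul_right_cancel₀ (mul_ne_zero (mul_ne_zero (u 0).ne_zero (u 1).ne_zero) (u 2).ne_zero) ?_
    have he : (K.e a' : F) * K.e (a' * 2) = 1 := by
      rw [← Units.val_mul, ← K.e_add, show a' + a' * 2 = (3 : Z3) * a' by ring, show (3 : Z3) = 0 from rfl, zero_mul, eval0]
    have : (u 0 : F) * u 1 * u 2 = (k : F) ^ 3 * ((K.e a' : F) * K.e (a' * 2)) * (u 0 * u 1 * u 2) := by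
      linear_combination congrArg₂ (· * ·) (congrArg₂ (· * ·) e10 e21) e02
    rw [he, mul_one] at this
    rw [one_mul, ← this]
  obtain ⟨j, hj⟩ := K.exists_e hk3
  have hu : ∀ i, ∃ m : Z3, u i = u 0 * K.e m := fun i => by
    rcases z3_cases i with rfl | rfl | rfl
    · exact ⟨0, by rw [e_zero, mul_one]⟩
    · exact ⟨j + a', Units.ext (by rw [e10, hj, K.e_add, Units.val_mul, Units.val_mul]; ring)⟩
    · exact ⟨j + a' + (j + a' * 2), Units.ext (by
        rw [e21, e10, hj, K.e_add, K.e_add, K.e_add, Units.val_mul, Units.val_mul, Units.val_mul, Units.val_mul]; ring)⟩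
  choose m hm using hu
  refine ⟨u 0, g0, m, a 1, b 1, hg0, fun i => ?_⟩
  have h1 := congrFun hsplit i
  simp only [hf', Pi.mul_apply] at h1
  rw [← hm, ← h1, mul_inv_cancel_left]

/-- the centraliser of the phase lies in the normaliser of the model -/
theorem Over.local_base (hs : K.Small H) {f : Z3 → GL Z3 F} (hf : blk f ∈ H) :
    ∃ u : Fˣ, ∃ n ∈ K.base, blk f = sc u * n := by
  obtain ⟨u, g0, m, a, b, hg, h⟩ := O.local_form hs hf
  refine ⟨u, dgn g0 * (blk (fun i => sc (K.e (m i))) * blk fun i => K.W (a * i) (b * i)),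
    mul_mem (dgn_base hg) (mul_mem (phase_base _) (upow_base _ _)), ?_⟩
  rw [← blk_const_sc u, dgn_eq, ← map_mul, ← map_mul, ← map_mul]
  congr 1
  funext i
  simp only [Pi.mul_apply]
  rw [h, map_mul, ← mul_assoc (sc u), sc_comm u g0]
  simp only [mul_assoc]

end Root

end Cfsg.Agent.ClassicalMax.SympThree
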