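import Cfsg.Agent.ClassicalMax.SympThree.Coord

/-!
Normalisers of groups of order 243 of symplectic type are maximal in the special linear group of dimension nine, given
the alternative in dimension three.
-/

set_option autoImplicit false

namespace Cfsg.Agent.ClassicalMax.SympThree

open Matrix Cfsg.Geo

theorem map_normalizer_equiv {G H : Type*} [Group G] [Group H] (e : G ≃* H) (S : Subgroup G) :
    Subgroup.normalizer ((S.map e.toMonoidHom : Subgroup H) : Set H) = (Subgroup.normalizer (S : Set G)).map e.toMonoidHom := by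
  ext y
  obtain ⟨g, rfl⟩ := e.surjective y
  have hmem : ∀ (T : Subgroup G) (x : G), e x ∈ T.map e.toMonoidHom ↔ x ∈ T := fun T x =>
    ⟨fun ⟨z, hz, hzx⟩ => e.injective hzx ▸ hz, fun hx => ⟨x, hx, rfl⟩⟩
  rw [hmem, Subgroup.mem_normalizer_iff, Subgroup.mem_normalizer_iff]
  refine ⟨fun h x => ?_, fun h y => ?_⟩
  · have := h (e x)
    rwa [← map_inv, ← map_mul, ← map_mul, hmem, hmem] at this
  · obtain ⟨x, rfl⟩ := e.surjective y
    rw [← map_inv, ← map_mul, ← map_mul, hmem, hmem]
    exact h x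

variable {F : Type*} [Field F]

theorem mem_sl {ι : Type} [Fintype ι] [DecidableEq ι] {g : GL ι F} :
    g ∈ specialLinear ι F ↔ (g : Matrix ι ι F).det = 1 := by
  rw [specialLinear, MonoidHom.mem_ker, Units.ext_iff]
  rfl

theorem det_sw : ((sw : GL I9 F) : Matrix I9 I9 F).det = 1 := by
  have h : ((sw : GL I9 F) : Matrix I9 I9 F) = -(Equiv.Perm.permMatrix F (Equiv.prodComm Z3 Z3 : Equiv.Perm I9)) := by
    ext z w
    rw [sw, smon_val, Matrix.neg_apply, Equiv.Perm.permMatrix, PEquiv.toMatrix_apply]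
    simp only [Equiv.toPEquiv_apply, Option.mem_some_iff, if_true]
    obtain ⟨a, b⟩ := z
    obtain ⟨c, d⟩ := w
    simp only [Equiv.prodComm_apply, Prod.swap, Prod.mk.injEq]
    by_cases h : a = d ∧ b = c
    · rw [if_pos h, if_pos ⟨h.2, h.1⟩]
    · rw [if_neg h, if_neg (fun h' => h ⟨h'.2, h'.1⟩), neg_zero]
  rw [h, Matrix.det_neg, Matrix.det_permutation, show Equiv.Perm.sign (Equiv.prodComm Z3 Z3 : Equiv.Perm I9) = -1 by decide,
    Fintype.card_prod, ZMod.card]
  norm_num

namespace Root

variable (K : Root F)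

theorem det_W_dgn (g : GL Z3 F) : (dgn g : Matrix I9 I9 F).det = (g : Matrix Z3 Z3 F).det ^ 3 := by
  rw [dgn_eq, det_blk, prod_z3]; ring

theorem det_col' (g : GL Z3 F) : (col g : Matrix I9 I9 F).det = (g : Matrix Z3 Z3 F).det ^ 3 := by
  rw [col_apply, Units.val_mul, Units.val_mul, Matrix.det_mul, Matrix.det_mul, det_sw, det_W_dgn, one_mul, mul_one]

theorem dgn_tv_not_mem [Finite F] : dgn (tv3 (show (0 : Z3) ≠ 1 by decide) 1) ∉ K.NR := by
  intro h
  obtain ⟨c, ⟨⟨p, q⟩, ⟨a, b⟩⟩, e⟩ := K.conj_class h ((0, 0), (1, 0))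
  rw [show K.El ((0, 0), (1, 0)) = dgn (K.W 1 0) by simp [El, K.W_zero], ← map_inv, ← map_mul, ← map_mul] at e
  set g := tv3 (F := F) (show (0 : Z3) ≠ 1 by decide) 1
  have key : ∀ x y : Z3, ((g * K.W 1 0 * g⁻¹ : GL Z3 F) : Matrix Z3 Z3 F) x y =
      c * ((K.W p q : Matrix Z3 Z3 F) 0 0 * (K.W a b : Matrix Z3 Z3 F) x y) := fun x y => by
    have h1 := congrArg (fun m : GL I9 F => (m : Matrix I9 I9 F) (x, 0) (y, 0)) e
    simp only [dgn_val, if_true, val_sc_mul, Matrix.smul_apply, K.El_val, smul_eq_mul] at h1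
    exact h1
  have hginv : ((g⁻¹ : GL Z3 F) : Matrix Z3 Z3 F) = 1 - Matrix.single 0 1 1 := by
    have : (g : Matrix Z3 Z3 F) * (1 - Matrix.single 0 1 1) = 1 := by
      rw [show (g : Matrix Z3 Z3 F) = 1 + Matrix.single 0 1 1 from rfl, Matrix.add_mul, Matrix.one_mul, Matrix.mul_sub,
        Matrix.mul_one, Matrix.single_mul_single_of_ne (c := (1 : F)) (h := (show (1 : Z3) ≠ 0 by decide))]
      simp
    exact (left_inv_eq_right_inv (by rw [← Units.val_mul, inv_mul_cancel, Units.val_one]) this)
  have h00 := key 0 0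
  have h01 := key 0 1
  rw [Units.val_mul, Units.val_mul, hginv, show (g : Matrix Z3 Z3 F) = 1 + Matrix.single 0 1 1 from rfl] at h00 h01
  simp +decide [Matrix.mul_apply, sum_z3, Matrix.one_apply, Matrix.single_apply, W_val, e_zero] at h00 h01
  rcases z3_cases b with rfl | rfl | rfl
  · simp +decide at h01
    exact K.ne_one (by rw [← K.eval1]; linear_combination h01)
  all_goals simp +decide at h00

variable [Fintype F]

theorem over_of_le {H : Subgroup (GL I9 F)} (hle : K.NR ⊓ specialLinear I9 F ≤ H) (hsl : H ≤ specialLinear I9 F) :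
    K.Over H where
  sl g hg := mem_sl.1 (hsl hg)
  const g hg := hle ⟨K.dgn_nor_mem (K.nor_gens hg), mem_sl.2 (by rw [det_W_dgn, K.det_gens hg])⟩
  upow a b := hle ⟨K.upow_mem_NR a b, mem_sl.2 (by rw [det_blk]; simp [K.det_W])⟩
  phase f := hle ⟨K.phase_mem_NR f, mem_sl.2 (by
    rw [det_blk]
    refine Finset.prod_eq_one fun i _ => ?_
    rw [sc_val, Matrix.det_smul, Matrix.det_one, mul_one, ZMod.card, ← Units.val_pow_eq_pow_val, K.e_cube, Units.val_one])⟩
  shift := hle ⟨K.col_W_shift ▸ K.col_nor_mem (K.nor_W 0 1), mem_sl.2 (by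
    rw [← K.col_W_shift, det_col', K.det_W, one_pow])⟩
  swap := hle ⟨K.sw_mem_NR, mem_sl.2 det_sw⟩

theorem maximal_model [NeZero (2 : F)] (hD : K.Dich) :
    IsMaximalIn (specialLinear I9 F) (K.NR ⊓ specialLinear I9 F) := by
  have hg : dgn (tv3 (F := F) (show (0 : Z3) ≠ 1 by decide) 1) ∈ specialLinear I9 F := by
    rw [mem_sl, det_W_dgn, tv3, Matrix.SpecialLinearGroup.coe_GL_coe_matrix]
    simp
  refine ⟨lt_of_le_of_ne inf_le_right fun e => K.dgn_tv_not_mem ?_, fun H hle hsl => ?_⟩
  · rw [← e] at hg; exact hg.1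
  rcases (K.over_of_le hle hsl).main hD with h | h
  · exact Or.inl (le_antisymm (le_inf h hsl) hle)
  · refine Or.inr (le_antisymm hsl fun g hg => ?_)
    have := h ⟨(g : Matrix I9 I9 F), mem_sl.1 hg⟩
    rwa [show Matrix.SpecialLinearGroup.toGL (⟨(g : Matrix I9 I9 F), mem_sl.1 hg⟩ : Matrix.SpecialLinearGroup I9 F) = g from
      Units.ext rfl] at this

end Root

variable [Fintype F]

/-- reindexed data of a group of order 243 -/
theorem abs_reindex (K : Root F) (e : Fin 9 ≃ I9) {R : Subgroup (GL (Fin 9) F)} (hsym : IsSymplecticTypeGroup 3 R)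
    (habs0 : ActsAbsolutelyIrreducibly (matrixSet R)) (hz : Nat.card (Subgroup.center R) = 3) (hcard : Nat.card R = 243) :
    Abs (R.map (glReindex (F := F) e).toMonoidHom) := by
  set E := glReindex (F := F) e with hE
  set R' := R.map E.toMonoidHom with hR'
  let iso : R ≃* R' := R.equivMapOfInjective E.toMonoidHom E.injective
  have habs : ActsAbsolutelyIrreducibly (matrixSet R') := by
    refine ⟨?_, fun M hM => ?_⟩
    · intro W hW
      let L : ((Fin 9) → F) ≃ₗ[F] (I9 → F) := LinearEquiv.funCongrLeft F F e.symm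
      have hL : ∀ (g : GL (Fin 9) F) (v : Fin 9 → F),
          (E g : Matrix I9 I9 F) *ᵥ L v = L ((g : Matrix (Fin 9) (Fin 9) F) *ᵥ v) := fun g v => by
        funext z
        show ((g : Matrix (Fin 9) (Fin 9) F).submatrix e.symm e.symm *ᵥ (v ∘ e.symm)) z = _
        rw [Matrix.submatrix_mulVec_equiv]
        simp [L, LinearEquiv.funCongrLeft_apply, LinearMap.funLeft, Function.comp_assoc]
      rcases habs0.1 (W.comap L.toLinearMap) (by
        rintro _ ⟨g, hg, rfl⟩ _ ⟨v, hv, rfl⟩
        show L (Matrix.toLin' _ v) ∈ W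
        rw [Matrix.toLin'_apply, ← hL, ← Matrix.toLin'_apply]
        exact hW _ ⟨E g, ⟨g, hg, rfl⟩, rfl⟩ (Submodule.mem_map_of_mem hv)) with h | h
      · exact Or.inl (Submodule.comap_injective_of_surjective L.surjective (h.trans (Submodule.comap_bot _ |>.trans L.ker).symm))
      · exact Or.inr (Submodule.comap_injective_of_surjective L.surjective (h.trans (Submodule.comap_top _).symm))
    · obtain ⟨c, hc⟩ := habs0.2 (M.submatrix e e) (by
        rintro _ ⟨g, hg, rfl⟩
        have h := hM (E g : Matrix I9 I9 F) ⟨E g, ⟨g, hg, rfl⟩, rfl⟩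
        have hg' : (g : Matrix (Fin 9) (Fin 9) F) = (E g : Matrix I9 I9 F).submatrix e e := by
          ext a b
          show _ = (g : Matrix (Fin 9) (Fin 9) F) (e.symm (e a)) (e.symm (e b))
          rw [e.symm_apply_apply, e.symm_apply_apply]
        show M.submatrix e e * (g : Matrix (Fin 9) (Fin 9) F) = (g : Matrix (Fin 9) (Fin 9) F) * M.submatrix e e
        rw [hg', Matrix.submatrix_mul_equiv, Matrix.submatrix_mul_equiv, h])
      refine ⟨c, Matrix.ext fun a b => ?_⟩
      have h := congrFun (congrFun hc (e.symm a)) (e.symm b)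
      simpa [Matrix.one_apply] using h
  exact abs_of_data K (hsym.pGroup.of_equiv iso)
    (fun A hA hA' => by
      have h1 : (A.map iso.symm.toMonoidHom).Characteristic := by
        refine Subgroup.characteristic_iff_map_eq.2 fun φ => ?_
        have h2 := Subgroup.characteristic_iff_map_eq.1 hA ((iso.symm.trans φ).trans iso)
        conv_rhs => rw [← h2]
        rw [Subgroup.map_map, Subgroup.map_map]
        congr 1
        ext x
        simp
      have := hsym.cyclic_of_characteristic _ h1 inferInstance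
      exact isCyclic_of_surjective (A.equivMapOfInjective iso.symm.toMonoidHom iso.symm.injective).symm.toMonoidHom
        (MulEquiv.surjective _))
    ((Monoid.exponent_eq_of_mulEquiv iso).symm.trans (hsym.exponent_eq.trans (by norm_num)))
    ((Nat.card_congr (Subgroup.centerCongr iso).toEquiv).symm.trans hz)
    ((Nat.card_congr iso.toEquiv).symm.trans hcard) habs

/-- class six in dimension nine, given the alternative in dimension three -/
theorem maximal_of_data [NeZero (2 : F)] (K : Root F) (hD : K.Dich) {R : Subgroup (GL (Fin 9) F)} (e : Fin 9 ≃ I9)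
    (hd : IsLinearSymplecticTypeData 3 R) (hcard : Nat.card R = 243) :
    IsMaximalIn (specialLinear (Fin 9) F) (subgroupNormalizer R ⊓ specialLinear (Fin 9) F) := by
  obtain ⟨p, n, -, hmin, hcase⟩ := hd.field
  have hz : Nat.card (Subgroup.center R) = 3 := by
    rcases hcase with ⟨-, -, hz, -⟩ | ⟨h, -⟩ | ⟨h, -⟩
    · exact hz
    · exact absurd h (by norm_num)
    · exact absurd h (by norm_num)
  set E := glReindex (F := F) e with hE
  set R' := R.map E.toMonoidHom with hR'
  have hR : Abs R' := abs_reindex K e hd.symplecticType hd.absIrred hz hcard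
  obtain ⟨P, hP⟩ := hR.exists_conj K
  set Φ := E.trans (MulAut.conj P) with hΦ
  have hΦR : R.map Φ.toMonoidHom = K.Om := by
    rw [← hP, hR', Subgroup.map_map]; rfl
  have hN : (subgroupNormalizer R).map Φ.toMonoidHom = K.NR := by
    rw [subgroupNormalizer, ← map_normalizer_equiv, hΦR, K.normalizer_Om]
  have hS : (specialLinear (Fin 9) F).map Φ.toMonoidHom = specialLinear I9 F := by
    ext y
    rw [Subgroup.mem_map_equiv, mem_sl, mem_sl, hΦ, MulEquiv.symm_trans_apply]
    show ((glReindex e).symm ((MulAut.conj P).symm y) : Matrix (Fin 9) (Fin 9) F).det = 1 ↔ _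
    rw [MulAut.conj_symm_apply]
    show ((Matrix.reindexAlgEquiv F F e).symm ((P⁻¹ * y * P : GL I9 F) : Matrix I9 I9 F)).det = 1 ↔ _
    rw [Matrix.reindexAlgEquiv_symm, Matrix.reindexAlgEquiv_apply, Matrix.det_reindex_self, Units.val_mul, Units.val_mul,
      Matrix.det_units_conj']
  have key := K.maximal_model hD
  rw [← hN, ← hS, ← Subgroup.map_inf _ _ _ Φ.injective] at key
  refine ⟨(Subgroup.map_lt_map_iff_of_injective Φ.injective).1 key.1, fun M h1 h2 => ?_⟩
  rcases key.2 _ (Subgroup.map_mono h1) (Subgroup.map_mono h2) with h | h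
  · exact Or.inl (Subgroup.map_injective Φ.injective h)
  · exact Or.inr (Subgroup.map_injective Φ.injective h)

end Cfsg.Agent.ClassicalMax.SympThree
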