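import Cfsg.Agent.ClassicalMax.SympThree.Full

/-!
The model group modulo scalars: its normaliser, transitivity on its classes and the criterion for membership.
-/

set_option autoImplicit false

namespace Cfsg.Agent.ClassicalMax.SympThree

open Matrix

variable {F : Type*} [Field F]

/-- a matrix acting on the block index -/
def col : GL Z3 F →* GL I9 F where
  toFun g := sw * dgn g * sw
  map_one' := by rw [map_one, mul_one, sw_sq]
  map_mul' g g' := by
    rw [map_mul]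
    calc sw * (dgn g * dgn g') * sw = sw * dgn g * 1 * (dgn g' * sw) := by group
      _ = _ := by rw [← sw_sq (F := F)]; group

theorem col_apply (g : GL Z3 F) : col g = sw * dgn g * sw := rfl

theorem col_val (g : GL Z3 F) (z w : I9) :
    (col g : Matrix I9 I9 F) z w = if z.1 = w.1 then (g : Matrix Z3 Z3 F) z.2 w.2 else 0 := by
  rw [col_apply, sw_conj_val, dgn_eq, blk_val]

theorem dgn_val (g : GL Z3 F) (z w : I9) :
    (dgn g : Matrix I9 I9 F) z w = if z.2 = w.2 then (g : Matrix Z3 Z3 F) z.1 w.1 else 0 := by rw [dgn_eq, blk_val]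

theorem sw_dgn (g : GL Z3 F) : sw * dgn g * (sw : GL I9 F)⁻¹ = col g := by rw [sw_inv, col_apply]

theorem sw_col (g : GL Z3 F) : sw * col g * (sw : GL I9 F)⁻¹ = dgn g := by
  rw [sw_inv, col_apply]
  calc sw * (sw * dgn g * sw) * sw = sw * sw * dgn g * (sw * sw) := by group
    _ = _ := by rw [sw_sq, one_mul, mul_one]

theorem dgn_col_comm (g g' : GL Z3 F) : dgn g * col g' = col g' * dgn g := Units.ext (Matrix.ext fun z w => by
  rw [Units.val_mul, Units.val_mul, Matrix.mul_apply, Matrix.mul_apply, Finset.sum_eq_single ((w.1, z.2) : I9),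
    Finset.sum_eq_single ((z.1, w.2) : I9)]
  · simp [dgn_val, col_val, mul_comm]
  · intro x _ hx
    rw [dgn_val, col_val]
    by_cases h1 : x.2 = w.2
    · rw [if_pos h1, if_neg (fun e => hx (Prod.ext e.symm h1)), zero_mul]
    · rw [if_neg h1, mul_zero]
  · exact fun h => absurd (Finset.mem_univ _) h
  · intro x _ hx
    rw [dgn_val, col_val]
    by_cases h1 : x.1 = w.1
    · rw [if_neg (fun e => hx (Prod.ext h1 e.symm)), zero_mul]
    · rw [if_neg h1, mul_zero]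
  · exact fun h => absurd (Finset.mem_univ _) h)

theorem dgn_sc (c : Fˣ) : dgn (sc c) = (sc c : GL I9 F) := blk_const_sc c

theorem col_sc (c : Fˣ) : col (sc c) = (sc c : GL I9 F) := by
  rw [col_apply, dgn_sc, ← sc_comm, mul_assoc, sw_sq, mul_one]

/-- exponent vectors: block index, then inner index -/
abbrev V4 := (Z3 × Z3) × (Z3 × Z3)

namespace Root

variable (K : Root F)

/-- the representatives of the classes -/
def El (v : V4) : GL I9 F := col (K.W v.1.1 v.1.2) * dgn (K.W v.2.1 v.2.2)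

theorem El_zero : K.El 0 = 1 := by
  show col (K.W 0 0) * dgn (K.W 0 0) = 1
  rw [K.W_zero, map_one, map_one, one_mul]

theorem El_mul (v w : V4) : ∃ c : Fˣ, K.El v * K.El w = sc c * K.El (v + w) := by
  refine ⟨K.e (-(w.1.1 * v.1.2)) * K.e (-(w.2.1 * v.2.2)), ?_⟩
  calc K.El v * K.El w = col (K.W v.1.1 v.1.2) * (dgn (K.W v.2.1 v.2.2) * col (K.W w.1.1 w.1.2)) * dgn (K.W w.2.1 w.2.2) := by
        rw [El, El]; group
    _ = col (K.W v.1.1 v.1.2 * K.W w.1.1 w.1.2) * dgn (K.W v.2.1 v.2.2 * K.W w.2.1 w.2.2) := by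
        rw [dgn_col_comm, map_mul, map_mul]; group
    _ = _ := by
        rw [K.W_mul, K.W_mul, map_mul, map_mul, col_sc, dgn_sc, map_mul, El, mul_assoc (sc _), mul_assoc,
          ← mul_assoc (col _), ← sc_comm]
        simp only [mul_assoc]
        rfl

theorem El_inv (v : V4) : ∃ c : Fˣ, (K.El v)⁻¹ = sc c * K.El (-v) := by
  obtain ⟨c, hc⟩ := K.El_mul v (-v)
  rw [add_neg_cancel, K.El_zero, mul_one] at hc
  refine ⟨c⁻¹, inv_eq_of_mul_eq_one_right ?_⟩
  rw [← mul_assoc, ← sc_comm, mul_assoc, hc, ← map_mul, inv_mul_cancel, map_one]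

/-- scalars times representatives -/
def RS : Subgroup (GL I9 F) where
  carrier := {g | ∃ (c : Fˣ) (v : V4), g = sc c * K.El v}
  one_mem' := ⟨1, 0, by rw [map_one, one_mul, K.El_zero]⟩
  mul_mem' := by
    rintro _ _ ⟨c, v, rfl⟩ ⟨d, w, rfl⟩
    obtain ⟨e, he⟩ := K.El_mul v w
    refine ⟨c * d * e, v + w, ?_⟩
    rw [mul_assoc (sc c), ← mul_assoc (K.El v), ← sc_comm, mul_assoc (sc d), he, map_mul, map_mul]
    simp only [mul_assoc]
  inv_mem' := by
    rintro _ ⟨c, v, rfl⟩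
    obtain ⟨e, he⟩ := K.El_inv v
    exact ⟨e * c⁻¹, -v, by rw [_root_.mul_inv_rev, he, ← map_inv, ← sc_comm, ← mul_assoc, ← map_mul, mul_comm]⟩

theorem sc_mem_RS (c : Fˣ) : sc c ∈ K.RS := ⟨c, 0, by rw [K.El_zero, mul_one]⟩
theorem El_mem_RS (v : V4) : K.El v ∈ K.RS := ⟨1, v, by rw [map_one, one_mul]⟩

theorem col_mem_RS (a b : Z3) : col (K.W a b) ∈ K.RS :=
  ⟨1, ((a, b), (0, 0)), by rw [map_one, one_mul, El, K.W_zero, map_one, mul_one]⟩

theorem dgn_mem_RS (a b : Z3) : dgn (K.W a b) ∈ K.RS :=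
  ⟨1, ((0, 0), (a, b)), by rw [map_one, one_mul, El, K.W_zero, map_one, one_mul]⟩

theorem W_split (a b : Z3) : K.W a b = K.W 1 0 ^ a.val * K.W 0 1 ^ b.val := by
  have ha : ∀ n : ℕ, K.W 1 0 ^ n = K.W (n : Z3) 0 := fun n => by
    induction n with
    | zero => rw [pow_zero, Nat.cast_zero, K.W_zero]
    | succ n ih => rw [pow_succ, ih, K.W_mul, mul_zero, neg_zero, e_zero, map_one, one_mul, add_zero, Nat.cast_succ]
  have hb : ∀ n : ℕ, K.W 0 1 ^ n = K.W 0 (n : Z3) := fun n => by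
    induction n with
    | zero => rw [pow_zero, Nat.cast_zero, K.W_zero]
    | succ n ih => rw [pow_succ, ih, K.W_mul, zero_mul, neg_zero, e_zero, map_one, one_mul, add_zero, Nat.cast_succ]
  rw [ha, hb, K.W_mul, mul_zero, neg_zero, e_zero, map_one, one_mul, add_zero, zero_add, ZMod.natCast_zmod_val,
    ZMod.natCast_zmod_val]

/-- the normaliser -/
def NR : Subgroup (GL I9 F) := Subgroup.normalizer (K.RS : Set (GL I9 F))

theorem conj_mem_RS {g : GL I9 F} (hg : g ∈ K.NR) (v : V4) : g * K.El v * g⁻¹ ∈ K.RS :=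
  (Subgroup.mem_normalizer_iff.1 hg _).1 (K.El_mem_RS v)

theorem conj_class {g : GL I9 F} (hg : g ∈ K.NR) (v : V4) : ∃ (c : Fˣ) (w : V4), g * K.El v * g⁻¹ = sc c * K.El w :=
  K.conj_mem_RS hg v

theorem sc_mem_NR (c : Fˣ) : sc c ∈ K.NR :=
  Subgroup.mem_normalizer_iff.2 fun r => by rw [sc_comm, mul_inv_cancel_right]

variable [Finite F]

theorem mem_NR_of_four {g : GL I9 F} (h1 : g * col (K.W 1 0) * g⁻¹ ∈ K.RS) (h2 : g * col (K.W 0 1) * g⁻¹ ∈ K.RS)
    (h3 : g * dgn (K.W 1 0) * g⁻¹ ∈ K.RS) (h4 : g * dgn (K.W 0 1) * g⁻¹ ∈ K.RS) : g ∈ K.NR := by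
  haveI : Finite (K.RS : Set (GL I9 F)) := Subtype.finite
  refine Subgroup.mem_normalizer_fintype fun r hr => ?_
  obtain ⟨c, v, rfl⟩ := hr
  show g * (sc c * K.El v) * g⁻¹ ∈ K.RS
  rw [conj_sc_mul]
  refine mul_mem (K.sc_mem_RS c) ?_
  let C : GL I9 F →* GL I9 F := (MulAut.conj g).toMonoidHom
  show C (K.El v) ∈ K.RS
  rw [El, K.W_split v.1.1, K.W_split v.2.1]
  simp only [map_mul, map_pow]
  exact mul_mem (mul_mem (pow_mem h1 _) (pow_mem h2 _)) (mul_mem (pow_mem h3 _) (pow_mem h4 _))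

theorem dgn_nor_mem {g : GL Z3 F} (hg : K.Nor g) : dgn g ∈ K.NR := by
  have h1 : ∀ a b, dgn g * col (K.W a b) * (dgn g)⁻¹ ∈ K.RS := fun a b => by
    rw [dgn_col_comm, mul_inv_cancel_right]; exact K.col_mem_RS a b
  have h2 : ∀ a b, dgn g * dgn (K.W a b) * (dgn g)⁻¹ ∈ K.RS := fun a b => by
    obtain ⟨c, a', b', e⟩ := hg a b
    rw [← map_inv, ← map_mul, ← map_mul, e, map_mul, dgn_sc]
    exact mul_mem (K.sc_mem_RS c) (K.dgn_mem_RS a' b')
  exact K.mem_NR_of_four (h1 1 0) (h1 0 1) (h2 1 0) (h2 0 1)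

theorem sw_mem_NR : sw ∈ K.NR := by
  refine K.mem_NR_of_four ?_ ?_ ?_ ?_
  · rw [sw_col]; exact K.dgn_mem_RS 1 0
  · rw [sw_col]; exact K.dgn_mem_RS 0 1
  · rw [sw_dgn]; exact K.col_mem_RS 1 0
  · rw [sw_dgn]; exact K.col_mem_RS 0 1

theorem col_nor_mem {g : GL Z3 F} (hg : K.Nor g) : col g ∈ K.NR :=
  mul_mem (mul_mem K.sw_mem_NR (K.dgn_nor_mem hg)) K.sw_mem_NR

omit [Finite F] in
theorem col_W_diag (p : Z3) : col (K.W p 0) = blk fun i => sc (K.e (p * i)) := Units.ext (Matrix.ext fun z w => by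
  rw [col_val, blk_val, W_val, add_zero, sc_val, Matrix.smul_apply, Matrix.one_apply, smul_eq_mul]
  by_cases h1 : z.1 = w.1 <;> by_cases h2 : z.2 = w.2 <;> simp [h1, h2])

omit [Finite F] in
theorem col_W_shift : col (K.W 0 1) = yy := Units.ext (Matrix.ext fun z w => by
  rw [col_val, W_val, zero_mul, eval0, yy, smon_val]
  simp only [sh, Equiv.prodCongr_apply, Equiv.coe_addRight, Equiv.coe_refl, Prod.map, id_eq, Prod.ext_iff,
    Bool.false_eq_true, if_false]
  by_cases h1 : z.1 = w.1 <;> by_cases h2 : z.2 = w.2 + 1 <;> simp [h1, h2])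

omit [Finite F] in
/-- the effect of a linear family of Weyl matrices -/
theorem upow_dgn (x y a b : Z3) :
    blk (fun i => K.W (x * i) (y * i)) * dgn (K.W a b) * (blk fun i => K.W (x * i) (y * i))⁻¹ =
      col (K.W (x * b - a * y) 0) * dgn (K.W a b) := by
  rw [col_W_diag, dgn_eq, ← map_inv, ← map_mul, ← map_mul, ← map_mul]
  congr 1
  funext i
  simp only [Pi.mul_apply, Pi.inv_apply, K.W_conj]
  congr 3
  ring

omit [Finite F] in
theorem upow_col (x y : Z3) :
    blk (fun i => K.W (x * i) (y * i)) * col (K.W 0 1) * (blk fun i => K.W (x * i) (y * i))⁻¹ =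
      sc (K.e (-(x * y))) * (col (K.W (x * y) 0) * (dgn (K.W x y) * col (K.W 0 1))) := by
  rw [col_W_shift, col_W_diag, ← map_inv, mul_assoc, show yy * blk (fun i => K.W (x * i) (y * i))⁻¹ =
    yy * blk (fun i => K.W (x * i) (y * i))⁻¹ * (yy : GL I9 F)⁻¹ * yy by group, yy_conj, ← blk_const_sc, dgn_eq,
    ← mul_assoc, ← map_mul, ← mul_assoc (blk fun i => sc (K.e (x * y * i))), ← map_mul, ← mul_assoc, ← map_mul]
  congr 2
  funext i
  simp only [Pi.mul_apply, Pi.inv_apply, K.W_inv]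
  rw [← mul_assoc, ← sc_comm, mul_assoc, K.W_mul, ← mul_assoc, ← map_mul, ← K.e_add,
    ← mul_assoc (sc (K.e (-(x * y)))), ← map_mul, ← K.e_add, show x * i + -(x * (i - 1)) = x by ring, show y * i + -(y * (i - 1)) = y by ring]
  congr 3
  ring

theorem upow_mem_NR (x y : Z3) : blk (fun i => K.W (x * i) (y * i)) ∈ K.NR := by
  refine K.mem_NR_of_four ?_ ?_ ?_ ?_
  · have e : blk (fun i => K.W (x * i) (y * i)) * col (K.W 1 0) = col (K.W 1 0) * blk fun i => K.W (x * i) (y * i) := by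
      rw [col_W_diag, ← map_mul, ← map_mul]
      congr 1
      funext i
      exact (sc_comm _ _).symm
    rw [e, mul_inv_cancel_right]; exact K.col_mem_RS 1 0
  · rw [upow_col]
    exact mul_mem (K.sc_mem_RS _) (mul_mem (K.col_mem_RS _ _) (mul_mem (K.dgn_mem_RS _ _) (K.col_mem_RS _ _)))
  · rw [upow_dgn]; exact mul_mem (K.col_mem_RS _ _) (K.dgn_mem_RS _ _)
  · rw [upow_dgn]; exact mul_mem (K.col_mem_RS _ _) (K.dgn_mem_RS _ _)

theorem phase_mem_NR (f : Z3 → Z3) : blk (fun i => sc (K.e (f i))) ∈ K.NR := by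
  -- every phase is a constant, a linear and a quadratic one
  have e : blk (fun i => sc (K.e (f i))) = blk (fun _ => sc (K.e (f 0))) *
      (col (K.P ^ (f 0 + f 1 + f 2).val) * col (K.W (f 1 - f 0) 0)) := by
    have hP : ∀ n : ℕ, col (K.P ^ n) = blk fun i => sc (K.e ((n : Z3) * ph i)) := fun n => by
      induction n with
      | zero => rw [pow_zero, map_one, ← map_one blk]; congr 1; funext i; simp [e_zero]
      | succ n ih =>
        have h1 : col K.P = blk fun i => sc (K.e (ph i)) := Units.ext (Matrix.ext fun z w => by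
          rw [col_val, blk_val, sc_val, Matrix.smul_apply, Matrix.one_apply, smul_eq_mul]
          show (if z.1 = w.1 then Matrix.diagonal (fun z => (K.e (ph z) : F)) z.2 w.2 else 0) = _
          rw [Matrix.diagonal_apply]
          by_cases h1 : z.1 = w.1 <;> by_cases h2 : z.2 = w.2 <;> simp [h1, h2])
        rw [pow_succ, map_mul, ih, h1, ← map_mul]
        congr 1
        funext i
        rw [Pi.mul_apply, ← map_mul, ← K.e_add, Nat.cast_succ, add_mul, one_mul]
    rw [hP, col_W_diag, ← map_mul, ← map_mul]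
    congr 1
    funext i
    simp only [Pi.mul_apply, ← map_mul, ← K.e_add, ZMod.natCast_zmod_val]
    congr 2
    have h3 : (3 : Z3) = 0 := rfl
    rcases z3_cases i with rfl | rfl | rfl
    · simp +decide [ph]
    · simp +decide [ph]
    · rw [show ph 2 = 1 by decide]
      linear_combination (-f 1) * h3
  rw [e, blk_const_sc]
  exact mul_mem (K.sc_mem_NR _) (mul_mem (by rw [map_pow]; exact pow_mem (K.col_nor_mem K.nor_P) _)
    (K.col_nor_mem (K.nor_W _ _)))

theorem base_le_NR : K.base ≤ K.NR := by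
  refine (Subgroup.closure_le _).2 ?_
  rintro g (((⟨g', h, rfl⟩ | ⟨v, rfl⟩) | ⟨f, rfl⟩) | h)
  · exact K.dgn_nor_mem (K.nor_gens h)
  · exact K.upow_mem_NR _ _
  · exact K.phase_mem_NR _
  · rcases h with rfl | rfl
    · rw [← K.col_W_shift]; exact K.col_nor_mem (K.nor_W _ _)
    · exact K.sw_mem_NR

/-- conjugate classes -/
def To (v w : V4) : Prop := ∃ n ∈ K.base, ∃ c : Fˣ, n * K.El v * n⁻¹ = sc c * K.El w

omit [Finite F] in
theorem To.trans {u v w : V4} (h : K.To u v) (h' : K.To v w) : K.To u w := by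
  obtain ⟨n, hn, c, e⟩ := h
  obtain ⟨n', hn', c', e'⟩ := h'
  refine ⟨n' * n, mul_mem hn' hn, c * c', ?_⟩
  rw [show n' * n * K.El u * (n' * n)⁻¹ = n' * (n * K.El u * n⁻¹) * n'⁻¹ by group, e, conj_sc_mul, e', map_mul, mul_assoc]

omit [Finite F] in
theorem to_swap (v : V4) : K.To v (v.2, v.1) := by
  refine ⟨sw, sw_base, 1, ?_⟩
  rw [map_one, one_mul, El, El, show sw * (col (K.W v.1.1 v.1.2) * dgn (K.W v.2.1 v.2.2)) * (sw : GL I9 F)⁻¹ =
    sw * col (K.W v.1.1 v.1.2) * sw⁻¹ * (sw * dgn (K.W v.2.1 v.2.2) * sw⁻¹) by group, sw_col, sw_dgn, dgn_col_comm]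

omit [Finite F] in
theorem to_gen (P : Z3 × Z3) {A : Z3 × Z3} (hA : A ≠ 0) : K.To (P, A) (P, (1, 0)) := by
  obtain ⟨m, hm, happ⟩ := exists_to_first A.1 A.2 (by
    by_contra h
    push Not at h
    exact hA (Prod.ext h.1 h.2))
  obtain ⟨g, hg, hi⟩ := K.exists_img hm
  obtain ⟨c, hc⟩ := hi A.1 A.2
  rw [happ] at hc
  refine ⟨dgn g, dgn_base hg, c, ?_⟩
  rw [El, El, ← mul_assoc, dgn_col_comm, mul_assoc, mul_assoc, ← map_inv, ← map_mul, ← map_mul, ← mul_assoc g, hc,
    map_mul, dgn_sc, ← mul_assoc, ← sc_comm, mul_assoc]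

omit [Finite F] in
theorem El_split (v : V4) : ∃ c : Fˣ, K.El v =
    sc c * (col (K.W v.1.1 0) * col (K.W 0 1) ^ v.1.2.val * dgn (K.W v.2.1 v.2.2)) := by
  refine ⟨1, ?_⟩
  rw [map_one, one_mul, El, K.W_split v.1.1, map_mul, map_pow, map_pow]
  congr 2
  rw [K.W_split v.1.1 0, map_mul, map_pow, ZMod.val_zero, pow_zero, map_one, mul_one]

omit [Finite F] in
theorem to_upow (v : V4) (x y : Z3) :
    K.To v ((v.1.1 + v.1.2 * (x * y) + (x * v.2.2 - v.2.1 * y), v.1.2), (v.2.1 + v.1.2 * x, v.2.2 + v.1.2 * y)) := by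
  obtain ⟨c0, hv⟩ := K.El_split v
  set u := blk fun i => K.W (x * i) (y * i) with hu
  let C : GL I9 F →* GL I9 F := (MulAut.conj u).toMonoidHom
  have hC : ∀ g, C g = u * g * u⁻¹ := fun g => rfl
  refine ⟨u, upow_base x y, ?_⟩
  have hmem : ∀ (g : GL I9 F) (w : V4), (∃ c : Fˣ, g = sc c * K.El w) → ∀ (g' : GL I9 F) (w' : V4),
      (∃ c : Fˣ, g' = sc c * K.El w') → ∃ c : Fˣ, g * g' = sc c * K.El (w + w') := by
    rintro _ w ⟨c, rfl⟩ _ w' ⟨c', rfl⟩
    obtain ⟨e, he⟩ := K.El_mul w w'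
    exact ⟨c * c' * e, by
      rw [mul_assoc (sc c), ← mul_assoc (K.El w), ← sc_comm, mul_assoc (sc c'), he, map_mul, map_mul]
      simp only [mul_assoc]⟩
  have hcol : ∀ p q, ∃ c : Fˣ, col (K.W p q) = sc c * K.El ((p, q), (0, 0)) := fun p q =>
    ⟨1, by rw [map_one, one_mul, El, K.W_zero, map_one, mul_one]⟩
  have hdgn : ∀ a b, ∃ c : Fˣ, dgn (K.W a b) = sc c * K.El ((0, 0), (a, b)) := fun a b =>
    ⟨1, by rw [map_one, one_mul, El, K.W_zero, map_one, one_mul]⟩
  have h1 : ∃ c : Fˣ, C (col (K.W v.1.1 0)) = sc c * K.El ((v.1.1, 0), (0, 0)) := by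
    obtain ⟨c, e⟩ := hcol v.1.1 0
    refine ⟨c, ?_⟩
    rw [← e, hC, hu, col_W_diag, ← map_mul, ← map_inv, ← map_mul]
    congr 1
    funext i
    simp only [Pi.mul_apply, Pi.inv_apply]
    rw [← sc_comm, mul_inv_cancel_right]
  have h2 : ∀ n : ℕ, ∃ c : Fˣ, C (col (K.W 0 1)) ^ n =
      sc c * K.El (((n : Z3) * (x * y), (n : Z3)), ((n : Z3) * x, (n : Z3) * y)) := fun n => by
    induction n with
    | zero => exact ⟨1, by simp [Prod.mk_zero_zero, K.El_zero]⟩
    | succ n ih =>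
      have h3 : ∃ c : Fˣ, C (col (K.W 0 1)) = sc c * K.El ((x * y, 1), (x, y)) := by
        obtain ⟨c, e⟩ := hmem _ _ (hcol (x * y) 0) _ _ (hmem _ _ (hdgn x y) _ _ (hcol 0 1))
        refine ⟨K.e (-(x * y)) * c, ?_⟩
        rw [hC, hu, upow_col, e, map_mul, mul_assoc]
        congr 3
        simp
      obtain ⟨c, e⟩ := hmem _ _ ih _ _ h3
      refine ⟨c, ?_⟩
      rw [pow_succ, e]
      congr 2
      simp [add_mul]
  have h4 : ∃ c : Fˣ, C (dgn (K.W v.2.1 v.2.2)) = sc c * K.El ((x * v.2.2 - v.2.1 * y, 0), (v.2.1, v.2.2)) := by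
    obtain ⟨c, e⟩ := hmem _ _ (hcol (x * v.2.2 - v.2.1 * y) 0) _ _ (hdgn v.2.1 v.2.2)
    exact ⟨c, by rw [hC, hu, upow_dgn, e]; simp [Prod.mk_zero_zero]⟩
  obtain ⟨c, e⟩ := hmem _ _ (hmem _ _ h1 _ _ (h2 v.1.2.val)) _ _ h4
  refine ⟨c0 * c, ?_⟩
  rw [hv, conj_sc_mul, map_mul, mul_assoc (sc c0)]
  congr 1
  rw [← hC, map_mul, map_mul, map_pow, e, ZMod.natCast_zmod_val]
  congr 2
  simp [Prod.ext_iff, add_comm]

omit [Finite F] in
theorem to_X (v : V4) (hv : v ≠ 0) : K.To v ((1, 0), (0, 0)) := by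
  have hlast : ∀ P : Z3 × Z3, P ≠ 0 → K.To (P, (0, 0)) ((1, 0), (0, 0)) := fun P hP =>
    ((K.to_swap _).trans K (K.to_gen _ hP)).trans K (K.to_swap ((0, 0), (1, 0)))
  obtain ⟨⟨p, q⟩, a, b⟩ := v
  by_cases hq : q = 0
  · subst hq
    by_cases hA : ((a, b) : Z3 × Z3) = 0
    · rw [hA] at hv ⊢
      exact hlast _ fun e => hv (by rw [e]; rfl)
    · refine ((K.to_gen _ hA).trans K (K.to_upow _ 0 p)).trans K ?_
      simp only [zero_mul, mul_zero, add_zero, one_mul, zero_sub, add_neg_cancel]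
      exact K.to_swap ((0, 0), (1, 0))
  · have hqq : q * q = 1 := (by decide : ∀ q : Z3, q ≠ 0 → q * q = 1) q hq
    refine (K.to_upow _ (-(q * a)) (-(q * b))).trans K ?_
    dsimp only
    rw [show a + q * -(q * a) = 0 by linear_combination -a * hqq,
      show b + q * -(q * b) = 0 by linear_combination -b * hqq]
    exact hlast _ fun e => hq (congrArg Prod.snd e)

omit [Finite F] in
/-- an element centralising the model up to scalars belongs to it up to scalars -/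
theorem mem_RS_of_centr {h : GL I9 F} (hc : ∀ v, ∃ d : Fˣ, h * K.El v * h⁻¹ = sc d * K.El v) : h ∈ K.RS := by
  have hX : ∃ d : Fˣ, h * col (K.W 1 0) * h⁻¹ = sc d * col (K.W 1 0) := by
    simpa [El, K.W_zero] using hc ((1, 0), (0, 0))
  have hY : ∃ d : Fˣ, h * col (K.W 0 1) * h⁻¹ = sc d * col (K.W 0 1) := by
    simpa [El, K.W_zero] using hc ((0, 1), (0, 0))
  obtain ⟨d, hd⟩ := hX
  obtain ⟨d', hd'⟩ := hY
  have hcub : ∀ (g : GL Z3 F) (d : Fˣ), g ^ 3 = 1 → h * col g * h⁻¹ = sc d * col g → ∃ k, d = K.e k := by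
    intro g d hg e
    have h1 := congrArg (· ^ 3) e
    simp only [conj_pow, ← map_pow, hg, map_one, mul_one, mul_inv_cancel] at h1
    rw [Commute.mul_pow (show Commute (sc d) (col g) from sc_comm _ _), ← map_pow, ← map_pow, hg, map_one, mul_one] at h1
    have h2 := congrArg (fun m : GL I9 F => (m : Matrix I9 I9 F) 0 0) h1
    simp only [sc_val, Units.val_one, Matrix.smul_apply, Matrix.one_apply_eq, smul_eq_mul, mul_one] at h2
    obtain ⟨k, hk⟩ := K.exists_e (c := (d : F)) (by rw [← Units.val_pow_eq_pow_val]; exact h2.symm)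
    exact ⟨k, Units.ext hk⟩
  have hW3 : ∀ a b, K.W a b ^ 3 = 1 := fun a b => by
    rw [pow_succ, pow_two, K.W_mul, mul_assoc, K.W_mul, ← mul_assoc, ← map_mul, ← K.e_add]
    have h3 : (3 : Z3) = 0 := rfl
    rw [show a + a + a = 0 by linear_combination a * h3, show b + b + b = 0 by linear_combination b * h3, K.W_zero,
      mul_one, show -(a * b) + -(a * (b + b)) = 0 by linear_combination -(a * b) * h3, e_zero, map_one]
  obtain ⟨k, rfl⟩ := hcub _ _ (hW3 1 0) hd
  obtain ⟨k', rfl⟩ := hcub _ _ (hW3 0 1) hd'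
  -- correct by an element of the model
  set g := col (K.W (-k') k) * h with hg
  have hgX : ∀ a b t, h * col (K.W a b) * h⁻¹ = sc (K.e t) * col (K.W a b) → -k' * b - a * k + t = 0 →
      g * col (K.W a b) = col (K.W a b) * g := by
    intro a b t e ht
    rw [← mul_inv_eq_iff_eq_mul, hg, show col (K.W (-k') k) * h * col (K.W a b) * (col (K.W (-k') k) * h)⁻¹ =
      col (K.W (-k') k) * (h * col (K.W a b) * h⁻¹) * (col (K.W (-k') k))⁻¹ by group, e, conj_sc_mul, ← map_inv col,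
      ← map_mul col, ← map_mul col, K.W_conj, map_mul col, col_sc, ← mul_assoc, ← map_mul, ← K.e_add, add_comm,
      show -k' * b - a * k + t = 0 from ht, e_zero, map_one, one_mul]
  have g1 := hgX 1 0 k hd (by ring)
  have g2 := hgX 0 1 k' hd' (by ring)
  obtain ⟨f, hf⟩ := K.comm_iff (g := g) (by simpa [col_W_diag] using g1)
  rw [hf, K.col_W_shift] at g2
  have hconst : ∀ i, f i = f 0 := by
    have h1 : (fun i => f (i - 1)) = f := blk_inj (by rw [← yy_conj, ← g2, mul_inv_cancel_right])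
    have h10 : f 0 = f 1 := by simpa using congrFun h1 1
    have h21 : f 1 = f 2 := by simpa [show (2 : Z3) - 1 = 1 by decide] using congrFun h1 2
    intro i
    rcases z3_cases i with rfl | rfl | rfl
    · rfl
    · exact h10.symm
    · exact h21.symm.trans h10.symm
  have hgd : g = dgn (f 0) := by rw [hf, dgn_eq]; exact congrArg blk (funext hconst)
  have hfc : ∀ a b, ∃ u : Fˣ, f 0 * K.W a b * (f 0)⁻¹ = sc u * K.W a b := fun a b => by
    obtain ⟨u, hu⟩ : ∃ u : Fˣ, h * dgn (K.W a b) * h⁻¹ = sc u * dgn (K.W a b) := by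
      simpa [El, K.W_zero] using hc ((0, 0), (a, b))
    refine ⟨u, ?_⟩
    have h2 : dgn (f 0 * K.W a b * (f 0)⁻¹) = dgn (sc u * K.W a b) := by
      rw [map_mul, map_mul, map_inv, map_mul, dgn_sc, ← hgd, hg,
        show col (K.W (-k') k) * h * dgn (K.W a b) * (col (K.W (-k') k) * h)⁻¹ =
          col (K.W (-k') k) * (h * dgn (K.W a b) * h⁻¹) * (col (K.W (-k') k))⁻¹ by group, hu, conj_sc_mul,
        ← dgn_col_comm, mul_inv_cancel_right]
    exact congrFun (blk_inj h2) 0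
  obtain ⟨u1, h1⟩ := hfc 1 0
  obtain ⟨u2, h2⟩ := hfc 0 1
  obtain ⟨u, a, b, e⟩ := K.centr h1 h2
  have hh : h = (col (K.W (-k') k))⁻¹ * dgn (f 0) := by rw [← hgd, hg, inv_mul_cancel_left]
  rw [hh, e, map_mul, dgn_sc]
  exact mul_mem (inv_mem (K.col_mem_RS _ _)) (mul_mem (K.sc_mem_RS u) (K.dgn_mem_RS a b))

variable {K} {H : Subgroup (GL I9 F)} (O : K.Over H)
include O

/-- the centraliser of a non-trivial class lies in the normaliser -/
theorem Over.cent_mem (hs : K.Small H) {h : GL I9 F} (hh : h ∈ H) {v : V4} (hv : v ≠ 0) {d : Fˣ}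
    (e : h * K.El v * h⁻¹ = sc d * K.El v) : h ∈ K.NR := by
  obtain ⟨n, hn, c, hnc⟩ := K.to_X v hv
  set h' := n * h * n⁻¹ with hh'
  have e' : h' * col (K.W 1 0) * h'⁻¹ = sc d * col (K.W 1 0) := by
    have hX : K.El ((1, 0), (0, 0)) = col (K.W 1 0) := by simp [El, K.W_zero]
    rw [hX] at hnc
    have h1 : n * K.El v * n⁻¹ = sc c * col (K.W 1 0) := hnc
    have h2 : sc c * (h' * col (K.W 1 0) * h'⁻¹) = sc c * (sc d * col (K.W 1 0)) := by
      rw [← conj_sc_mul, ← h1, show h' * (n * K.El v * n⁻¹) * h'⁻¹ = n * (h * K.El v * h⁻¹) * n⁻¹ by rw [hh']; group, e,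
        conj_sc_mul, h1, ← mul_assoc, ← mul_assoc, ← map_mul, ← map_mul, mul_comm]
    exact mul_left_cancel h2
  have hd3 : (d : F) ^ 3 = 1 := by
    have h3 : K.W 1 0 ^ 3 = 1 := by rw [K.W_split 1 0] ; simp [pow_succ, K.W_mul, e_zero, K.W_zero, show (1 : Z3) + 1 + 1 = 0 by decide, ZMod.val_one]
    have h1 := congrArg (· ^ 3) e'
    simp only [conj_pow, ← map_pow, h3, map_one, mul_one, mul_inv_cancel] at h1
    rw [Commute.mul_pow (show Commute (sc d) (col (K.W 1 0)) from sc_comm _ _), ← map_pow, ← map_pow, h3, map_one,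
      mul_one] at h1
    have h2 := congrArg (fun m : GL I9 F => (m : Matrix I9 I9 F) 0 0) h1
    simp only [sc_val, Units.val_one, Matrix.smul_apply, Matrix.one_apply_eq, smul_eq_mul, mul_one] at h2
    rw [← Units.val_pow_eq_pow_val]; exact h2.symm
  obtain ⟨k, hk⟩ := K.exists_e hd3
  obtain rfl : d = K.e k := Units.ext hk
  have hyB : col (K.W 0 k) ∈ K.base := by
    rw [col_apply]
    exact mul_mem (mul_mem sw_base (dgn_base (K.W_exact_mem _ _))) sw_base
  set g := col (K.W 0 k) * h' with hg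
  have hgH : g ∈ H := mul_mem (O.base_le hyB) (mul_mem (mul_mem (O.base_le hn) hh) (inv_mem (O.base_le hn)))
  have hgc : g * col (K.W 1 0) = col (K.W 1 0) * g := by
    rw [← mul_inv_eq_iff_eq_mul, hg, show col (K.W 0 k) * h' * col (K.W 1 0) * (col (K.W 0 k) * h')⁻¹ =
      col (K.W 0 k) * (h' * col (K.W 1 0) * h'⁻¹) * (col (K.W 0 k))⁻¹ by group, e', conj_sc_mul, ← map_inv col,
      ← map_mul col, ← map_mul col, K.W_conj, map_mul col, col_sc, ← mul_assoc, ← map_mul, ← K.e_add,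
      show k + (0 * 0 - 1 * k) = 0 by ring, e_zero, map_one, one_mul]
  obtain ⟨f, hf⟩ := K.comm_iff (g := g) (by simpa [col_W_diag] using hgc)
  obtain ⟨u, m, hm, hum⟩ := O.local_base hs (hf ▸ hgH)
  have hgN : g ∈ K.NR := by rw [hf, hum]; exact mul_mem (K.sc_mem_NR u) (K.base_le_NR hm)
  have hb := K.base_le_NR
  have : h = n⁻¹ * ((col (K.W 0 k))⁻¹ * g) * n := by rw [hg, hh']; group
  rw [this]
  exact mul_mem (mul_mem (inv_mem (hb hn)) (mul_mem (inv_mem (hb hyB)) hgN)) (hb hn)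

end Root

end Cfsg.Agent.ClassicalMax.SympThree
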