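import Cfsg.Agent.ClassicalMax.SympThree.Bridge
import Cfsg.Agent.ClassicalMax.SympThree.Maximal

/-!
Normalisers of groups of order 27 of symplectic type are maximal in the special linear group of dimension three, given
the alternative for their overgroups.
-/

set_option autoImplicit false

namespace Cfsg.Agent.ClassicalMax.SympThree

open Matrix Cfsg.Geo

variable {F : Type*} [Field F]
variable [NeZero (2 : F)]

namespace Root

variable (K : Root F)

theorem sum_e3 (i : Z3) : ∑ s, ((K.e (s * i) : Fˣ) : F) = if i = 0 then 3 else 0 := K.sum_e i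

/-- the group of order 27 -/
def Om3 : Subgroup (GL Z3 F) where
  carrier := {x | ∃ k a b : Z3, x = sc (K.e k) * K.W a b}
  mul_mem' := by
    rintro _ _ ⟨k, a, b, rfl⟩ ⟨k', a', b', rfl⟩
    refine ⟨k + k' + -(a' * b), a + a', b + b', ?_⟩
    rw [K.e_add (k + k'), K.e_add k, map_mul, map_mul, mul_assoc (sc (K.e k) * sc (K.e k')), ← K.W_mul,
      mul_assoc (sc (K.e k)), mul_assoc (sc (K.e k)), ← mul_assoc (K.W a b), ← sc_comm (K.e k') (K.W a b)]
    simp only [mul_assoc]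
  one_mem' := ⟨0, 0, 0, by rw [K.W_zero, Root.e_zero, map_one, one_mul]⟩
  inv_mem' := by
    rintro _ ⟨k, a, b, rfl⟩
    refine ⟨-(a * b) + -k, -a, -b, ?_⟩
    rw [_root_.mul_inv_rev, K.W_inv, K.e_add, map_mul, ← map_inv, ← K.e_neg,
      mul_assoc (sc (K.e (-(a * b)))), ← sc_comm (K.e (-k)), ← mul_assoc]

theorem W_mem_Om3 (a b : Z3) : K.W a b ∈ K.Om3 := ⟨0, a, b, by rw [Root.e_zero, map_one, one_mul]⟩

theorem W_cube (a b : Z3) : K.W a b ^ 3 = 1 := by
  have h : ∀ x : Z3, x + x + x = 0 := fun x => by rcases z3_cases x with rfl | rfl | rfl <;> rfl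
  rw [pow_succ, pow_two, K.W_mul, mul_assoc, K.W_mul, ← mul_assoc, ← map_mul, ← K.e_add, h, h, K.W_zero, mul_one,
    show -(a * b) + -(a * (b + b)) = -(a * b + a * b + a * b) by ring, h, neg_zero, Root.e_zero, map_one]

theorem scaled_cube {c : Fˣ} {a b : Z3} (h : (sc c * K.W a b) ^ 3 = 1) : ∃ k, c = K.e k := by
  rw [Commute.mul_pow (show Commute (sc c) (K.W a b) from sc_comm _ _), K.W_cube, mul_one, ← map_pow,
    ← map_one (sc (κ := Z3) (F := F))] at h
  obtain ⟨k, hk⟩ := K.exists_e (c := (c : F)) (by rw [← Units.val_pow_eq_pow_val, sc_inj3 h, Units.val_one])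
  exact ⟨k, Units.ext hk⟩

theorem normalizer_Om3 [Finite F] (g : GL Z3 F) : g ∈ subgroupNormalizer K.Om3 ↔ K.Nor g := by
  refine ⟨fun hg a b => ?_, fun hg => ?_⟩
  · obtain ⟨k, a', b', e⟩ := (Subgroup.mem_normalizer_iff.1 hg _).1 (K.W_mem_Om3 a b)
    exact ⟨_, a', b', e⟩
  · haveI : Finite (K.Om3 : Set (GL Z3 F)) := Subtype.finite
    refine Subgroup.mem_normalizer_fintype fun x hx => ?_
    obtain ⟨k, a, b, rfl⟩ := hx
    obtain ⟨c, a', b', e⟩ := hg a b
    obtain ⟨j, rfl⟩ := K.scaled_cube (c := c) (a := a') (b := b')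
      (by rw [← e, conj_pow, K.W_cube, mul_one, mul_inv_cancel])
    exact ⟨k + j, a', b', by rw [conj_sc_mul, e, K.e_add, map_mul, mul_assoc]⟩

theorem nor_Dg : K.Nor (K.Dg 1) := fun a b => by
  obtain ⟨c, hc⟩ := K.img_P_conj_W a b
  exact ⟨c, _, _, hc⟩

theorem tv_not_nor : ¬ K.Nor (tv3 (F := F) (show (0 : Z3) ≠ 1 by decide) 1) := by
  intro h
  obtain ⟨c, a, b, e⟩ := h 1 0
  set g := tv3 (F := F) (show (0 : Z3) ≠ 1 by decide) 1
  have hginv : ((g⁻¹ : GL Z3 F) : Matrix Z3 Z3 F) = 1 - Matrix.single 0 1 1 := by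
    have : (g : Matrix Z3 Z3 F) * (1 - Matrix.single 0 1 1) = 1 := by
      rw [show (g : Matrix Z3 Z3 F) = 1 + Matrix.single 0 1 1 from rfl, Matrix.add_mul, Matrix.one_mul, Matrix.mul_sub,
        Matrix.mul_one, Matrix.single_mul_single_of_ne (c := (1 : F)) (h := (show (1 : Z3) ≠ 0 by decide))]
      simp
    exact (left_inv_eq_right_inv (by rw [← Units.val_mul, inv_mul_cancel, Units.val_one]) this)
  have key : ∀ x y : Z3, ((g * K.W 1 0 * g⁻¹ : GL Z3 F) : Matrix Z3 Z3 F) x y =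
      c * (K.W a b : Matrix Z3 Z3 F) x y := fun x y => by
    rw [e, val_sc_mul, Matrix.smul_apply, smul_eq_mul]
  have h00 := key 0 0
  have h01 := key 0 1
  rw [Units.val_mul, Units.val_mul, hginv, show (g : Matrix Z3 Z3 F) = 1 + Matrix.single 0 1 1 from rfl] at h00 h01
  simp +decide [Matrix.mul_apply, sum_z3, Matrix.one_apply, Matrix.single_apply, W_val, e_zero] at h00 h01
  rcases z3_cases b with rfl | rfl | rfl
  · simp +decide at h01
    exact K.ne_one (by rw [← K.eval1]; linear_combination h01)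
  all_goals simp +decide at h00

variable [Fintype F]

theorem maximal_model3 (hA : K.AltSL) :
    IsMaximalIn (specialLinear Z3 F) (subgroupNormalizer K.Om3 ⊓ specialLinear Z3 F) := by
  have hg : tv3 (F := F) (show (0 : Z3) ≠ 1 by decide) 1 ∈ specialLinear Z3 F := by
    rw [mem_sl, tv3, Matrix.SpecialLinearGroup.coe_GL_coe_matrix]
    simp
  refine ⟨lt_of_le_of_ne inf_le_right fun e => K.tv_not_nor ?_, fun H hle hsl => ?_⟩
  · rw [← e] at hg; exact (K.normalizer_Om3 _).1 hg.1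
  have hin : ∀ g : GL Z3 F, K.Nor g → (g : Matrix Z3 Z3 F).det = 1 → g ∈ H := fun g h1 h2 =>
    hle ⟨(K.normalizer_Om3 g).2 h1, mem_sl.2 h2⟩
  rcases hA H hsl (fun a b => hin _ (K.nor_W a b) (K.det_W a b)) (hin _ K.nor_T det_T) (hin _ K.nor_Fr K.det_Fr)
    (hin _ (K.nor_mul (K.nor_mul K.nor_Dg K.nor_Fr) (K.nor_inv K.nor_Dg)) (by
      rw [Units.val_mul, Units.val_mul, Matrix.det_units_conj, K.det_Fr])) with h | h
  · exact Or.inl (le_antisymm (le_inf (fun g hg' => (K.normalizer_Om3 g).2 (h g hg')) hsl) hle)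
  · refine Or.inr (le_antisymm hsl fun g hg' => ?_)
    have := h ⟨(g : Matrix Z3 Z3 F), mem_sl.1 hg'⟩
    rwa [show Matrix.SpecialLinearGroup.toGL (⟨(g : Matrix Z3 Z3 F), mem_sl.1 hg'⟩ : Matrix.SpecialLinearGroup Z3 F) = g from
      Units.ext rfl] at this

end Root

variable [Fintype F]

theorem exists_pair3 (K : Root F) {R : Subgroup (GL Z3 F)} (hd : IsLinearSymplecticTypeData 3 R) :
    (∀ x ∈ R, x ^ 3 = 1) ∧ (∀ x ∈ R, ∀ y ∈ R, ∃ k : Z3, x * y * x⁻¹ = sc (K.e k) * y) ∧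
      ∃ x ∈ R, ∃ y ∈ R, x * y * x⁻¹ = sc (K.e 1) * y := by
  have hscen : ∀ x : R, x ∈ Subgroup.center R → ∃ c : Fˣ, (x : GL Z3 F) = sc c := fun x hx => by
    obtain ⟨c, hc⟩ := hd.absIrred.2 ((x : GL Z3 F) : Matrix Z3 Z3 F) (by
      rintro _ ⟨g, hg, rfl⟩
      exact congrArg (fun y : R => ((y : GL Z3 F) : Matrix Z3 Z3 F)) (Subgroup.mem_center_iff.1 hx ⟨g, hg⟩).symm)
    obtain ⟨d, hd⟩ := SympType.exists_sc_of_smul hc
    exact ⟨d, hd.trans (Units.ext (by rw [SympType.sc_val, sc_val]))⟩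
  have hcube : ∀ x ∈ R, x ^ 3 = 1 := fun x hx => by
    have h := Monoid.pow_exponent_eq_one (⟨x, hx⟩ : R)
    rw [hd.symplecticType.exponent_eq, show 3 * Nat.gcd 2 3 = 3 by norm_num] at h
    exact congrArg Subtype.val h
  have hcomm : ∀ x ∈ R, ∀ y ∈ R, ∃ k : Z3, x * y * x⁻¹ = sc (K.e k) * y := fun x hx y hy => by
    obtain ⟨c, hc⟩ := hscen _ (comm_central hd.symplecticType.pGroup hd.symplecticType.cyclic_of_characteristic
      ⟨x, hx⟩ ⟨y, hy⟩)
    have hc' : x * y * x⁻¹ = sc c * y := by rw [← mul_inv_eq_iff_eq_mul]; exact hc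
    have h1 := congrArg (· ^ 3) hc'
    simp only [conj_pow, hcube y hy, mul_one, mul_inv_cancel,
      Commute.mul_pow (show Commute (sc c) y from sc_comm c y), ← map_pow] at h1
    obtain ⟨k, hk⟩ := K.exists_e (c := (c : F)) (by
      rw [← Units.val_pow_eq_pow_val, ← Root.sc_inj3 ((map_one sc).trans h1), Units.val_one])
    exact ⟨k, by rw [hc', Units.ext hk]⟩
  refine ⟨hcube, hcomm, ?_⟩
  by_contra hno
  push Not at hno
  have hc : ∀ x ∈ R, ∀ y ∈ R, x * y * x⁻¹ = y := fun x hx y hy => by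
    obtain ⟨k, hk⟩ := hcomm x hx y hy
    rcases z3_cases k with rfl | rfl | rfl
    · rw [hk, Root.e_zero, map_one, one_mul]
    · exact absurd hk (hno x hx y hy)
    · refine absurd ?_ (hno y hy x hx)
      rw [mul_inv_eq_iff_eq_mul] at hk ⊢
      rw [mul_assoc, hk, ← mul_assoc (sc (K.e 1)), ← mul_assoc, ← map_mul, ← K.e_add,
        show (1 : Z3) + 2 = 0 by decide, Root.e_zero, map_one, one_mul]
  have hsc : ∀ x ∈ R, ∃ c : Fˣ, x = sc c := fun x hx => hscen ⟨x, hx⟩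
    (Subgroup.mem_center_iff.2 fun y => Subtype.ext (mul_inv_eq_iff_eq_mul.1 (hc y.1 y.2 x hx)))
  rcases hd.absIrred.1 (F ∙ (Pi.single (0 : Z3) (1 : F))) (by
    rintro _ ⟨g, hg, rfl⟩ _ ⟨v, hv, rfl⟩
    obtain ⟨c, hgc⟩ := hsc g hg
    have e : Matrix.toLin' (g : Matrix Z3 Z3 F) v = (c : F) • v := by
      rw [Matrix.toLin'_apply, hgc, sc_val, Matrix.smul_mulVec, Matrix.one_mulVec]
    simp only [SetLike.mem_coe] at hv
    rw [e]
    exact Submodule.smul_mem _ (c : F) hv) with h | h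
  · rw [Submodule.span_singleton_eq_bot] at h
    simpa using congrFun h 0
  · obtain ⟨t, ht⟩ := Submodule.mem_span_singleton.1 (h.ge (Submodule.mem_top (x := Pi.single (1 : Z3) (1 : F))))
    simpa using congrFun ht 1

omit [Fintype F] in
theorem pair_pow (K : Root F) {x y : GL Z3 F} (hxy : x * y * x⁻¹ = sc (K.e 1) * y) (n : ℕ) :
    x * y ^ n = sc (K.e (n : Z3)) * (y ^ n * x) := by
  induction n with
  | zero => simp [Root.e_zero]
  | succ n ih =>
    rw [pow_succ, ← mul_assoc, ih, mul_assoc, mul_assoc, mul_inv_eq_iff_eq_mul.1 hxy, Nat.cast_succ, K.e_add, map_mul,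
      ← mul_assoc (y ^ n) (sc (K.e 1) * y), ← mul_assoc (y ^ n) (sc (K.e 1)), ← sc_comm (K.e 1) (y ^ n)]
    simp only [mul_assoc]

omit [Fintype F] in
theorem exists_fixed3 (K : Root F) {x y : GL Z3 F} (hx3 : x ^ 3 = 1) (hxy : x * y * x⁻¹ = sc (K.e 1) * y) :
    ∃ w : Z3 → F, w ≠ 0 ∧ (x : Matrix Z3 Z3 F) *ᵥ w = w := by
  have hxy' := pair_pow K hxy
  have h3 : (x : Matrix Z3 Z3 F) * ((x : Matrix Z3 Z3 F) * x) = 1 := by
    rw [← Units.val_mul, ← Units.val_mul, ← pow_two, ← pow_succ', hx3, Units.val_one]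
  set X := (x : Matrix Z3 Z3 F) with hX
  set e0 : Z3 → F := Pi.single (0 : Z3) (1 : F) with he0
  let u : Z3 → Z3 → F := fun k => e0 + (K.e (-k) : F) • X *ᵥ e0 + (K.e (-(2 * k)) : F) • X *ᵥ (X *ᵥ e0)
  have hu : ∀ k, X *ᵥ u k = (K.e k : F) • u k := fun k => by
    have h : ∀ z : Z3, z + z + z = 0 := fun z => by rcases z3_cases z with rfl | rfl | rfl <;> rfl
    simp only [u, Matrix.mulVec_add, Matrix.mulVec_smul, Matrix.mulVec_mulVec, h3, Matrix.one_mulVec, smul_add, smul_smul,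
      ← Units.val_mul, ← K.e_add]
    rw [add_neg_cancel, K.eval0, one_smul,
      show k + -(2 * k) = -k by ring, show (K.e (-(2 * k)) : F) = K.e k by congr 2; linear_combination -(h k)]
    abel
  obtain ⟨k, hk⟩ : ∃ k, u k ≠ 0 := by
    by_contra hno
    push Not at hno
    have hs : ∑ k, u k = 0 := Finset.sum_eq_zero fun k _ => hno k
    rw [sum_z3] at hs
    have h1 := K.sum_e 1
    rw [if_neg (by decide), sum_z3, zero_mul, K.eval0, show (1 : Z3) * 1 = 1 by decide, show (2 : Z3) * 1 = 2 by decide]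
      at h1
    simp only [u, show -(0 : Z3) = 0 by decide, show -(2 * (0 : Z3)) = 0 by decide, show -(1 : Z3) = 2 by decide,
      show -(2 : Z3) = 1 by decide, show -((2 : Z3) * 1) = 1 by decide, show -((2 : Z3) * 2) = 2 by decide, K.eval0,
      one_smul] at hs
    have h2 : (3 : F) • e0 + (1 + (K.e 1 : F) + K.e 2) • X *ᵥ e0 + (1 + (K.e 1 : F) + K.e 2) • X *ᵥ (X *ᵥ e0) = 0 := by
      rw [← hs]; module
    rw [h1, zero_smul, zero_smul, add_zero, add_zero, smul_eq_zero] at h2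
    simpa [he0] using congrFun (h2.resolve_left K.three) 0
  refine ⟨((y ^ (-k).val : GL Z3 F) : Matrix Z3 Z3 F) *ᵥ u k, fun e => hk ?_, ?_⟩
  · have h' := congrArg ((((y ^ (-k).val)⁻¹ : GL Z3 F) : Matrix Z3 Z3 F) *ᵥ ·) e
    simp only [Matrix.mulVec_mulVec, Matrix.mulVec_zero] at h'
    rwa [← Units.val_mul, inv_mul_cancel, Units.val_one, Matrix.one_mulVec] at h'
  · rw [Matrix.mulVec_mulVec, hX, ← Units.val_mul, hxy', ZMod.natCast_zmod_val, val_sc_mul, Matrix.smul_mulVec,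
      Units.val_mul, ← Matrix.mulVec_mulVec, ← hX, hu, Matrix.mulVec_smul, smul_smul, ← Units.val_mul, ← K.e_add,
      neg_add_cancel, K.eval0, one_smul]

omit [Fintype F] in
theorem exists_coord3 (K : Root F) {x y : GL Z3 F} (hy3 : y ^ 3 = 1) (hxy : x * y * x⁻¹ = sc (K.e 1) * y)
    {w : Z3 → F} (hw0 : w ≠ 0) (hw : (x : Matrix Z3 Z3 F) *ᵥ w = w) :
    ∃ P : GL Z3 F, MulAut.conj P⁻¹ x = K.W 1 0 ∧ MulAut.conj P⁻¹ y = K.W 0 1 := by
  have hxy' := pair_pow K hxy
  let v : Z3 → Z3 → F := fun z => ((y ^ z.val : GL Z3 F) : Matrix Z3 Z3 F) *ᵥ w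
  have hv1 : ∀ z, (y : Matrix Z3 Z3 F) *ᵥ v z = v (z + 1) := fun z => by
    show _ *ᵥ (_ *ᵥ w) = _
    rw [Matrix.mulVec_mulVec, ← Units.val_mul, ← pow_succ']
    show ((y ^ (z.val + 1) : GL Z3 F) : Matrix Z3 Z3 F) *ᵥ w = ((y ^ (z + 1).val : GL Z3 F) : Matrix Z3 Z3 F) *ᵥ w
    rw [ZMod.val_add, show (1 : Z3).val = 1 from rfl, ← pow_eq_pow_mod _ hy3]
  have hvx : ∀ z, (x : Matrix Z3 Z3 F) *ᵥ v z = (K.e z : F) • v z := fun z => by
    show _ *ᵥ (_ *ᵥ w) = _
    rw [Matrix.mulVec_mulVec, ← Units.val_mul, hxy', ZMod.natCast_zmod_val, val_sc_mul, Matrix.smul_mulVec, Units.val_mul,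
      ← Matrix.mulVec_mulVec, hw]
  let M : Matrix Z3 Z3 F := Matrix.of fun z z' => v z' z
  have hinj : Function.Injective M.mulVec := by
    have hne : ∀ z, v z ≠ 0 := fun z e => hw0 (by
      have h' := congrArg ((((y ^ z.val)⁻¹ : GL Z3 F) : Matrix Z3 Z3 F) *ᵥ ·) e
      simp only [v, Matrix.mulVec_mulVec, Matrix.mulVec_zero] at h'
      rwa [← Units.val_mul, inv_mul_cancel, Units.val_one, Matrix.one_mulVec] at h')
    intro c c' h
    have hc : M *ᵥ (c - c') = 0 := by rw [Matrix.mulVec_sub, h, sub_self]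
    refine sub_eq_zero.1 (funext fun k => ?_)
    set d := c - c'
    have hsum : ∑ z, d z • v z = 0 := by
      funext i
      rw [← hc, Finset.sum_apply]
      simp [M, Matrix.mulVec, dotProduct, mul_comm]
    have h1 := congrArg (fun u => u + (K.e (-k) : F) • (x : Matrix Z3 Z3 F) *ᵥ u +
      (K.e (-(2 * k)) : F) • (x : Matrix Z3 Z3 F) *ᵥ ((x : Matrix Z3 Z3 F) *ᵥ u)) hsum
    simp only [Matrix.mulVec_sum, Matrix.mulVec_smul, hvx, smul_smul, Matrix.mulVec_zero, smul_zero, add_zero,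
      Finset.smul_sum, ← Finset.sum_add_distrib, ← add_smul] at h1
    rw [Finset.sum_eq_single k] at h1
    · have h2 := (smul_eq_zero.1 h1).resolve_right (hne k)
      have hs : d k * 3 = 0 := by
        rw [← h2]
        simp only [mul_assoc, ← Units.val_mul, ← K.e_add, mul_left_comm _ (d k)]
        rw [show -k + k = 0 by ring, show -(2 * k) + (k + k) = 0 by ring, K.eval0]
        ring
      exact (mul_eq_zero.1 hs).resolve_right K.three
    · intro z _ hz
      have h := K.sum_e (z - k)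
      rw [sum_z3, if_neg (sub_ne_zero.2 hz), zero_mul, one_mul, K.eval0] at h
      convert zero_smul F (v z) using 2
      simp only [mul_assoc, ← Units.val_mul, ← K.e_add, mul_left_comm _ (d z)]
      rw [show -k + z = z - k by ring, show -(2 * k) + (z + z) = 2 * (z - k) by ring]
      linear_combination d z * h
    · simp
  obtain ⟨P, hP⟩ := Matrix.mulVec_injective_iff_isUnit.1 hinj
  have hconj : ∀ (Y N : GL Z3 F), (∀ z' z, ((Y : Matrix Z3 Z3 F) *ᵥ v z') z = ∑ i, v i z * (N : Matrix Z3 Z3 F) i z') →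
      MulAut.conj P⁻¹ Y = N := fun Y N h => by
    have h1 : Y * P = P * N := Units.ext (Matrix.ext fun z z' => by
      rw [Units.val_mul, Units.val_mul, hP, Matrix.mul_apply, Matrix.mul_apply]
      exact h z' z)
    rw [MulAut.conj_apply, inv_inv, mul_assoc, h1, inv_mul_cancel_left]
  have ex : MulAut.conj P⁻¹ x = K.W 1 0 := hconj _ _ fun z' z => by
    rw [hvx, Pi.smul_apply, smul_eq_mul, Finset.sum_eq_single z']
    · simp [Root.W_val, mul_comm]
    · intro i _ hi; simp [Root.W_val, hi]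
    · simp
  have ey : MulAut.conj P⁻¹ y = K.W 0 1 := hconj _ _ fun z' z => by
    rw [hv1, Finset.sum_eq_single (z' + 1)]
    · simp [Root.W_val, Root.e_zero]
    · intro i _ hi; simp [Root.W_val, hi]
    · simp
  exact ⟨P, ex, ey⟩

/-- conjugate to the model -/
theorem exists_conj3 (K : Root F) {R : Subgroup (GL Z3 F)} (hd : IsLinearSymplecticTypeData 3 R) :
    ∃ P : GL Z3 F, R.map (MulAut.conj P).toMonoidHom = K.Om3 := by
  obtain ⟨hcube, hcomm, x, hx, y, hy, hxy⟩ := exists_pair3 K hd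
  obtain ⟨w, hw0, hw⟩ := exists_fixed3 K (hcube x hx) hxy
  obtain ⟨P, ex, ey⟩ := exists_coord3 K (hcube y hy) hxy hw0 hw
  refine ⟨P⁻¹, le_antisymm ?_ ?_⟩
  · rintro _ ⟨g, hg, rfl⟩
    obtain ⟨j, hj⟩ := hcomm g hg x hx
    obtain ⟨k, hk⟩ := hcomm g hg y hy
    have hj' := congrArg (fun m => MulAut.conj P⁻¹ m) hj
    have hk' := congrArg (fun m => MulAut.conj P⁻¹ m) hk
    have hs : ∀ c, MulAut.conj P⁻¹ (sc c) = sc c := fun c => sc_conj c _
    simp only [map_mul (MulAut.conj P⁻¹), map_inv (MulAut.conj P⁻¹), hs, ex] at hj'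
    simp only [map_mul (MulAut.conj P⁻¹), map_inv (MulAut.conj P⁻¹), hs, ey] at hk'
    obtain ⟨u, a, b, e⟩ := K.centr hj' hk'
    show MulAut.conj P⁻¹ g ∈ K.Om3
    obtain ⟨i, rfl⟩ := K.scaled_cube (c := u) (a := a) (b := b)
      (by rw [← e, ← map_pow, hcube g hg, map_one])
    exact ⟨i, a, b, e⟩
  · rintro _ ⟨k, a, b, rfl⟩
    have mx : K.W 1 0 ∈ R.map (MulAut.conj P⁻¹).toMonoidHom := ⟨x, hx, ex⟩
    have my : K.W 0 1 ∈ R.map (MulAut.conj P⁻¹).toMonoidHom := ⟨y, hy, ey⟩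
    have m1 : sc (K.e 1) ∈ R.map (MulAut.conj P⁻¹).toMonoidHom := ⟨sc (K.e 1), by
      rw [show sc (K.e 1) = x * y * x⁻¹ * y⁻¹ by rw [hxy, mul_inv_cancel_right]]
      exact mul_mem (mul_mem (mul_mem hx hy) (inv_mem hx)) (inv_mem hy), sc_conj _ _⟩
    have hk : sc (K.e k) ∈ R.map (MulAut.conj P⁻¹).toMonoidHom := by
      rw [show K.e k = K.e 1 ^ k.val by rw [Root.e_one]; rfl, map_pow]
      exact pow_mem m1 _
    refine mul_mem hk ?_
    rw [K.W_split a]
    exact mul_mem (pow_mem mx _) (pow_mem my _)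

/-- class six in dimension three, given the alternative -/
theorem maximal_of_data3 (K : Root F) (hA : K.AltSL) {R : Subgroup (GL Z3 F)} (hd : IsLinearSymplecticTypeData 3 R) :
    IsMaximalIn (specialLinear Z3 F) (subgroupNormalizer R ⊓ specialLinear Z3 F) := by
  obtain ⟨P, hP⟩ := exists_conj3 K hd
  set Φ : GL Z3 F ≃* GL Z3 F := MulAut.conj P
  have hN : (subgroupNormalizer R).map Φ.toMonoidHom = subgroupNormalizer K.Om3 := by
    rw [subgroupNormalizer, subgroupNormalizer, ← map_normalizer_equiv, hP]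
  have hS : (specialLinear Z3 F).map Φ.toMonoidHom = specialLinear Z3 F := by
    ext g
    rw [Subgroup.mem_map_equiv, mem_sl, mem_sl, MulAut.conj_symm_apply, Units.val_mul, Units.val_mul,
      Matrix.det_units_conj']
  have key := K.maximal_model3 hA
  rw [← hN, ← hS, ← Subgroup.map_inf _ _ _ Φ.injective] at key
  refine ⟨(Subgroup.map_lt_map_iff_of_injective Φ.injective).1 key.1, fun M h1 h2 => ?_⟩
  rcases key.2 _ (Subgroup.map_mono h1) (Subgroup.map_mono h2) with h | h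
  · exact Or.inl (Subgroup.map_injective Φ.injective h)
  · exact Or.inr (Subgroup.map_injective Φ.injective h)

end Cfsg.Agent.ClassicalMax.SympThree
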