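import Cfsg.Agent.ClassicalMax.SympThree.Bridge
import Cfsg.Agent.RegGen.TV

/-!
Over a prime field an overgroup in dimension three of the group of order 27 with an element of quadratic unipotent type
is the special linear group, and a group of order divisible by the square of the characteristic has such an element.
-/

set_option autoImplicit false

namespace Cfsg.Agent.ClassicalMax.SympThree

open Matrix Cfsg.Geo RegGen

variable {F : Type*} [Field F] [Fintype F]
variable [NeZero (2 : F)]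

theorem exists_natCast {p : ℕ} (hp : p.Prime) (hF : Fintype.card F = p) (r : F) : ∃ n : ℕ, (n : F) = r := by
  haveI := Fact.mk hp
  haveI : CharP F p := charP_of_card_eq_prime hF
  obtain ⟨z, hz⟩ := ((Fintype.bijective_iff_injective_and_card (ZMod.castHom (dvd_refl p) F)).2
    ⟨RingHom.injective _, by rw [ZMod.card, hF]⟩).2 r
  exact ⟨z.val, by rw [← hz, ← map_natCast (ZMod.castHom (dvd_refl p) F), ZMod.natCast_zmod_val]⟩

section

variable {M : Subgroup (Matrix.SpecialLinearGroup Z3 F)} (hnat : ∀ r : F, ∃ n : ℕ, (n : F) = r)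
include hnat

theorem tv_smul {a φ : Z3 → F} (h : TV M a φ) (r : F) : TV M a (r • φ) := by
  obtain ⟨n, rfl⟩ := hnat r
  induction n with
  | zero => rw [Nat.cast_zero, zero_smul]; exact TV.zero_right a
  | succ n ih => rw [Nat.cast_succ, add_smul, one_smul]; exact ih.add_right h

/-- two independent functionals give all of them -/
theorem pt_of_two {a φ ψ : Z3 → F} (ha : a ≠ 0) (h : TV M a φ) (h' : TV M a ψ)
    (hind : ∀ s t : F, s • φ + t • ψ = 0 → s = 0 ∧ t = 0) : Pt M a := by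
  let L : (Z3 → F) →ₗ[F] F := ∑ i, a i • LinearMap.proj i
  have hL : ∀ χ, L χ = χ ⬝ᵥ a := fun χ => by simp [L, dotProduct, mul_comm]
  let P : F × F →ₗ[F] LinearMap.ker L :=
    { toFun := fun v => ⟨v.1 • φ + v.2 • ψ, by
        rw [LinearMap.mem_ker, hL, add_dotProduct, smul_dotProduct, smul_dotProduct, h.perp, h'.perp, smul_zero, smul_zero,
          add_zero]⟩
      map_add' := fun v w => Subtype.ext (by
        show (v.1 + w.1) • φ + (v.2 + w.2) • ψ = v.1 • φ + v.2 • ψ + (w.1 • φ + w.2 • ψ)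
        module)
      map_smul' := fun c v => Subtype.ext (by
        show (c * v.1) • φ + (c * v.2) • ψ = c • (v.1 • φ + v.2 • ψ)
        module) }
  have hinj : Function.Injective P := (injective_iff_map_eq_zero P).2 fun v hv =>
    Prod.ext (hind v.1 v.2 (congrArg Subtype.val hv)).1 (hind v.1 v.2 (congrArg Subtype.val hv)).2
  have hsurjL : Function.Surjective L := fun c => by
    obtain ⟨i, hi⟩ := Function.ne_iff.1 ha
    exact ⟨(c / a i) • Pi.single i 1, by rw [hL, smul_dotProduct, single_dotProduct, one_mul, smul_eq_mul, div_mul_cancel₀ c hi]⟩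
  have hdim : Module.finrank F (F × F) = Module.finrank F (LinearMap.ker L) := by
    have h1 := LinearMap.finrank_range_add_finrank_ker L
    rw [LinearMap.range_eq_top.2 hsurjL, finrank_top, Module.finrank_self, Module.finrank_fintype_fun_eq_card, ZMod.card] at h1
    rw [Module.finrank_prod, Module.finrank_self]
    omega
  intro χ hχ
  obtain ⟨v, hv⟩ := (LinearMap.injective_iff_surjective_of_finrank_eq_finrank hdim).1 hinj ⟨χ, by rw [LinearMap.mem_ker, hL, hχ]⟩
  have e : v.1 • φ + v.2 • ψ = χ := congrArg Subtype.val hv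
  rw [← e]
  exact (tv_smul hnat h v.1).add_right (tv_smul hnat h' v.2)

omit hnat in
theorem pt_add {y z : Z3 → F} (hy : Pt M y) (hz : Pt M z) : Pt M (y + z) := by
  by_cases hz0 : z = 0
  · rwa [hz0, add_zero]
  by_cases hdep : ∃ r : F, y = r • z
  · obtain ⟨r, rfl⟩ := hdep
    rw [show r • z + z = (r + 1) • z by rw [add_smul, one_smul]]
    exact hz.smul _
  obtain ⟨i, hi⟩ := Function.ne_iff.1 hz0
  obtain ⟨j, hj⟩ : ∃ j, y j * z i - y i * z j ≠ 0 := by
    by_contra h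
    push Not at h
    refine hdep ⟨y i / z i, funext fun j => ?_⟩
    rw [Pi.smul_apply, smul_eq_mul, div_mul_eq_mul_div, eq_div_iff hi]
    linear_combination h j
  set β : Z3 → F := (y j * z i - y i * z j)⁻¹ • (z i • Pi.single j 1 - z j • Pi.single i 1) with hβ
  have hb1 : β ⬝ᵥ y = 1 := by
    rw [hβ, smul_dotProduct, sub_dotProduct, smul_dotProduct, smul_dotProduct, single_dotProduct, single_dotProduct,
      smul_eq_mul, smul_eq_mul, smul_eq_mul, one_mul, one_mul, show z i * y j - z j * y i = y j * z i - y i * z j by ring,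
      inv_mul_cancel₀ hj]
  have hb0 : β ⬝ᵥ z = 0 := by
    rw [hβ, smul_dotProduct, sub_dotProduct, smul_dotProduct, smul_dotProduct, single_dotProduct, single_dotProduct,
      smul_eq_mul, smul_eq_mul, smul_eq_mul, one_mul, one_mul, show z i * z j - z j * z i = 0 by ring, mul_zero]
  obtain ⟨-, g, hg, hx⟩ := hz β hb0
  have := hy.map hg
  rwa [hx, hb1, one_smul] at this

variable (K : Root F) (hW : ∀ a b, ∃ g ∈ M, (g : Matrix Z3 Z3 F) = (K.W a b : Matrix Z3 Z3 F))
include hW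

omit hnat in
/-- a non-zero invariant subspace contains the basis -/
theorem w_all (N : Submodule F (Z3 → F)) (hN : ∀ a b, ∀ v ∈ N, (K.W a b : Matrix Z3 Z3 F) *ᵥ v ∈ N)
    {v : Z3 → F} (hv : v ∈ N) (hv0 : v ≠ 0) : ∀ i, (Pi.single i 1 : Z3 → F) ∈ N := by
  obtain ⟨z, hz⟩ := Function.ne_iff.1 hv0
  have hWv : ∀ a b i, ((K.W a b : Matrix Z3 Z3 F) *ᵥ v) i = (K.e (a * i) : F) * v (i - b) := fun a b i => by
    rw [Matrix.mulVec, dotProduct, Finset.sum_eq_single (i - b)]
    · rw [Root.W_val, if_pos (sub_add_cancel i b).symm]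
    · intro x _ hx
      rw [Root.W_val, if_neg (fun e => hx (by rw [e, add_sub_cancel_right])), zero_mul]
    · simp
  intro i
  have h1 : ∑ x : Z3, (K.e (-(x * i)) : F) • (K.W x (i - z) : Matrix Z3 Z3 F) *ᵥ v ∈ N :=
    Submodule.sum_mem _ fun x _ => N.smul_mem _ (hN x (i - z) v hv)
  have h2 : ∑ x : Z3, (K.e (-(x * i)) : F) • (K.W x (i - z) : Matrix Z3 Z3 F) *ᵥ v = (3 * v z) • (Pi.single i 1 : Z3 → F) := by
    funext j
    rw [Finset.sum_apply]
    simp only [Pi.smul_apply, hWv, smul_eq_mul, ← mul_assoc, ← Units.val_mul, ← K.e_add]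
    rw [← Finset.sum_mul]
    simp only [show ∀ x : Z3, -(x * i) + x * j = x * (j - i) from fun x => by ring, K.sum_e]
    by_cases hji : j = i
    · subst hji; simp
    · simp [sub_eq_zero, hji]
  rw [h2] at h1
  have h3 := N.smul_mem (3 * v z)⁻¹ h1
  rwa [smul_smul, inv_mul_cancel₀ (mul_ne_zero K.three hz), one_smul] at h3

/-- a transvection makes everything -/
theorem top_of_tv {a φ : Z3 → F} (ha : a ≠ 0) (hφ : φ ≠ 0) (h : TV M a φ) : M = ⊤ := by
  -- roots
  let Rt : (Z3 → F) → (Z3 → F) → Prop := fun b ψ => TV M b ψ ∧ b ≠ 0 ∧ ψ ≠ 0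
  have hconj : ∀ {b ψ}, Rt b ψ → ∀ g ∈ M, Rt (g.1 *ᵥ b) (ψ ᵥ* (g⁻¹ : Matrix.SpecialLinearGroup Z3 F).1) := by
    rintro b ψ ⟨h1, h2, h3⟩ g hg
    refine ⟨h1.conj hg, fun e => h2 ?_, fun e => h3 ?_⟩
    · have := congrArg ((g⁻¹ : Matrix.SpecialLinearGroup Z3 F).1 *ᵥ ·) e
      simpa only [Matrix.mulVec_mulVec, ← Matrix.SpecialLinearGroup.coe_mul, inv_mul_cancel,
        Matrix.SpecialLinearGroup.coe_one, Matrix.one_mulVec, Matrix.mulVec_zero] using this
    · have := congrArg (· ᵥ* g.1) e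
      simpa only [Matrix.vecMul_vecMul, ← Matrix.SpecialLinearGroup.coe_mul, inv_mul_cancel,
        Matrix.SpecialLinearGroup.coe_one, Matrix.vecMul_one, Matrix.zero_vecMul] using this
  -- irreducibility
  have hker : ∀ n : Z3 → F, (∀ b ψ, Rt b ψ → ψ ⬝ᵥ n = 0) → n = 0 := by
    intro n hn
    by_contra hn0
    let N : Submodule F (Z3 → F) :=
      { carrier := {v | ∀ b ψ, Rt b ψ → ψ ⬝ᵥ v = 0}
        add_mem' := fun hu hv b ψ hr => by rw [dotProduct_add, hu b ψ hr, hv b ψ hr, add_zero]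
        zero_mem' := fun b ψ _ => dotProduct_zero ψ
        smul_mem' := fun c v hv b ψ hr => by rw [dotProduct_smul, hv b ψ hr, smul_zero] }
    have hN := w_all K hW N (fun x y v hv b ψ hr => by
      obtain ⟨g, hg, e⟩ := hW x y
      have h1 := hv _ _ (hconj hr g⁻¹ (inv_mem hg))
      rwa [inv_inv, ← dotProduct_mulVec, e] at h1) (v := n) hn hn0
    refine hφ (funext fun i => ?_)
    have h1 := hN i a φ ⟨h, ha, hφ⟩
    rwa [dotProduct_single, mul_one] at h1
  have hspan : ∀ (χ : Z3 → F), (∀ b ψ, Rt b ψ → χ ⬝ᵥ b = 0) → χ = 0 := by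
    intro χ hχ
    let N : Submodule F (Z3 → F) := Submodule.span F {b | ∃ ψ, Rt b ψ}
    have hN := w_all K hW N (fun x y v hv => by
      refine Submodule.span_induction (p := fun v _ => (K.W x y : Matrix Z3 Z3 F) *ᵥ v ∈ N) ?_ ?_ ?_ ?_ hv
      · rintro b ⟨ψ, hr⟩
        obtain ⟨g, hg, e⟩ := hW x y
        exact Submodule.subset_span ⟨_, e ▸ hconj hr g hg⟩
      · rw [Matrix.mulVec_zero]; exact zero_mem _
      · exact fun u v _ _ hu hv => by rw [Matrix.mulVec_add]; exact add_mem hu hv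
      · exact fun c u _ hu => by rw [Matrix.mulVec_smul]; exact N.smul_mem c hu)
      (v := a) (Submodule.subset_span ⟨φ, h, ha, hφ⟩) ha
    refine funext fun i => ?_
    have hz : ∀ v ∈ N, χ ⬝ᵥ v = 0 := fun v hv => by
      refine Submodule.span_induction (p := fun v _ => χ ⬝ᵥ v = 0) ?_ ?_ ?_ ?_ hv
      · rintro b ⟨ψ, hr⟩; exact hχ b ψ hr
      · exact dotProduct_zero χ
      · exact fun u v _ _ hu hv => by rw [dotProduct_add, hu, hv, add_zero]
      · exact fun c u _ hu => by rw [dotProduct_smul, hu, smul_zero]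
    have h1 := hz _ (hN i)
    rwa [dotProduct_single, mul_one] at h1
  -- one full point
  obtain ⟨y, hy0, hy⟩ : ∃ y : Z3 → F, y ≠ 0 ∧ Pt M y := by
    by_contra hno
    push Not at hno
    have hsym : ∀ {b ψ c χ}, Rt b ψ → Rt c χ → ψ ⬝ᵥ c = 0 → χ ⬝ᵥ b = 0 := by
      intro b ψ c χ hb hc h0
      by_contra hne
      have h1 := hb.1.comm hc.1 h0
      refine hno c hc.2.1 (pt_of_two hnat hc.2.1 (φ := χ) (ψ := ψ) hc.1 ?_ ?_)
      · have h2 := h1.smul_right _ h0
        have h3 := tv_smul hnat h2 (-(χ ⬝ᵥ b))⁻¹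
        rwa [smul_smul, inv_mul_cancel₀ (neg_ne_zero.2 hne), one_smul] at h3
      · intro s t e
        have h2 := congrArg (· ⬝ᵥ b) e
        simp only [add_dotProduct, smul_dotProduct, hb.1.perp, zero_dotProduct, smul_eq_mul, mul_zero, add_zero] at h2
        have hs := (mul_eq_zero.1 h2).resolve_right hne
        rw [hs, zero_smul, zero_add, smul_eq_zero] at e
        exact ⟨hs, e.resolve_right hb.2.2⟩
    obtain ⟨b, ψ, hb, hφb⟩ : ∃ b ψ, Rt b ψ ∧ φ ⬝ᵥ b ≠ 0 := by
      by_contra h1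
      push Not at h1
      exact hφ (hspan φ h1)
    have haR : Rt a φ := ⟨h, ha, hφ⟩
    have hψa : ψ ⬝ᵥ a ≠ 0 := fun e => hφb (hsym hb haR e)
    let L : (Z3 → F) →ₗ[F] F × F :=
      { toFun := fun x => (φ ⬝ᵥ x, ψ ⬝ᵥ x)
        map_add' := fun u v => by simp [dotProduct_add]
        map_smul' := fun c u => by simp [dotProduct_smul] }
    have hL : ∀ x, L x = (φ ⬝ᵥ x, ψ ⬝ᵥ x) := fun x => rfl
    have hsurj : Function.Surjective L := fun v => ⟨(v.1 / (φ ⬝ᵥ b)) • b + (v.2 / (ψ ⬝ᵥ a)) • a, by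
      rw [hL, dotProduct_add, dotProduct_add, dotProduct_smul, dotProduct_smul, dotProduct_smul, dotProduct_smul,
        h.perp, hb.1.perp, smul_eq_mul, smul_eq_mul, smul_eq_mul, smul_eq_mul, mul_zero, add_zero, mul_zero, zero_add,
        div_mul_cancel₀ _ hφb, div_mul_cancel₀ _ hψa]⟩
    have hdim : Module.finrank F (LinearMap.ker L) = 1 := by
      have h1 := LinearMap.finrank_range_add_finrank_ker L
      rw [LinearMap.range_eq_top.2 hsurj, finrank_top, Module.finrank_prod, Module.finrank_self,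
        Module.finrank_fintype_fun_eq_card, ZMod.card] at h1
      omega
    obtain ⟨⟨n, hn⟩, hn0, hgen⟩ := finrank_eq_one_iff'.1 hdim
    rw [LinearMap.mem_ker, hL, Prod.mk_eq_zero] at hn
    refine hn0 (Subtype.ext (hker n fun c χ hc => ?_))
    set c0 := (ψ ⬝ᵥ c) / (ψ ⬝ᵥ a)
    set c1 := (φ ⬝ᵥ c) / (φ ⬝ᵥ b)
    set d := c - c0 • a - c1 • b with hd
    have hdk : d ∈ LinearMap.ker L := by
      rw [LinearMap.mem_ker, hL, hd, Prod.mk_eq_zero]
      simp only [dotProduct_sub, dotProduct_smul, h.perp, hb.1.perp, smul_eq_mul, mul_zero, sub_zero]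
      exact ⟨by rw [div_mul_cancel₀ _ hφb, sub_self], by rw [div_mul_cancel₀ _ hψa, sub_self]⟩
    obtain ⟨t, ht⟩ := hgen ⟨d, hdk⟩
    replace ht : t • n = d := congrArg Subtype.val ht
    -- the conjugates of the first root
    have hfam : ∀ r : F, Rt (a + (r * (ψ ⬝ᵥ a)) • b) (φ - (r * (φ ⬝ᵥ b)) • ψ) := by
      intro r
      obtain ⟨-, g, hg, hx⟩ := tv_smul hnat hb.1 r
      have h1 := hconj haR g hg
      have e1 : g.1 *ᵥ a = a + (r * (ψ ⬝ᵥ a)) • b := by rw [hx, smul_dotProduct, smul_eq_mul]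
      have e2 : φ ᵥ* (g⁻¹ : Matrix.SpecialLinearGroup Z3 F).1 = φ - (r * (φ ⬝ᵥ b)) • ψ := by
        have hgi : ∀ x, (g⁻¹ : Matrix.SpecialLinearGroup Z3 F).1 *ᵥ x = x - (r * (ψ ⬝ᵥ x)) • b := fun x => by
          have h2 := hx (x - (r * (ψ ⬝ᵥ x)) • b)
          rw [smul_dotProduct, dotProduct_sub, dotProduct_smul, hb.1.perp, smul_zero, sub_zero, smul_eq_mul,
            sub_add_cancel] at h2
          have h3 := congrArg ((g⁻¹ : Matrix.SpecialLinearGroup Z3 F).1 *ᵥ ·) h2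
          simp only [Matrix.mulVec_mulVec, ← Matrix.SpecialLinearGroup.coe_mul, inv_mul_cancel,
            Matrix.SpecialLinearGroup.coe_one, Matrix.one_mulVec] at h3
          exact h3.symm
        refine funext fun i => ?_
        have h4 : (φ ᵥ* (g⁻¹ : Matrix.SpecialLinearGroup Z3 F).1) ⬝ᵥ Pi.single i 1 = (φ - (r * (φ ⬝ᵥ b)) • ψ) ⬝ᵥ Pi.single i 1 := by
          rw [← dotProduct_mulVec, hgi, dotProduct_sub, dotProduct_smul, sub_dotProduct, smul_dotProduct, smul_eq_mul,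
            smul_eq_mul]
          ring
        simpa [dotProduct_single_one] using h4
      rwa [e1, e2] at h1
    have hkey : (ψ ⬝ᵥ c) * (χ ⬝ᵥ a) * (φ ⬝ᵥ b) + (φ ⬝ᵥ c) * (χ ⬝ᵥ b) * (ψ ⬝ᵥ a) = 0 := by
      by_cases hχb : χ ⬝ᵥ b = 0
      · rw [hχb, hsym hc hb hχb]; ring
      · set r := -(χ ⬝ᵥ a) / ((χ ⬝ᵥ b) * (ψ ⬝ᵥ a)) with hr
        have h1 : χ ⬝ᵥ (a + (r * (ψ ⬝ᵥ a)) • b) = 0 := by
          rw [dotProduct_add, dotProduct_smul, smul_eq_mul, hr]; field_simp; ring
        have h2 := hsym hc (hfam r) h1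
        rw [sub_dotProduct, smul_dotProduct, smul_eq_mul, hr] at h2
        field_simp at h2
        linear_combination h2
    have hχd : χ ⬝ᵥ d = 0 := by
      rw [hd, dotProduct_sub, dotProduct_sub, dotProduct_smul, dotProduct_smul, hc.1.perp, smul_eq_mul, smul_eq_mul]
      simp only [c0, c1]
      field_simp
      linear_combination -hkey
    by_cases ht0 : t = 0
    · by_contra hχn
      have hcP : c = c0 • a + c1 • b := by
        rw [ht0, zero_smul, hd] at ht
        rw [eq_comm, sub_sub, sub_eq_zero] at ht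
        exact ht
      obtain ⟨χ', hχ', hχ'n, hχ'0⟩ : ∃ χ', TV M c χ' ∧ χ' ⬝ᵥ n = 0 ∧ χ' ≠ 0 := by
        by_cases hc0 : c0 = 0
        · have hc1 : c1 ≠ 0 := fun e => hc.2.1 (by rw [hcP, hc0, e, zero_smul, zero_smul, add_zero])
          have h1 : TV M b (c1 • ψ) := tv_smul hnat hb.1 c1
          rw [hcP, hc0, zero_smul, zero_add]
          exact ⟨ψ, h1.smul_left c1 hb.1.perp, hn.2, hb.2.2⟩
        · set r := c1 / (c0 * (ψ ⬝ᵥ a)) with hr
          have e : c = c0 • (a + (r * (ψ ⬝ᵥ a)) • b) := by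
            rw [hcP, smul_add, smul_smul, hr]; congr 2; field_simp
          refine ⟨φ - (r * (φ ⬝ᵥ b)) • ψ, ?_, by
            rw [sub_dotProduct, smul_dotProduct, hn.1, hn.2, smul_zero, sub_zero], (hfam r).2.2⟩
          rw [e]
          exact (tv_smul hnat (hfam r).1 c0).smul_left c0 (hfam r).1.perp
      refine hno c hc.2.1 (pt_of_two hnat hc.2.1 hc.1 hχ' fun s u e => ?_)
      have h2 := congrArg (· ⬝ᵥ n) e
      simp only [add_dotProduct, smul_dotProduct, hχ'n, zero_dotProduct, smul_eq_mul, mul_zero, add_zero] at h2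
      have hs := (mul_eq_zero.1 h2).resolve_right hχn
      rw [hs, zero_smul, zero_add, smul_eq_zero] at e
      exact ⟨hs, e.resolve_right hχ'0⟩
    · rw [← ht, dotProduct_smul, smul_eq_mul] at hχd
      exact (mul_eq_zero.1 hχd).resolve_left ht0
  let N : Submodule F (Z3 → F) :=
    { carrier := {v | Pt M v}
      add_mem' := fun hu hv => pt_add hu hv
      zero_mem' := fun ψ _ => TV.zero_left ψ
      smul_mem' := fun c v hv => hv.smul c }
  exact eq_top_of_pt fun i => w_all K hW N (fun x z v hv => by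
    obtain ⟨g, hg, e⟩ := hW x z
    exact e ▸ Pt.map (show Pt M v from hv) hg) (v := y) hy hy0 i

end

variable {M : Subgroup (Matrix.SpecialLinearGroup Z3 F)}

/-- a quadratic unipotent element is a transvection -/
theorem tv_of_sq {g : Matrix.SpecialLinearGroup Z3 F} (hg : g ∈ M) (h1 : g ≠ 1)
    (h2 : ((g : Matrix Z3 Z3 F) - 1) * ((g : Matrix Z3 Z3 F) - 1) = 0) : ∃ a φ : Z3 → F, a ≠ 0 ∧ φ ≠ 0 ∧ TV M a φ := by
  set A : Matrix Z3 Z3 F := (g : Matrix Z3 Z3 F) - 1 with hA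
  obtain ⟨v, hv⟩ : ∃ v, A *ᵥ v ≠ 0 := by
    by_contra h
    push Not at h
    refine h1 (Subtype.ext (sub_eq_zero.1 (Matrix.ext fun i j => ?_)))
    have := congrFun (h (Pi.single j 1)) i
    rwa [Matrix.mulVec_single_one] at this
  set f := Matrix.toLin' A
  have hle : LinearMap.range f ≤ LinearMap.ker f := by
    rintro _ ⟨u, rfl⟩
    rw [LinearMap.mem_ker, Matrix.toLin'_apply, Matrix.toLin'_apply, Matrix.mulVec_mulVec, h2, Matrix.zero_mulVec]
  have hr : Module.finrank F (LinearMap.range f) = 1 := by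
    have e := LinearMap.finrank_range_add_finrank_ker f
    rw [Module.finrank_fintype_fun_eq_card, ZMod.card] at e
    have := Submodule.finrank_mono hle
    have hpos : 0 < Module.finrank F (LinearMap.range f) := by
      rw [Nat.pos_iff_ne_zero, Ne, Submodule.finrank_eq_zero, LinearMap.range_eq_bot]
      exact fun e => hv (by rw [← Matrix.toLin'_apply]; exact LinearMap.congr_fun e v)
    omega
  obtain ⟨⟨a, ha⟩, ha0, hgen⟩ := finrank_eq_one_iff'.1 hr
  choose φ hφ using fun i => hgen ⟨A *ᵥ Pi.single i 1, ⟨_, Matrix.toLin'_apply A _⟩⟩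
  have hA' : ∀ x, A *ᵥ x = (φ ⬝ᵥ x) • a := fun x => by
    funext j
    rw [Pi.smul_apply, smul_eq_mul, Matrix.mulVec, dotProduct, dotProduct, Finset.sum_mul]
    refine Finset.sum_congr rfl fun i _ => ?_
    have h3 : φ i * a j = A j i := by
      have := congrArg (fun w : LinearMap.range f => (w : Z3 → F) j) (hφ i)
      simpa [Matrix.mulVec_single_one] using this
    rw [← h3]; ring
  have ha' : a ≠ 0 := fun e => ha0 (Subtype.ext e)
  refine ⟨a, φ, ha', fun e => hv (by rw [hA', e, zero_dotProduct, zero_smul]), ?_, g, hg, fun x => ?_⟩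
  · have h3 : A *ᵥ a = 0 := by rw [← Matrix.toLin'_apply]; exact hle ha
    rw [hA'] at h3
    exact (smul_eq_zero.1 h3).resolve_right ha'
  · rw [← hA', hA, Matrix.sub_mulVec, Matrix.one_mulVec]; abel

theorem cube_zero {A : Matrix Z3 Z3 F} (h : IsNilpotent A) : A * A * A = 0 := by
  have h1 := (Matrix.isNilpotent_charpoly_sub_pow_of_isNilpotent h).eq_zero
  have h2 := A.aeval_self_charpoly
  rw [sub_eq_zero.1 h1] at h2
  simpa [pow_succ, ZMod.card] using h2

theorem centr_regular {A Y : Matrix Z3 Z3 F} (h3 : A * A * A = 0) {v : Z3 → F} (hv : (A * A) *ᵥ v ≠ 0)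
    (hc : Y * A = A * Y) : ∃ c0 c1 c2 : F, Y = c0 • 1 + c1 • A + c2 • (A * A) := by
  let L : (Z3 → F) →ₗ[F] (Z3 → F) :=
    { toFun := fun c => c 0 • v + c 1 • (A *ᵥ v) + c 2 • ((A * A) *ᵥ v)
      map_add' := fun c d => by simp only [Pi.add_apply]; module
      map_smul' := fun r c => by simp only [Pi.smul_apply, smul_eq_mul, RingHom.id_apply]; module }
  have hL : ∀ c, L c = c 0 • v + c 1 • (A *ᵥ v) + c 2 • ((A * A) *ᵥ v) := fun c => rfl
  have hA3 : ∀ w, (A * A) *ᵥ (A *ᵥ w) = 0 := fun w => by rw [Matrix.mulVec_mulVec, h3, Matrix.zero_mulVec]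
  have hA4 : ∀ w, A *ᵥ ((A * A) *ᵥ w) = 0 := fun w => by rw [Matrix.mulVec_mulVec, ← Matrix.mul_assoc, h3, Matrix.zero_mulVec]
  have hinj : Function.Injective L := (injective_iff_map_eq_zero L).2 fun c hc => by
    rw [hL] at hc
    have e0 := congrArg ((A * A) *ᵥ ·) hc
    simp only [Matrix.mulVec_add, Matrix.mulVec_smul, hA3, Matrix.mulVec_zero, smul_zero, add_zero] at e0
    rw [show (A * A) *ᵥ ((A * A) *ᵥ v) = 0 by rw [Matrix.mulVec_mulVec, ← Matrix.mul_assoc, h3, Matrix.zero_mul, Matrix.zero_mulVec],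
      smul_zero, add_zero, smul_eq_zero] at e0
    have c0 := e0.resolve_right hv
    rw [c0, zero_smul, zero_add] at hc
    have e1 := congrArg (A *ᵥ ·) hc
    simp only [Matrix.mulVec_add, Matrix.mulVec_smul, hA4, Matrix.mulVec_zero, smul_zero, add_zero] at e1
    rw [Matrix.mulVec_mulVec, smul_eq_zero] at e1
    have c1 := e1.resolve_right hv
    rw [c1, zero_smul, zero_add, smul_eq_zero] at hc
    funext i
    rcases z3_cases i with rfl | rfl | rfl
    exacts [c0, c1, hc.resolve_right hv]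
  have hsurj := LinearMap.injective_iff_surjective.1 hinj
  obtain ⟨c, e⟩ := hsurj (Y *ᵥ v)
  refine ⟨c 0, c 1, c 2, Matrix.toLin'.injective (LinearMap.ext fun u => ?_)⟩
  obtain ⟨d, rfl⟩ := hsurj u
  set Z := c 0 • (1 : Matrix Z3 Z3 F) + c 1 • A + c 2 • (A * A) with hZ
  have hZv : Z *ᵥ v = Y *ᵥ v := by
    rw [← e, hL, hZ, Matrix.add_mulVec, Matrix.add_mulVec, Matrix.smul_mulVec, Matrix.smul_mulVec, Matrix.smul_mulVec,
      Matrix.one_mulVec]
  have hZA : Z * A = A * Z := by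
    rw [hZ]; simp only [Matrix.add_mul, Matrix.mul_add, Matrix.smul_mul, Matrix.mul_smul, Matrix.one_mul, Matrix.mul_one,
      Matrix.mul_assoc]
  simp only [Matrix.toLin'_apply, hL, Matrix.mulVec_add, Matrix.mulVec_smul, Matrix.mulVec_mulVec]
  rw [hc, ← Matrix.mul_assoc Y, hc, Matrix.mul_assoc A Y, hc, hZA, ← Matrix.mul_assoc Z, hZA, Matrix.mul_assoc A Z, hZA]
  simp only [← Matrix.mulVec_mulVec, hZv]

/-- a group of order divisible by the square of the characteristic has a quadratic unipotent element -/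
theorem exists_sq (p : ℕ) [Fact p.Prime] [CharP F p] (hnat : ∀ r : F, ∃ n : ℕ, (n : F) = r) (hp : 5 ≤ p)
    {P : Subgroup (GL Z3 F)} (hP : IsPGroup p P) (hcard : ¬ Nat.card P ≤ p) :
    ∃ g ∈ P, g ≠ 1 ∧ ((g : Matrix Z3 Z3 F) - 1) * ((g : Matrix Z3 Z3 F) - 1) = 0 := by
  by_contra hno
  push Not at hno
  obtain ⟨k, hk⟩ := IsPGroup.iff_card.1 hP
  have hk2 : 2 ≤ k := by
    by_contra hlt
    exact hcard (by rw [hk]; calc p ^ k ≤ p ^ 1 := Nat.pow_le_pow_right (Fact.out : p.Prime).pos (by omega)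
                                 _ = p := pow_one p)
  obtain ⟨Q, hQ⟩ := Sylow.exists_subgroup_card_pow_prime p (G := P) (n := 2) (hk ▸ pow_dvd_pow p hk2)
  haveI := IsPGroup.isMulCommutative_of_card_eq_prime_sq hQ
  have hnil : ∀ x ∈ P, IsNilpotent ((x : Matrix Z3 Z3 F) - 1) := fun x hx => by
    obtain ⟨j, hj⟩ := hP ⟨x, hx⟩
    refine ⟨p ^ j, ?_⟩
    rw [sub_pow_char_pow_of_commute p j (Commute.one_right _), one_pow, ← Units.val_pow_eq_pow_val,
      show x ^ p ^ j = 1 from congrArg Subtype.val hj, Units.val_one, sub_self]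
  have hxp : ∀ x ∈ P, x ^ p = 1 := fun x hx => Units.ext (sub_eq_zero.1 (by
    rw [Units.val_pow_eq_pow_val, Units.val_one, ← one_pow (M := Matrix Z3 Z3 F) p,
      ← sub_pow_char_of_commute p (Commute.one_right _)]
    obtain ⟨i, hi⟩ : ∃ i, p = 3 + i := ⟨p - 3, by omega⟩
    rw [hi, pow_add, pow_succ, pow_two, cube_zero (hnil x hx), Matrix.zero_mul]))
  haveI : Nontrivial Q := Finite.one_lt_card_iff_nontrivial.1 (by rw [hQ]; exact Nat.one_lt_pow two_ne_zero (Fact.out : p.Prime).one_lt)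
  obtain ⟨⟨⟨x, hxP⟩, hxQ⟩, hx1⟩ := exists_ne (1 : Q)
  obtain ⟨y0, hy0⟩ : ∃ y : Q, y ∉ Subgroup.zpowers (⟨⟨x, hxP⟩, hxQ⟩ : Q) := by
    by_contra h
    push Not at h
    have h1 : Nat.card Q ≤ p := by
      rw [← Subgroup.card_top, ← (eq_top_iff.2 fun z _ => h z : Subgroup.zpowers (⟨⟨x, hxP⟩, hxQ⟩ : Q) = ⊤),
        Nat.card_zpowers]
      exact Nat.le_of_dvd (Fact.out : p.Prime).pos (orderOf_dvd_of_pow_eq_one (Subtype.ext (Subtype.ext (hxp x hxP))))
    rw [hQ] at h1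
    exact absurd h1 (not_le.2 (by nlinarith [(Fact.out : p.Prime).one_lt]))
  obtain ⟨⟨y, hyP⟩, hyQ⟩ := y0
  have hxy : y * x = x * y := congrArg (fun z : Q => ((z : P) : GL Z3 F))
    (IsMulCommutative.is_comm.comm (⟨⟨y, hyP⟩, hyQ⟩ : Q) ⟨⟨x, hxP⟩, hxQ⟩)
  set A := (x : Matrix Z3 Z3 F) - 1 with hA
  have hxne : x ≠ 1 := fun e => hx1 (Subtype.ext (Subtype.ext e))
  obtain ⟨v, hv⟩ : ∃ v, (A * A) *ᵥ v ≠ 0 := by
    by_contra h
    push Not at h
    refine hno x hxP hxne (Matrix.toLin'.injective (LinearMap.ext fun u => ?_))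
    rw [Matrix.toLin'_apply, h, map_zero, LinearMap.zero_apply]
  have hA3 : A * A * A = 0 := cube_zero (hnil x hxP)
  obtain ⟨c0, c1, c2, hY⟩ := centr_regular hA3 hv (Y := (y : Matrix Z3 Z3 F) - 1) (by
    have e : (y : Matrix Z3 Z3 F) * x = x * y := by rw [← Units.val_mul, ← Units.val_mul, hxy]
    rw [hA]
    simp only [Matrix.mul_sub, Matrix.sub_mul, Matrix.one_mul, Matrix.mul_one, e]
    abel)
  have hc0 : c0 = 0 := by
    have h3 := cube_zero (hnil y hyP)
    have h4 := congrArg (fun B => B *ᵥ ((A * A) *ᵥ v)) h3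
    have hAw : A *ᵥ ((A * A) *ᵥ v) = 0 := by rw [Matrix.mulVec_mulVec, ← Matrix.mul_assoc, hA3, Matrix.zero_mulVec]
    have hw : ((y : Matrix Z3 Z3 F) - 1) *ᵥ ((A * A) *ᵥ v) = c0 • ((A * A) *ᵥ v) := by
      rw [hY, Matrix.add_mulVec, Matrix.add_mulVec, Matrix.smul_mulVec, Matrix.smul_mulVec, Matrix.smul_mulVec,
        Matrix.one_mulVec, hAw, show (A * A) *ᵥ ((A * A) *ᵥ v) = A *ᵥ (A *ᵥ ((A * A) *ᵥ v)) from
          (Matrix.mulVec_mulVec _ A A).symm, hAw, Matrix.mulVec_zero, smul_zero, smul_zero, add_zero, add_zero]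
    rw [← Matrix.mulVec_mulVec _ _ ((y : Matrix Z3 Z3 F) - 1), ← Matrix.mulVec_mulVec _ ((y : Matrix Z3 Z3 F) - 1)] at h4
    rw [hw, Matrix.mulVec_smul, hw, smul_smul, Matrix.mulVec_smul, hw, smul_smul, Matrix.zero_mulVec, smul_eq_zero] at h4
    simpa using h4.resolve_right hv
  obtain ⟨n, hn⟩ := hnat c1
  have hpow : ∀ m : ℕ, ∃ e : F, ((x ^ m : GL Z3 F) : Matrix Z3 Z3 F) = 1 + (m : F) • A + e • (A * A) := by
    intro m
    induction m with
    | zero => exact ⟨0, by simp⟩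
    | succ m ih =>
      obtain ⟨e, he⟩ := ih
      refine ⟨e + m, ?_⟩
      rw [pow_succ, Units.val_mul, he, show (x : Matrix Z3 Z3 F) = 1 + A by rw [hA]; abel, Nat.cast_succ]
      simp only [Matrix.add_mul, Matrix.mul_add, Matrix.smul_mul, Matrix.one_mul, Matrix.mul_one, hA3, smul_zero, add_zero]
      module
  obtain ⟨e, he⟩ := hpow n
  set g := y * (x ^ n)⁻¹ with hg
  have hgP : g ∈ P := mul_mem hyP (inv_mem (pow_mem hxP n))
  refine hno g hgP (fun h => hy0 ?_) ?_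
  · have h2 : y = x ^ n := mul_inv_eq_one.1 h
    refine Subgroup.mem_zpowers_iff.2 ⟨n, Subtype.ext (Subtype.ext ?_)⟩
    simp [h2]
  · have hgA : (g : Matrix Z3 Z3 F) * A = A * g := by
      have h1 : g * x = x * g := by
        rw [hg, mul_assoc, ((Commute.pow_self x n).inv_left).eq, ← mul_assoc, hxy, mul_assoc]
      rw [hA, Matrix.mul_sub, Matrix.sub_mul, ← Units.val_mul, ← Units.val_mul, h1, Matrix.mul_one, Matrix.one_mul]
    have h1 : ((g : Matrix Z3 Z3 F) - 1) * ((x ^ n : GL Z3 F) : Matrix Z3 Z3 F) = (c2 - e) • (A * A) := by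
      rw [Matrix.sub_mul, Matrix.one_mul, ← Units.val_mul, hg, inv_mul_cancel_right,
        show (y : Matrix Z3 Z3 F) = 1 + (c1 • A + c2 • (A * A)) by
          rw [← sub_add_cancel (y : Matrix Z3 Z3 F) 1, hY, hc0, zero_smul, zero_add, add_comm], he, hn]
      module
    have h2 : (g : Matrix Z3 Z3 F) - 1 = (c2 - e) • (A * A) * ((x ^ n)⁻¹ : GL Z3 F) := by
      rw [← h1, Matrix.mul_assoc, ← Units.val_mul, mul_inv_cancel, Units.val_one, Matrix.mul_one]
    have hcom : (((x ^ n)⁻¹ : GL Z3 F) : Matrix Z3 Z3 F) * A = A * ((x ^ n)⁻¹ : GL Z3 F) := by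
      rw [hA, Matrix.mul_sub, Matrix.sub_mul, ← Units.val_mul, ← Units.val_mul, ((Commute.pow_self x n).inv_left).eq,
        Matrix.mul_one, Matrix.one_mul]
    rw [h2]
    simp only [Matrix.smul_mul, Matrix.mul_smul]
    rw [show A * A * ((x ^ n)⁻¹ : GL Z3 F) * (A * A * ((x ^ n)⁻¹ : GL Z3 F)) =
      A * A * (((x ^ n)⁻¹ : GL Z3 F) * A) * (A * ((x ^ n)⁻¹ : GL Z3 F)) by simp only [Matrix.mul_assoc], hcom,
      ← Matrix.mul_assoc (A * A) A, hA3]
    simp

namespace Root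

variable (K : Root F)

/-- the alternative from the case without quadratic unipotent elements -/
theorem altSL_of_core {p : ℕ} (hp : p.Prime) (hF : Fintype.card F = p) (h5 : 5 ≤ p)
    (core : ∀ M : Subgroup (GL Z3 F), (∀ g ∈ M, (g : Matrix Z3 Z3 F).det = 1) → (∀ a b, K.W a b ∈ M) →
      (T : GL Z3 F) ∈ M → K.Fr ∈ M → K.Dg 1 * K.Fr * (K.Dg 1)⁻¹ ∈ M →
      (∀ g ∈ M, ((g : Matrix Z3 Z3 F) - 1) * ((g : Matrix Z3 Z3 F) - 1) = 0 → g = 1) →
      (∀ P : Subgroup (GL Z3 F), P ≤ M → IsPGroup p P → Nat.card P ≤ p) → ∀ g ∈ M, K.Nor g) : K.AltSL := by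
  intro M hsl hW hT hFr hFp
  haveI := Fact.mk hp
  haveI : CharP F p := charP_of_card_eq_prime hF
  have hnat := exists_natCast hp hF
  by_cases hq : ∀ g ∈ M, ((g : Matrix Z3 Z3 F) - 1) * ((g : Matrix Z3 Z3 F) - 1) = 0 → g = 1
  · refine Or.inl (core M (fun g hg => mem_sl.1 (hsl hg)) hW hT hFr hFp hq fun P hPM hP => ?_)
    by_contra hgt
    obtain ⟨g, hg, hg1, hg2⟩ := exists_sq p hnat h5 hP hgt
    exact hg1 (hq g (hPM hg) hg2)
  push Not at hq
  obtain ⟨g, hg, hg2, hg1⟩ := hq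
  refine Or.inr fun s => ?_
  set M' : Subgroup (Matrix.SpecialLinearGroup Z3 F) := M.comap Matrix.SpecialLinearGroup.toGL with hM'
  have hlift : ∀ x ∈ M, ∃ y ∈ M', (y : Matrix Z3 Z3 F) = (x : Matrix Z3 Z3 F) := fun x hx =>
    ⟨⟨(x : Matrix Z3 Z3 F), mem_sl.1 (hsl hx)⟩, by
      show Matrix.SpecialLinearGroup.toGL _ ∈ M
      rw [show Matrix.SpecialLinearGroup.toGL (⟨(x : Matrix Z3 Z3 F), mem_sl.1 (hsl hx)⟩ : Matrix.SpecialLinearGroup Z3 F) = x from Units.ext rfl]
      exact hx, rfl⟩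
  obtain ⟨y, hy, hyg⟩ := hlift g hg
  obtain ⟨a, φ, ha, hφ, hTV⟩ := tv_of_sq hy (fun e => hg1 (Units.ext (by rw [← hyg, e]; rfl))) (by rw [hyg]; exact hg2)
  have htop := top_of_tv hnat K (fun a b => hlift _ (hW a b)) ha hφ hTV
  show s ∈ M'
  rw [htop]; trivial

end Root

end Cfsg.Agent.ClassicalMax.SympThree
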