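import Cfsg.Agent.ClassicalMax.SU3.Hess.Model
import Cfsg.Agent.ClassicalMax.SympThree.Maximal

/-!
The model of the group of order 243 inside the standard unitary group of dimension nine: membership of block diagonal
matrices and of the generators, and the conditions on an overgroup.
-/

set_option autoImplicit false
set_option linter.unusedSectionVars false

namespace Cfsg.Agent.ClassicalMax.SympThree.Unit

open Matrix Cfsg.Geo
open Cfsg.Agent.ClassicalMax.SU3.Hess (ctr ctr_mul ctr_one ctr_smul U3 mem_U3 sigma_e)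

variable {F : Type*} [Field F] {σ : F →+* F}

theorem ctr_blk (f : Z3 → GL Z3 F) :
    ctr σ (blk f : Matrix I9 I9 F) = blockDiagonal fun i => ctr σ (f i : Matrix Z3 Z3 F) := by
  rw [blk_mat, ctr, blockDiagonal_map _ _ (map_zero σ), blockDiagonal_transpose]
  rfl

theorem blk_mem_iff {f : Z3 → GL Z3 F} : blk f ∈ U3 σ ↔ ∀ i, f i ∈ U3 σ := by
  rw [mem_U3, ctr_blk, blk_mat, ← blockDiagonal_mul, ← blockDiagonal_one, blockDiagonal_inj]
  exact ⟨fun h i => mem_U3.2 (congrFun h i), fun h => funext fun i => mem_U3.1 (h i)⟩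

theorem dgn_mem_iff {g : GL Z3 F} : dgn g ∈ U3 σ ↔ g ∈ U3 σ := by
  rw [dgn_eq, blk_mem_iff]
  exact ⟨fun h => h 0, fun h _ => h⟩

variable {ι : Type*} [Fintype ι] [DecidableEq ι]

theorem sc_mem_U {c : Fˣ} (hc : σ (c : F) * c = 1) : (sc c : GL ι F) ∈ U3 σ := by
  rw [mem_U3, sc_val, ctr_smul, ctr_one, smul_mul_smul_comm, one_mul, hc, one_smul]

theorem diag_mem {d : ι → F} {g : GL ι F} (hg : (g : Matrix ι ι F) = Matrix.diagonal d)
    (hd : ∀ i, σ (d i) * d i = 1) : g ∈ U3 σ := by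
  rw [mem_U3, hg, ctr, Matrix.diagonal_map (map_zero σ), Matrix.diagonal_transpose, Matrix.diagonal_mul_diagonal,
    ← Matrix.diagonal_one]
  exact congrArg _ (funext fun i => hd i)

theorem smon_mem (π : Equiv.Perm I9) (b : I9 → Bool) : (smon π b : GL I9 F) ∈ U3 σ := by
  have h : ctr σ ((smon π b : GL I9 F) : Matrix I9 I9 F) = (((smon π b : GL I9 F)⁻¹ : GL I9 F) : Matrix I9 I9 F) :=
    Matrix.ext fun z w => by
      show σ (((smon π b : GL I9 F) : Matrix I9 I9 F) w z) = if w = π z then (if b z then -1 else 1) else 0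
      rw [smon_val]
      by_cases h : w = π z
      · rw [if_pos h]; cases b z <;> simp
      · rw [if_neg h, map_zero]
  rw [mem_U3, h, ← Units.val_mul, inv_mul_cancel, Units.val_one]

theorem sw_mem : (sw : GL I9 F) ∈ U3 σ := smon_mem _ _

theorem yy_mem : (yy : GL I9 F) ∈ U3 σ := smon_mem _ _

theorem col_mem_iff {g : GL Z3 F} : col g ∈ U3 σ ↔ g ∈ U3 σ := by
  rw [← dgn_mem_iff (σ := σ), col_apply]
  refine ⟨fun h => ?_, fun h => mul_mem (mul_mem sw_mem h) sw_mem⟩
  have := mul_mem (mul_mem sw_mem h) (sw_mem (σ := σ))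
  rwa [show sw * (sw * dgn g * sw) * sw = sw * sw * dgn g * (sw * sw) by group, sw_sq, one_mul, mul_one] at this

variable (K : Root F) (hl : σ (K.l : F) = (K.l : F) * K.l)
include hl

theorem norm_e (a : Z3) : σ (K.e a : F) * K.e a = 1 := by
  rw [sigma_e K hl, ← Units.val_mul, ← K.e_add, neg_add_cancel, Root.eval0]

theorem P_mem : K.P ∈ U3 σ := diag_mem rfl fun _ => norm_e K hl _

theorem gens_le : K.gens ≤ U3 σ := by
  rw [Root.gens, Subgroup.closure_le]
  rintro g (rfl | rfl | rfl | rfl | rfl)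
  exacts [SU3.Hess.W_mem K hl 1 0, SU3.Hess.W_mem K hl 0 1, SU3.Hess.T_mem K hl, P_mem K hl, SU3.Hess.Fr_mem K hl]

variable [Fintype F]

/-- the conditions on an overgroup inside the unitary group -/
theorem over_of_le {H : Subgroup (GL I9 F)} (hle : K.NR ⊓ (U3 σ ⊓ specialLinear I9 F) ≤ H)
    (hsl : H ≤ specialLinear I9 F) : K.Over H where
  sl g hg := mem_sl.1 (hsl hg)
  const g hg := hle ⟨K.dgn_nor_mem (K.nor_gens hg), dgn_mem_iff.2 (gens_le K hl hg), mem_sl.2 (by
    rw [Root.det_W_dgn, K.det_gens hg])⟩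
  upow a b := hle ⟨K.upow_mem_NR a b, blk_mem_iff.2 fun _ => SU3.Hess.W_mem K hl _ _, mem_sl.2 (by
    rw [det_blk]; simp [K.det_W])⟩
  phase f := hle ⟨K.phase_mem_NR f, blk_mem_iff.2 fun _ => sc_mem_U (norm_e K hl _), mem_sl.2 (by
    rw [det_blk]
    refine Finset.prod_eq_one fun i _ => ?_
    rw [sc_val, Matrix.det_smul, Matrix.det_one, mul_one, ZMod.card, ← Units.val_pow_eq_pow_val, K.e_cube, Units.val_one])⟩
  shift := hle ⟨K.col_W_shift ▸ K.col_nor_mem (K.nor_W 0 1), yy_mem, mem_sl.2 (by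
    rw [← K.col_W_shift, Root.det_col', K.det_W, one_pow])⟩
  swap := hle ⟨K.sw_mem_NR, sw_mem, mem_sl.2 det_sw⟩

end Cfsg.Agent.ClassicalMax.SympThree.Unit
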