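import Cfsg.Agent.ClassicalMax.SympThree.UnitNor
import Cfsg.Agent.ClassicalMax.SympThree.Ascent

/-!
The field of order four: the centraliser of the reflection of one factor, and the dichotomy in dimension nine.
-/

set_option autoImplicit false
set_option linter.unusedSectionVars false

namespace Cfsg.Agent.ClassicalMax.SympThree.Unit

open Matrix Cfsg.Geo Cfsg.Agent.Classical
open Cfsg.Agent.ClassicalMax.SU3.Hess (ctr U3 mem_U3)

variable {F : Type*} [Field F] {σ : F →+* F}

/-- the action on the image of the reflection -/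
def As (k : GL I9 F) : Matrix Z3 Z3 F :=
  Matrix.of fun i j => (k : Matrix I9 I9 F) (1, i) (1, j) + (k : Matrix I9 I9 F) (1, i) (2, j)

/-- the action on the fixed space modulo the image -/
def Ds (k : GL I9 F) : Matrix Z3 Z3 F := Matrix.of fun i j => (k : Matrix I9 I9 F) (0, i) (0, j)

theorem z3sum {M : Type*} [AddCommMonoid M] (f : I9 → M) :
    ∑ y, f y = (∑ l, f (0, l)) + (∑ l, f (1, l)) + ∑ l, f (2, l) := by
  rw [Fintype.sum_prod_type, sum_z3]

variable (h2 : (2 : F) = 0)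
include h2

theorem add_self (x : F) : x + x = 0 := by linear_combination x * h2

theorem symm_of_comm {k : GL I9 F} (hk : k * dgn Root.T = dgn Root.T * k) (a b i j : Z3) :
    (k : Matrix I9 I9 F) (-a, i) (-b, j) = (k : Matrix I9 I9 F) (a, i) (b, j) := by
  have h := congrArg (fun m : GL I9 F => (m : Matrix I9 I9 F) (a, i) (-b, j)) hk
  simp only [Units.val_mul, Matrix.mul_apply] at h
  rw [Finset.sum_eq_single ((b, j) : I9), Finset.sum_eq_single ((-a, i) : I9)] at h
  · simpa [dgn_val, Root.T_val, neg_eq h2] using h.symm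
  · intro y _ hy
    rw [dgn_val, Root.T_val]
    by_cases h1 : i = y.2
    · rw [if_pos h1, if_neg (fun e => hy (Prod.ext (by rw [show a = -y.1 from e, neg_neg]) h1.symm)), zero_mul]
    · rw [if_neg h1, zero_mul]
  · exact fun h => absurd (Finset.mem_univ _) h
  · intro y _ hy
    rw [dgn_val, Root.T_val]
    by_cases h1 : y.2 = j
    · rw [if_pos h1, if_neg (fun e => hy (Prod.ext (by rw [show y.1 = -(-b) from e, neg_neg]) h1)), mul_zero]
    · rw [if_neg h1, mul_zero]
  · exact fun h => absurd (Finset.mem_univ _) h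

theorem As_mul {k k' : GL I9 F} (hk' : k' * dgn Root.T = dgn Root.T * k') : As (k * k') = As k * As k' := by
  ext i j
  have s := symm_of_comm h2 hk'
  simp only [As, Matrix.of_apply, Units.val_mul, Matrix.mul_apply, z3sum, ← Finset.sum_add_distrib]
  refine Finset.sum_congr rfl fun l _ => ?_
  have e01 : (k' : Matrix I9 I9 F) (0, l) (2, j) = (k' : Matrix I9 I9 F) (0, l) (1, j) := by
    simpa [show -(1 : Z3) = 2 by decide] using s 0 1 l j
  have e21 : (k' : Matrix I9 I9 F) (2, l) (1, j) = (k' : Matrix I9 I9 F) (1, l) (2, j) := by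
    simpa [show -(1 : Z3) = 2 by decide, show -(2 : Z3) = 1 by decide] using s 1 2 l j
  have e22 : (k' : Matrix I9 I9 F) (2, l) (2, j) = (k' : Matrix I9 I9 F) (1, l) (1, j) := by
    simpa [show -(1 : Z3) = 2 by decide] using s 1 1 l j
  rw [e01, e21, e22]
  linear_combination (k : Matrix I9 I9 F) (1, i) (0, l) * (k' : Matrix I9 I9 F) (0, l) (1, j) * h2

theorem Ds_mul {k k' : GL I9 F} (hk : k * dgn Root.T = dgn Root.T * k) (hk' : k' * dgn Root.T = dgn Root.T * k') :
    Ds (k * k') = Ds k * Ds k' := by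
  ext i j
  simp only [Ds, Matrix.of_apply, Units.val_mul, Matrix.mul_apply, z3sum, ← Finset.sum_add_distrib]
  refine Finset.sum_congr rfl fun l _ => ?_
  have e1 : (k : Matrix I9 I9 F) (0, i) (2, l) = (k : Matrix I9 I9 F) (0, i) (1, l) := by
    simpa [show -(1 : Z3) = 2 by decide] using symm_of_comm h2 hk 0 1 i l
  have e2 : (k' : Matrix I9 I9 F) (2, l) (0, j) = (k' : Matrix I9 I9 F) (1, l) (0, j) := by
    simpa [show -(1 : Z3) = 2 by decide] using symm_of_comm h2 hk' 1 0 l j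
  rw [e1, e2]
  linear_combination (k : Matrix I9 I9 F) (0, i) (1, l) * (k' : Matrix I9 I9 F) (1, l) (0, j) * h2

omit h2 in
theorem As_col (g : GL Z3 F) : As (col g) = (g : Matrix Z3 Z3 F) := by
  ext i j
  simp +decide [As, col_val]

omit h2 in
theorem Ds_col (g : GL Z3 F) : Ds (col g) = (g : Matrix Z3 Z3 F) := by
  ext i j
  simp [Ds, col_val]

/-- the centraliser of the reflection -/
abbrev CT (F : Type*) [Field F] : Subgroup (GL I9 F) := Subgroup.centralizer ({dgn Root.T} : Set (GL I9 F))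

omit h2 in
theorem col_mem_CT (g : GL Z3 F) : col g ∈ CT F :=
  Subgroup.mem_centralizer_singleton_iff.2 (Root.col_comm_T g)

/-- the action on the image as a homomorphism -/
def piA : CT F →* GL Z3 F :=
  MonoidHom.toHomUnits
    { toFun := fun k => As (k : GL I9 F)
      map_one' := by rw [Subgroup.coe_one, ← map_one (col (F := F)), As_col, Units.val_one]
      map_mul' := fun k k' => by
        rw [Subgroup.coe_mul, As_mul h2 (Subgroup.mem_centralizer_singleton_iff.1 k'.2)] }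

/-- the action on the fixed space modulo the image as a homomorphism -/
def piD : CT F →* GL Z3 F :=
  MonoidHom.toHomUnits
    { toFun := fun k => Ds (k : GL I9 F)
      map_one' := by rw [Subgroup.coe_one, ← map_one (col (F := F)), Ds_col, Units.val_one]
      map_mul' := fun k k' => by
        rw [Subgroup.coe_mul, Ds_mul h2 (Subgroup.mem_centralizer_singleton_iff.1 k.2)
          (Subgroup.mem_centralizer_singleton_iff.1 k'.2)] }

theorem piA_col (g : GL Z3 F) (h) : piA h2 ⟨col g, h⟩ = g := Units.ext (As_col g)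
theorem piD_col (g : GL Z3 F) (h) : piD h2 ⟨col g, h⟩ = g := Units.ext (Ds_col g)

theorem pi_mem {k : CT F} (hk : (k : GL I9 F) ∈ U3 σ) : piA h2 k ∈ U3 σ ∧ piD h2 k ∈ U3 σ := by
  have hs := symm_of_comm h2 (Subgroup.mem_centralizer_singleton_iff.1 k.2)
  have hu : ∀ z w, ∑ y, σ (((k : GL I9 F) : Matrix I9 I9 F) y z) * ((k : GL I9 F) : Matrix I9 I9 F) y w =
      (1 : Matrix I9 I9 F) z w := fun z w => by
    rw [← mem_U3.1 hk, Matrix.mul_apply]; rfl
  constructor
  · rw [mem_U3]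
    ext i j
    have h1 := hu (1, i) (1, j)
    have h2' := hu (2, i) (1, j)
    rw [z3sum] at h1 h2'
    rw [Matrix.mul_apply]
    show ∑ l, σ (As (k : GL I9 F) l i) * As (k : GL I9 F) l j = _
    have e : (1 : Matrix Z3 Z3 F) i j = (1 : Matrix I9 I9 F) (1, i) (1, j) + (1 : Matrix I9 I9 F) (2, i) (1, j) := by
      simp +decide [Matrix.one_apply]
    rw [e, ← h1, ← h2']
    simp only [← Finset.sum_add_distrib, As, Matrix.of_apply, map_add]
    refine Finset.sum_congr rfl fun l _ => ?_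
    have e01 : ((k : GL I9 F) : Matrix I9 I9 F) (0, l) (2, i) = ((k : GL I9 F) : Matrix I9 I9 F) (0, l) (1, i) := by
      simpa [show -(1 : Z3) = 2 by decide] using hs 0 1 l i
    have e22 : ((k : GL I9 F) : Matrix I9 I9 F) (2, l) (2, i) = ((k : GL I9 F) : Matrix I9 I9 F) (1, l) (1, i) := by
      simpa [show -(1 : Z3) = 2 by decide] using hs 1 1 l i
    have e21 : ∀ j, ((k : GL I9 F) : Matrix I9 I9 F) (2, l) (1, j) = ((k : GL I9 F) : Matrix I9 I9 F) (1, l) (2, j) := fun j => by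
      simpa [show -(1 : Z3) = 2 by decide, show -(2 : Z3) = 1 by decide] using hs 1 2 l j
    rw [e01, e22, e21, e21]
    linear_combination -(σ (((k : GL I9 F) : Matrix I9 I9 F) (0, l) (1, i)) * ((k : GL I9 F) : Matrix I9 I9 F) (0, l) (1, j)) * h2
  · rw [mem_U3]
    ext i j
    have h1 := hu (0, i) (0, j)
    rw [z3sum] at h1
    rw [Matrix.mul_apply]
    show ∑ l, σ (Ds (k : GL I9 F) l i) * Ds (k : GL I9 F) l j = _
    have e : (1 : Matrix Z3 Z3 F) i j = (1 : Matrix I9 I9 F) (0, i) (0, j) := by simp [Matrix.one_apply]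
    rw [e, ← h1]
    simp only [← Finset.sum_add_distrib, Ds, Matrix.of_apply]
    refine Finset.sum_congr rfl fun l _ => ?_
    have e20 : ∀ j, ((k : GL I9 F) : Matrix I9 I9 F) (2, l) (0, j) = ((k : GL I9 F) : Matrix I9 I9 F) (1, l) (0, j) := fun j => by
      simpa [show -(1 : Z3) = 2 by decide] using hs 1 0 l j
    rw [e20, e20]
    linear_combination -(σ (((k : GL I9 F) : Matrix I9 I9 F) (1, l) (0, i)) * ((k : GL I9 F) : Matrix I9 I9 F) (1, l) (0, j)) * h2

/-- the common kernel has exponent four -/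
theorem pow_four {k : CT F} (hA : piA h2 k = 1) (hD : piD h2 k = 1) : (k : GL I9 F) ^ 4 = 1 := by
  have hs := symm_of_comm h2 (Subgroup.mem_centralizer_singleton_iff.1 k.2)
  set N : Matrix I9 I9 F := ((k : GL I9 F) : Matrix I9 I9 F) - 1 with hN
  have hNs : ∀ a b i j, N (-a, i) (-b, j) = N (a, i) (b, j) := fun a b i j => by
    rw [hN, Matrix.sub_apply, Matrix.sub_apply, hs, Matrix.one_apply, Matrix.one_apply]
    simp only [Prod.mk.injEq, neg_inj]
  have hNA : ∀ i j, N (1, i) (1, j) + N (1, i) (2, j) = 0 := fun i j => by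
    have h := congrFun (congrFun (congrArg (fun m : GL Z3 F => (m : Matrix Z3 Z3 F)) hA) i) j
    change As (k : GL I9 F) i j = _ at h
    rw [As, Matrix.of_apply, Units.val_one, Matrix.one_apply] at h
    rw [hN, Matrix.sub_apply, Matrix.sub_apply, Matrix.one_apply, Matrix.one_apply]
    simp only [Prod.mk.injEq, true_and, show ¬ ((1 : Z3) = 2) by decide, false_and, if_false, sub_zero]
    rw [← h]; ring
  have hND : ∀ i j, N (0, i) (0, j) = 0 := fun i j => by
    have h := congrFun (congrFun (congrArg (fun m : GL Z3 F => (m : Matrix Z3 Z3 F)) hD) i) j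
    change Ds (k : GL I9 F) i j = _ at h
    rw [Ds, Matrix.of_apply, Units.val_one, Matrix.one_apply] at h
    rw [hN, Matrix.sub_apply, Matrix.one_apply, h]
    simp
  have e01 : ∀ i j, N (0, i) (2, j) = N (0, i) (1, j) := fun i j => by simpa [show -(1 : Z3) = 2 by decide] using hNs 0 1 i j
  have e20 : ∀ i j, N (2, i) (0, j) = N (1, i) (0, j) := fun i j => by simpa [show -(1 : Z3) = 2 by decide] using hNs 1 0 i j
  have e21 : ∀ i j, N (2, i) (1, j) = N (1, i) (2, j) := fun i j => by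
    simpa [show -(1 : Z3) = 2 by decide, show -(2 : Z3) = 1 by decide] using hNs 1 2 i j
  have e22 : ∀ i j, N (2, i) (2, j) = N (1, i) (1, j) := fun i j => by simpa [show -(1 : Z3) = 2 by decide] using hNs 1 1 i j
  have e12 : ∀ i j, N (1, i) (2, j) = N (1, i) (1, j) := fun i j => by
    linear_combination hNA i j - N (1, i) (1, j) * h2
  set X : Matrix Z3 Z3 F := Matrix.of fun i j => ∑ l, N (1, i) (0, l) * N (0, l) (1, j) with hX
  have hM : ∀ a b i j, (N * N) (a, i) (b, j) = if a ≠ 0 ∧ b ≠ 0 then X i j else 0 := fun a b i j => by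
    rw [Matrix.mul_apply, z3sum, hX]
    simp only [← Finset.sum_add_distrib]
    rcases z3_cases a with rfl | rfl | rfl <;> rcases z3_cases b with rfl | rfl | rfl <;>
      (first | rw [if_pos (by decide)] | rw [if_neg (by decide)]) <;>
      (try simp only [Matrix.of_apply]) <;>
      (first | (refine Finset.sum_congr rfl fun l _ => ?_) | (refine Finset.sum_eq_zero fun l _ => ?_)) <;>
      simp only [hND, e01, e20, e21, e22, e12, zero_mul, mul_zero, zero_add, add_zero] <;>
      simp only [add_assoc, add_self h2, add_zero]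
  have h4 : N * N * (N * N) = 0 := by
    refine Matrix.ext fun ⟨a, i⟩ ⟨b, j⟩ => ?_
    rw [Matrix.mul_apply, z3sum, Matrix.zero_apply]
    simp +decide only [hM, true_and, and_true, false_and, and_false, if_false, zero_mul, mul_zero, Finset.sum_const_zero, zero_add]
    exact add_self h2 _
  have hsq : ∀ M : Matrix I9 I9 F, (1 + M) * (1 + M) = 1 + M * M := fun M => by
    have h0 : M + M = 0 := Matrix.ext fun a b => add_self h2 _
    calc (1 + M) * (1 + M) = 1 + (M + M) + M * M := by noncomm_ring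
      _ = _ := by rw [h0, add_zero]
  refine Units.ext ?_
  rw [Units.val_pow_eq_pow_val, Units.val_one, show ((k : GL I9 F) : Matrix I9 I9 F) = 1 + N by rw [hN]; abel,
    show (4 : ℕ) = 2 * 2 from rfl, pow_mul, pow_two, pow_two, hsq, hsq, h4, add_zero]

omit h2 in
theorem W_cube' (K : Root F) (a b : Z3) : K.W a b ^ 3 = 1 := by
  have h : ∀ x : Z3, x + x + x = 0 := fun x => by rcases z3_cases x with rfl | rfl | rfl <;> rfl
  rw [pow_succ, pow_two, K.W_mul, mul_assoc, K.W_mul, ← mul_assoc, ← map_mul, ← K.e_add, h, h, K.W_zero, mul_one,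
    show -(a * b) + -(a * (b + b)) = -(a * b + a * b + a * b) by ring, h, neg_zero, Root.e_zero, map_one]

omit h2 in
theorem not_conj_jj (h2 : (2 : F) = 0) (g : GL I9 F) : g * dgn Root.T * g⁻¹ ≠ Root.jj := by
  intro e
  have hjj : ∀ z w : I9, ((Root.jj : GL I9 F) : Matrix I9 I9 F) z w = if z = -w then 1 else 0 := fun z w => by
    rw [Root.jj, Units.val_mul, Matrix.mul_apply, Finset.sum_eq_single ((z.1, -z.2) : I9)]
    · simp only [col_val, dgn_val, Root.T_val, neg_neg, if_true, neg_eq h2]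
      by_cases h : z = -w
      · subst h; simp
      · rw [if_neg h]
        by_cases h1 : -z.2 = w.2
        · rw [if_pos h1, if_neg (fun h' : z.1 = -w.1 => h (Prod.ext h' (by rw [Prod.snd_neg, ← h1, neg_neg]))), mul_zero]
        · rw [if_neg h1, mul_zero]
    · intro y _ hy
      rw [col_val]
      by_cases h1 : z.1 = y.1
      · rw [if_pos h1, Root.T_val, if_neg (fun h' => hy (Prod.ext h1.symm (by rw [h', neg_neg]))), zero_mul]
      · rw [if_neg h1, zero_mul]
    · simp
  let P : Matrix I9 Z3 F := Matrix.of fun z l => if z.1 ≠ 0 ∧ z.2 = l then 1 else 0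
  have hPQ : ((dgn Root.T : GL I9 F) : Matrix I9 I9 F) - 1 = P * Pᵀ := by
    refine Matrix.ext fun ⟨a, i⟩ ⟨b, j⟩ => ?_
    rw [Matrix.mul_apply, Matrix.sub_apply, dgn_val, Root.T_val, Matrix.one_apply, Finset.sum_eq_single i]
    · simp only [P, Matrix.transpose_apply, Matrix.of_apply]
      by_cases hij : i = j
      · subst hij
        rcases z3_cases a with rfl | rfl | rfl <;> rcases z3_cases b with rfl | rfl | rfl <;>
          simp +decide [neg_eq h2]
      · simp [hij, Ne.symm hij, Prod.ext_iff]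
    · intro l _ hl
      simp [P, Ne.symm hl]
    · simp
  have hj : ((Root.jj : GL I9 F) : Matrix I9 I9 F) - 1 =
      ((g : Matrix I9 I9 F) * P) * (Pᵀ * ((g⁻¹ : GL I9 F) : Matrix I9 I9 F)) := by
    rw [Matrix.mul_assoc, ← Matrix.mul_assoc P, ← hPQ, Matrix.sub_mul, Matrix.mul_sub, Matrix.one_mul, ← Units.val_mul,
      ← Units.val_mul, ← Units.val_mul, ← mul_assoc, e, mul_inv_cancel, Units.val_one]
  let r : Fin 4 → I9 := ![(1, 0), (0, 1), (1, 1), (1, 2)]
  have hsub : (((Root.jj : GL I9 F) : Matrix I9 I9 F) - 1).submatrix r r = 1 := by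
    ext x y
    rw [Matrix.submatrix_apply, Matrix.sub_apply, hjj, Matrix.one_apply, Matrix.one_apply]
    fin_cases x <;> fin_cases y <;> simp +decide [r, neg_eq h2]
  have hrank := congrArg Matrix.rank hsub
  rw [hj, Matrix.submatrix_mul _ _ r id r Function.bijective_id, Matrix.rank_one, Fintype.card_fin] at hrank
  have h3 := (Matrix.rank_mul_le_left (((g : Matrix I9 I9 F) * P).submatrix r id)
    ((Pᵀ * ((g⁻¹ : GL I9 F) : Matrix I9 I9 F)).submatrix id r)).trans (Matrix.rank_le_card_width _)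
  rw [hrank, ZMod.card] at h3
  omega

omit h2 in
theorem jj_ne_one (h2 : (2 : F) = 0) : (Root.jj : GL I9 F) ≠ 1 := fun e =>
  not_conj_jj h2 1 (by
    exfalso
    have h := congrArg (fun m : GL I9 F => (m : Matrix I9 I9 F) (1, 0) (2, 0)) e
    simp only [Root.jj, Units.val_mul, Matrix.mul_apply, z3sum, sum_z3, Units.val_one] at h
    simp +decide [col_val, dgn_val, Root.T_val, neg_eq h2] at h)

variable [Fintype F] (hσ : Herm.IsInvol σ) (hσ2 : ∀ x, σ x = x ^ 2) {K : Root F} (hl : σ (K.l : F) = (K.l : F) * K.l)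
  {H : Subgroup (GL I9 F)} (O : K.Over H) (hHU : H ≤ U3 σ) (hs : K.Small H)
include O hs

/-- the common kernel in the overgroup -/
def QH (H : Subgroup (GL I9 F)) : Subgroup (GL I9 F) :=
  H ⊓ ((piA h2).ker ⊓ (piD h2).ker).map (CT F).subtype

omit O hs in
theorem mem_QH {k : GL I9 F} : k ∈ QH h2 H ↔ ∃ hc : k ∈ CT F, k ∈ H ∧ piA h2 ⟨k, hc⟩ = 1 ∧ piD h2 ⟨k, hc⟩ = 1 := by
  constructor
  · rintro ⟨hH, ⟨x, hx⟩, ⟨ha, hd⟩, rfl⟩
    exact ⟨hx, hH, ha, hd⟩
  · rintro ⟨hc, hH, ha, hd⟩
    exact ⟨hH, ⟨k, hc⟩, ⟨ha, hd⟩, rfl⟩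

/-- the common kernel lies in the normaliser -/
theorem QH_le : QH h2 H ≤ K.NR := by
  have hX0 : (((1, 0), (0, 0)) : V4) ≠ 0 := fun e => absurd (congrArg (fun v : V4 => v.1.1) e) one_ne_zero
  have hp : IsPGroup 2 (QH h2 H) := fun x => by
    obtain ⟨hc, -, ha, hd⟩ := (mem_QH h2).1 x.2
    exact ⟨2, Subtype.ext (pow_four h2 (k := ⟨_, hc⟩) ha hd)⟩
  haveI : Fact (Nat.Prime 2) := ⟨Nat.prime_two⟩
  obtain ⟨m, hm⟩ := IsPGroup.iff_card.1 hp
  have hndvd : ¬ 3 ∣ Nat.card (QH h2 H) := fun h => by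
    rw [hm] at h
    exact absurd ((Nat.prime_dvd_prime_iff_eq Nat.prime_three Nat.prime_two).1 (Nat.prime_three.dvd_of_dvd_pow h)) (by norm_num)
  have hstab : ∀ (a b : Z3) (x : GL I9 F), x ∈ QH h2 H → col (K.W a b) * x * (col (K.W a b))⁻¹ ∈ QH h2 H := by
    intro a b x hx
    obtain ⟨hc, hH, ha, hd⟩ := (mem_QH h2).1 hx
    have hw := col_mem_CT (K.W a b)
    have hwH := O.col_gens_mem (K.W_exact_mem a b)
    refine (mem_QH h2).2 ⟨mul_mem (mul_mem hw hc) (inv_mem hw), mul_mem (mul_mem hwH hH) (inv_mem hwH), ?_, ?_⟩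
    · show piA h2 (⟨_, hw⟩ * ⟨x, hc⟩ * ⟨_, hw⟩⁻¹) = 1
      rw [map_mul, map_mul, map_inv, ha, mul_one, mul_inv_cancel]
    · show piD h2 (⟨_, hw⟩ * ⟨x, hc⟩ * ⟨_, hw⟩⁻¹) = 1
      rw [map_mul, map_mul, map_inv, hd, mul_one, mul_inv_cancel]
  let q := QuotientGroup.mk' (Zc F)
  have hq : ∀ c : Fˣ, q (sc c) = 1 := fun c => (QuotientGroup.eq_one_iff _).2 ⟨c, rfl⟩
  let φ : Multiplicative V4 →* GL I9 F ⧸ Zc F :=
    MonoidHom.mk' (fun v => q (K.El v.toAdd)) fun v w => by
      obtain ⟨c, hc⟩ := K.El_mul v.toAdd w.toAdd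
      rw [← map_mul q, hc, map_mul q, hq, one_mul]
      rfl
  have hnat : ∀ a b : Z3, φ (Multiplicative.ofAdd ((a, b), (0, 0))) ∈
      Subgroup.normalizer ((QH h2 H).map q : Set (GL I9 F ⧸ Zc F)) := fun a b => by
    haveI : Finite ↥((QH h2 H).map q : Set (GL I9 F ⧸ Zc F)) := Subtype.finite
    refine Subgroup.mem_normalizer_fintype ?_
    rintro _ ⟨x, hx, rfl⟩
    refine ⟨_, hstab a b x hx, ?_⟩
    rw [map_mul, map_mul, map_inv]
    simp [φ, q, Root.El, K.W_zero]
  have hcube : ∀ v : Multiplicative V4, φ v ^ 3 = 1 := fun v => by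
    rw [← map_pow, show v ^ 3 = 1 from congrArg Multiplicative.ofAdd ((by decide : ∀ v : V4, 3 • v = 0) v.toAdd), map_one]
  have hcard : (Nat.card ((QH h2 H).map q)) ∣ Nat.card (QH h2 H) := Subgroup.card_map_dvd _ _
  have hcent : ∀ v : V4, v ≠ 0 → ∀ y ∈ (QH h2 H).map q, y * φ (Multiplicative.ofAdd v) = φ (Multiplicative.ofAdd v) * y →
      y ∈ K.NR.map q := by
    rintro v hv _ ⟨x, hx, rfl⟩ hxy
    refine ⟨x, ?_, rfl⟩
    obtain ⟨c, hc'⟩ := (QuotientGroup.eq_one_iff _).1 (show q (x * K.El v * x⁻¹ * (K.El v)⁻¹) = 1 by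
      rw [map_mul, map_mul, map_mul, map_inv, map_inv]
      exact mul_inv_eq_one.2 (mul_inv_eq_iff_eq_mul.2 hxy))
    exact O.cent_mem hs ((mem_QH h2).1 hx).2.1 hv (mul_inv_eq_iff_eq_mul.1 hc'.symm)
  have hsub : (QH h2 H).map q ≤ K.NR.map q := by
    refine Coprime.le_of_centralizers_le (a := φ (Multiplicative.ofAdd ((1, 0), (0, 0))))
      (b := φ (Multiplicative.ofAdd ((0, 1), (0, 0)))) ((Commute.all _ _).map φ) (hnat 1 0) (hnat 0 1) Nat.prime_three
      (by rw [hcube]; exact one_mem _) (by rw [hcube]; exact one_mem _)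
      ((Nat.Prime.coprime_iff_not_dvd Nat.prime_three).2 fun h => hndvd (h.trans hcard)) ?_ ?_ ?_
    · refine Nat.Coprime.coprime_dvd_right hcard (Nat.Coprime.coprime_dvd_left ?_
        (Nat.Coprime.pow_left 4 ((Nat.Prime.coprime_iff_not_dvd Nat.prime_three).2 hndvd)))
      rw [show 3 ^ 4 = Nat.card (Multiplicative V4) by
        rw [Nat.card_congr Multiplicative.toAdd]; simp [Nat.card_prod, Nat.card_zmod]]
      refine (Subgroup.card_dvd_of_le (K := φ.range) ((Subgroup.closure_le _).2 ?_)).trans (Subgroup.card_range_dvd φ)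
      rintro x (rfl | rfl)
      exacts [⟨_, rfl⟩, ⟨_, rfl⟩]
    · rintro y ⟨hy, hc⟩
      exact hcent _ hX0 y hy (Subgroup.mem_centralizer_singleton_iff.1 hc)
    · intro n
      rintro y ⟨hy, hc⟩
      have h1 := Subgroup.mem_centralizer_singleton_iff.1 hc
      rw [← map_pow, ← map_mul] at h1
      refine hcent (Multiplicative.toAdd (Multiplicative.ofAdd (((1, 0), (0, 0)) : V4) ^ n *
        Multiplicative.ofAdd (((0, 1), (0, 0)) : V4))) (fun e => ?_) y hy h1
      simpa using congrArg (fun v : V4 => v.1.2) e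
  intro x hx
  obtain ⟨n, hn, e⟩ := hsub ⟨x, hx, rfl⟩
  obtain ⟨c, hc⟩ := QuotientGroup.eq.1 (show (n : GL I9 F ⧸ Zc F) = x from e)
  rw [show x = n * (n⁻¹ * x) by group, ← hc]
  exact mul_mem hn (K.sc_mem_NR c)

/-- the common kernel commutes with the other factor -/
theorem QH_comm {x : GL I9 F} (hx : x ∈ QH h2 H) (a b : Z3) : Commute x (col (K.W a b)) := by
  obtain ⟨hc, -, ha, -⟩ := (mem_QH h2).1 hx
  obtain ⟨c, p, q, e⟩ := K.factor_of_NR (QH_le h2 O hs hx) (Subgroup.mem_centralizer_singleton_iff.1 hc) a b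
  rw [← col_sc, ← map_mul] at e
  have h1 : piA h2 (⟨x, hc⟩ * ⟨_, col_mem_CT (K.W a b)⟩ * ⟨x, hc⟩⁻¹) = sc c * K.W p q := by
    rw [← piA_col h2 (sc c * K.W p q) (col_mem_CT _)]
    exact congrArg _ (Subtype.ext e)
  rw [map_mul, map_mul, map_inv, ha, one_mul, inv_one, mul_one, piA_col] at h1
  rw [← h1] at e
  exact mul_inv_eq_iff_eq_mul.1 e

include hσ hσ2 hl hHU

/-- the centraliser of the reflection lies in the normaliser -/
theorem cent_two {k : GL I9 F} (hkH : k ∈ H) (hkT : k * dgn Root.T = dgn Root.T * k) : k ∈ K.NR := by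
  let C := CT F
  let k' : C := ⟨k, Subgroup.mem_centralizer_singleton_iff.2 hkT⟩
  let cC : GL Z3 F → C := fun g => ⟨col g, col_mem_CT g⟩
  obtain ⟨hAU, hDU⟩ := pi_mem (σ := σ) h2 (k := k') (hHU hkH)
  have hAN := nor_U3 hσ hσ2 K h2 hl hAU
  have hDN := nor_U3 hσ hσ2 K h2 hl hDU
  set A := piA h2 k' with hA
  set D := piD h2 k' with hD
  have hcu : ∀ c : Fˣ, c ^ 3 = 1 := fun c => by
    obtain ⟨j, rfl⟩ := exists_e_unit hσ hσ2 K c
    exact K.e_cube j
  have hscH : ∀ c : Fˣ, (sc c : GL I9 F) ∈ H := fun c => by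
    obtain ⟨j, rfl⟩ := exists_e_unit hσ hσ2 K c
    rw [← blk_const_sc]; exact O.phase fun _ => j
  have hcolH : ∀ a b, col (K.W a b) ∈ H := fun a b => O.col_gens_mem (K.W_exact_mem a b)
  -- both actions give the same class
  have hsame : ∀ a b : Z3, ∃ j : Z3, D * K.W a b * D⁻¹ = sc (K.e j) * (A * K.W a b * A⁻¹) := by
    intro a b
    obtain ⟨c1, p, q, e1⟩ := hAN a b
    obtain ⟨c2, r, s, e2⟩ := hDN a b
    let y1 : C := k' * cC (K.W a b) * k'⁻¹ * (cC (K.W p q))⁻¹
    have hy1H : (y1 : GL I9 F) ∈ H := mul_mem (mul_mem (mul_mem hkH (hcolH a b)) (inv_mem hkH)) (inv_mem (hcolH p q))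
    have hA1 : piA h2 y1 = sc c1 := by
      simp only [y1, cC, map_mul, map_inv, piA_col, ← hA]
      rw [e1, mul_inv_cancel_right]
    obtain ⟨c3, hD1⟩ : ∃ c3 : Fˣ, piD h2 y1 = sc c3 * K.W (r - p) (s - q) := by
      simp only [y1, cC, map_mul, map_inv, piD_col, ← hD]
      rw [e2, K.W_inv, mul_assoc, ← mul_assoc (K.W r s), ← sc_comm, mul_assoc (sc _) (K.W r s), K.W_mul, ← mul_assoc,
        ← map_mul, ← mul_assoc, ← map_mul, ← sub_eq_add_neg, ← sub_eq_add_neg]
      exact ⟨_, rfl⟩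
    set x := K.W (r - p) (s - q) with hxd
    have hpow4 : ∀ (c : Fˣ) (g : GL Z3 F), g ^ 3 = 1 → (sc c * g) ^ 4 = sc c * g := fun c g hg => by
      rw [show (4 : ℕ) = 3 + 1 from rfl, pow_succ, Commute.mul_pow (show Commute (sc c) g from sc_comm _ _), ← map_pow,
        hcu, hg, map_one, one_mul, one_mul]
    set y2 := y1 ^ 4 with hy2
    have hy2H : (y2 : GL I9 F) ∈ H := by rw [hy2, Subgroup.coe_pow]; exact pow_mem hy1H 4
    have hA2 : piA h2 y2 = sc c1 := by
      rw [hy2, map_pow, hA1, ← mul_one (sc c1), hpow4 _ _ (one_pow 3)]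
    have hD2 : piD h2 y2 = sc c3 * x := by rw [hy2, map_pow, hD1, hpow4 _ _ (W_cube' K _ _)]
    have h13 : ((y1 ^ 3 : C) : GL I9 F) ^ 4 = 1 := by
      refine pow_four h2 ?_ ?_
      · rw [map_pow, hA1, ← map_pow, hcu, map_one]
      · rw [map_pow, hD1, Commute.mul_pow (show Commute (sc c3) x from sc_comm _ _), ← map_pow, hcu, map_one, one_mul,
          W_cube']
    by_cases hδ : r - p = 0 ∧ s - q = 0
    · obtain rfl : r = p := sub_eq_zero.1 hδ.1
      obtain rfl : s = q := sub_eq_zero.1 hδ.2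
      obtain ⟨j, hj⟩ := exists_e_unit hσ hσ2 K (c2 * c1⁻¹)
      exact ⟨j, by rw [e1, e2, ← mul_assoc, ← map_mul, ← hj, inv_mul_cancel_right]⟩
    exfalso
    set X : C := cC x with hX
    set cm := X * y2 * X⁻¹ * y2⁻¹ with hcm
    have hcQ : (cm : GL I9 F) ∈ QH h2 H := by
      refine (mem_QH h2).2 ⟨cm.2, mul_mem (mul_mem (mul_mem (hcolH _ _) hy2H) (inv_mem (hcolH _ _))) (inv_mem hy2H), ?_, ?_⟩
      · show piA h2 cm = 1
        rw [hcm, hX, map_mul, map_mul, map_mul, map_inv, map_inv, hA2, piA_col, sc_conj, mul_inv_cancel]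
      · show piD h2 cm = 1
        rw [hcm, hX, map_mul, map_mul, map_mul, map_inv, map_inv, hD2, piD_col, conj_sc_mul, mul_inv_cancel_right,
          mul_inv_cancel]
    have hcx : Commute (cm : GL I9 F) (col x) := QH_comm h2 O hs hcQ _ _
    have hx3 : (col x : GL I9 F) ^ 3 = 1 := by rw [← map_pow, W_cube', map_one]
    have hc4 : (cm : GL I9 F) ^ 4 = 1 := by
      obtain ⟨hc, -, ha, hd⟩ := (mem_QH h2).1 hcQ
      exact pow_four h2 (k := ⟨_, hc⟩) ha hd
    have hrel : col x * (y2 : GL I9 F) * (col x)⁻¹ = (cm : GL I9 F) * y2 := by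
      simp [hcm, hX, cC]
    have hiter : ∀ n : ℕ, col x ^ n * (y2 : GL I9 F) * (col x ^ n)⁻¹ = (cm : GL I9 F) ^ n * y2 := fun n => by
      induction n with
      | zero => simp
      | succ n ih =>
        rw [pow_succ (col x : GL I9 F) n, show col x ^ n * col x * (y2 : GL I9 F) * (col x ^ n * col x)⁻¹ =
          col x ^ n * (col x * (y2 : GL I9 F) * (col x)⁻¹) * (col x ^ n)⁻¹ by group, hrel,
          ← mul_assoc, ← (hcx.pow_right n).eq, mul_assoc, mul_assoc, ← mul_assoc (col x ^ n), ih, ← mul_assoc, ← pow_succ']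
    have hc1 : (cm : GL I9 F) = 1 := by
      have h := hiter 3
      rw [hx3, one_mul, inv_one, mul_one, eq_comm, mul_eq_right] at h
      rw [pow_succ, h, one_mul] at hc4
      exact hc4
    have hy2N : (y2 : GL I9 F) ∈ K.NR := by
      refine O.cent_mem hs hy2H (v := ((r - p, s - q), (0, 0))) (fun e => hδ ?_) (d := 1) ?_
      · simp only [Prod.ext_iff, Prod.fst_zero, Prod.snd_zero] at e
        exact e.1
      · rw [map_one, one_mul, show K.El ((r - p, s - q), (0, 0)) = col x by simp [Root.El, K.W_zero, hxd],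
          mul_inv_eq_iff_eq_mul]
        rw [hc1, one_mul, mul_inv_eq_iff_eq_mul] at hrel
        exact hrel.symm
    have hfix : ∀ a' b' : Z3, (r - p) * b' - a' * (s - q) = 0 := fun a' b' => by
      obtain ⟨u, p', q', e⟩ := K.factor_of_NR hy2N (Subgroup.mem_centralizer_singleton_iff.1 y2.2) a' b'
      rw [← col_sc, ← map_mul] at e
      have e' : y2 * cC (K.W a' b') * y2⁻¹ = cC (sc u * K.W p' q') := Subtype.ext e
      have hAe := congrArg (piA h2) e'
      have hDe := congrArg (piD h2) e'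
      simp only [map_mul (piA h2), map_inv (piA h2), hA2, cC, piA_col] at hAe
      simp only [map_mul (piD h2), map_inv (piD h2), hD2, cC, piD_col] at hDe
      rw [sc_comm, mul_inv_cancel_right] at hAe
      rw [sc_mul_conj, hxd, K.W_conj, ← hAe, mul_eq_right] at hDe
      refine K.e_inj ?_
      rw [Root.e_zero]
      have h00 := congrArg (fun m : GL Z3 F => (m : Matrix Z3 Z3 F) 0 0) hDe
      simp only [sc_val, Units.val_one, Matrix.smul_apply, Matrix.one_apply_eq, smul_eq_mul, mul_one] at h00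
      exact Units.ext h00
    exact hδ ⟨by simpa using hfix 0 1, by linear_combination -hfix 1 0⟩
  -- a class with the same image under both actions
  obtain ⟨a, b, hab, hEq⟩ : ∃ a b : Z3, (a ≠ 0 ∨ b ≠ 0) ∧ D * K.W a b * D⁻¹ = A * K.W a b * A⁻¹ := by
    obtain ⟨j1, h1⟩ := hsame 1 0
    obtain ⟨j2, h2'⟩ := hsame 0 1
    by_cases hj : j1 = 0
    · exact ⟨1, 0, Or.inl one_ne_zero, by rw [h1, hj, Root.e_zero, map_one, one_mul]⟩
    set m : Z3 := -(j2 * j1) with hm
    refine ⟨m, 1, Or.inr one_ne_zero, ?_⟩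
    have hmul : ∀ g : GL Z3 F, ∀ n : ℕ, g * K.W (n : Z3) 1 * g⁻¹ = (g * K.W 1 0 * g⁻¹) ^ n * (g * K.W 0 1 * g⁻¹) := fun g n => by
      have e : K.W (n : Z3) 1 = K.W 1 0 ^ n * K.W 0 1 := by
        induction n with
        | zero => rw [pow_zero, one_mul, Nat.cast_zero]
        | succ n ih =>
          rw [pow_succ', mul_assoc, ← ih, K.W_mul, mul_zero, neg_zero, Root.e_zero, map_one, one_mul, zero_add,
            Nat.cast_succ, add_comm]
      rw [conj_pow, e]; group
    rw [← ZMod.natCast_zmod_val m, hmul, hmul, h1, h2', Commute.mul_pow (show Commute (sc (K.e j1)) _ from sc_comm _ _),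
      mul_assoc, ← mul_assoc ((A * K.W 1 0 * A⁻¹) ^ m.val), ← sc_comm (K.e j2), mul_assoc (sc (K.e j2)), ← mul_assoc,
      ← map_pow, ← map_mul, show K.e j1 ^ m.val * K.e j2 = 1 by
        have hp : ∀ n : ℕ, K.e j1 ^ n = K.e ((n : Z3) * j1) := fun n => by
          induction n with
          | zero => simp [Root.e_zero]
          | succ n ih => rw [pow_succ, ih, ← K.e_add, Nat.cast_succ, add_mul, one_mul]
        rw [hp, ZMod.natCast_zmod_val, ← K.e_add, hm,
          (by decide : ∀ j1 j2 : Z3, j1 ≠ 0 → -(j2 * j1) * j1 + j2 = 0) j1 j2 hj, Root.e_zero],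
      map_one, one_mul]
  obtain ⟨c, p, q, e1⟩ := hAN a b
  have hpq : p ≠ 0 ∨ q ≠ 0 := by
    by_contra h
    push Not at h
    rw [h.1, h.2, K.W_zero, mul_one, mul_inv_eq_iff_eq_mul, sc_comm, mul_left_cancel_iff] at e1
    obtain ⟨ea, eb⟩ := K.W_inj (c := c) (a' := 0) (b' := 0) (by rw [e1, K.W_zero, mul_one])
    exact hab.elim (fun h => h ea) (fun h => h eb)
  -- the element of the overgroup maps one class exactly
  set g0 := k * col (K.W a b) * k⁻¹ * (col (sc c * K.W p q))⁻¹ with hg0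
  have hg0Q : g0 ∈ QH h2 H := by
    refine (mem_QH h2).2 ⟨(k' * cC (K.W a b) * k'⁻¹ * (cC (sc c * K.W p q))⁻¹).2,
      mul_mem (mul_mem (mul_mem hkH (hcolH a b)) (inv_mem hkH))
        (inv_mem (by rw [map_mul, col_sc]; exact mul_mem (hscH c) (hcolH p q))), ?_, ?_⟩
    · show piA h2 (k' * cC (K.W a b) * k'⁻¹ * (cC (sc c * K.W p q))⁻¹) = 1
      simp only [cC, map_mul (piA h2), map_inv (piA h2), piA_col, ← hA]
      rw [e1, mul_inv_cancel]
    · show piD h2 (k' * cC (K.W a b) * k'⁻¹ * (cC (sc c * K.W p q))⁻¹) = 1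
      simp only [cC, map_mul (piD h2), map_inv (piD h2), piD_col, ← hD]
      rw [hEq, e1, mul_inv_cancel]
  have hcomm : Commute g0 (col (sc c * K.W p q)) := by
    rw [map_mul, col_sc]
    exact Commute.mul_right (sc_comm c g0).symm (QH_comm h2 O hs hg0Q p q)
  have hg03 : g0 ^ 3 = 1 := by
    have h := congrArg (· ^ 3) (show g0 * col (sc c * K.W p q) = k * col (K.W a b) * k⁻¹ by rw [hg0]; group)
    simp only [hcomm.mul_pow, conj_pow, ← map_pow, W_cube', map_one,
      Commute.mul_pow (show Commute (sc c) (K.W p q) from sc_comm _ _), hcu, mul_one, mul_inv_cancel] at h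
    exact h
  have hg01 : g0 = 1 := by
    obtain ⟨hc, -, ha, hd⟩ := (mem_QH h2).1 hg0Q
    have h4 : g0 ^ 4 = 1 := pow_four h2 (k := ⟨_, hc⟩) ha hd
    rwa [pow_succ, hg03, one_mul] at h4
  obtain ⟨m1, hm1, happ1⟩ := exists_to_first p q hpq
  obtain ⟨m2, hm2, happ2⟩ := exists_from_first a b hab
  obtain ⟨g1, hg1, hi1⟩ := K.exists_img hm1
  obtain ⟨g2, hg2, hi2⟩ := K.exists_img hm2
  obtain ⟨d1, hd1⟩ := hi1 p q
  obtain ⟨d2, hd2⟩ := hi2 1 0
  rw [happ1] at hd1
  rw [happ2] at hd2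
  have hG : g2 * g1 ∈ K.gens := mul_mem hg2 hg1
  have hk2 : col (g2 * g1) * k ∈ K.NR := by
    refine O.cent_mem hs (mul_mem (O.col_gens_mem hG) hkH) (v := ((a, b), (0, 0)))
      (fun e => by simp only [Prod.ext_iff, Prod.fst_zero, Prod.snd_zero] at e
                   exact hab.elim (fun h => h e.1.1) (fun h => h e.1.2)) (d := c * d1 * d2) ?_
    rw [show K.El ((a, b), (0, 0)) = col (K.W a b) by simp [Root.El, K.W_zero],
      show col (g2 * g1) * k * col (K.W a b) * (col (g2 * g1) * k)⁻¹ =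
        col (g2 * g1) * (k * col (K.W a b) * k⁻¹) * (col (g2 * g1))⁻¹ by group,
      mul_inv_eq_one.1 hg01, ← map_inv, ← map_mul, ← map_mul, ← col_sc, ← map_mul]
    congr 1
    rw [conj_sc_mul, show g2 * g1 * K.W p q * (g2 * g1)⁻¹ = g2 * (g1 * K.W p q * g1⁻¹) * g2⁻¹ by group, hd1,
      conj_sc_mul, hd2, ← mul_assoc, ← mul_assoc, ← map_mul, ← map_mul]
  rw [show k = (col (g2 * g1))⁻¹ * (col (g2 * g1) * k) by group]
  exact mul_mem (inv_mem (K.col_nor_mem (K.nor_gens hG))) hk2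

omit hs in
/-- the dichotomy in dimension nine -/
theorem main_two : H ≤ K.NR ∨ ∀ g ∈ (U3 σ : Subgroup (GL I9 F)), (g : Matrix I9 I9 F).det = 1 → g ∈ H := by
  by_cases hT : blk (Pi.mulSingle (2 : Z3) Root.T) ∈ H
  · refine Or.inr fun g hg hd => top_of_block (q := 2) ?_ hσ2 O hHU (fun a b hab => good_of_T hσ hσ2 K h2 hl O hT hab) hg hd
    classical
    have hun : ∀ x : F, x = 0 ∨ ∃ j, x = K.e j := fun x => (eq_or_ne x 0).imp id fun hx => K.exists_e (cube_one hσ hσ2 x hx)
    refine le_antisymm ?_ ?_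
    · refine (Fintype.card_le_of_surjective (fun o : Option Z3 => o.elim (0 : F) fun j => (K.e j : F)) fun x => ?_).trans_eq
        (by rw [Fintype.card_option, ZMod.card]; norm_num)
      rcases hun x with rfl | ⟨j, rfl⟩
      exacts [⟨none, rfl⟩, ⟨some j, rfl⟩]
    · refine le_of_eq_of_le (by rw [Fintype.card_option, ZMod.card]; norm_num)
        (Fintype.card_le_of_injective (fun o : Option Z3 => o.elim (0 : F) fun j => (K.e j : F)) ?_)
      rintro (_ | i) (_ | j) h
      · rfl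
      · exact absurd h.symm (K.e j).ne_zero
      · exact absurd h (K.e i).ne_zero
      · exact congrArg some (K.e_val_inj h)
  · have hs : K.Small H := ⟨fun f hf i => nor_U3 hσ hσ2 K h2 hl (blk_mem_iff.1 (hHU hf) i), fun _ => hT⟩
    exact Or.inl (O.small_le_of hs (fun k hk hkT => cent_two h2 hσ hσ2 hl O hHU hs hk hkT) (not_conj_jj h2) (jj_ne_one h2))

end Cfsg.Agent.ClassicalMax.SympThree.Unit
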