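import Cfsg.Agent.ClassicalMax.SympThree.UnitOdd
import Cfsg.Agent.ClassicalMax.SympThree.UnitTwo

/-!
Normalisers of groups of order 243 of symplectic type are maximal in the special unitary group of dimension nine.
-/

set_option autoImplicit false
set_option linter.unusedSectionVars false
set_option linter.style.haveILetI false

namespace Cfsg.Agent.ClassicalMax.SympThree.Unit

open Matrix Cfsg.Geo Cfsg.Agent.Classical
open Cfsg.Agent.ClassicalMax.SU3.Hess (ctr ctr_mul U3 mem_U3)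

variable {F : Type*} [Field F] [Fintype F] {σ : F →+* F}

/-- the reflection of one block does not normalise the model -/
theorem single_T_not_mem (K : Root F) : blk (Pi.mulSingle (0 : Z3) Root.T) ∉ K.NR := by
  intro h
  obtain ⟨c, ⟨⟨p, q⟩, ⟨a, b⟩⟩, e⟩ := K.conj_class h ((0, 1), (0, 0))
  rw [show K.El ((0, 1), (0, 0)) = yy by simp [Root.El, K.W_zero, K.col_W_shift], mul_inv_eq_iff_eq_mul] at e
  set f : Z3 → GL Z3 F := Pi.mulSingle (0 : Z3) Root.T with hf
  have key : ∀ x : Z3, ((blk f * yy : GL I9 F) : Matrix I9 I9 F) (1, x + 1) (1, x) =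
      (f (x + 1) : Matrix Z3 Z3 F) 1 1 := fun x => by
    rw [Units.val_mul, Matrix.mul_apply, Finset.sum_eq_single ((1, x + 1) : I9)]
    · simp [yy, smon_val, sh, blk_val]
    · intro y _ hy
      rw [yy, smon_val, if_neg (fun e => hy (by rw [e]; rfl)), mul_zero]
    · simp
  have rhs : ∀ x : Z3, ((sc c * K.El ((p, q), (a, b)) * blk f : GL I9 F) : Matrix I9 I9 F) (1, x + 1) (1, x) =
      (c : F) * ((K.W p q : Matrix Z3 Z3 F) (x + 1) x * ∑ y : Z3, (K.W a b : Matrix Z3 Z3 F) 1 y * (f x : Matrix Z3 Z3 F) y 1) :=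
    fun x => by
    rw [Units.val_mul, val_sc_mul, Matrix.smul_mul, Matrix.smul_apply, smul_eq_mul, Matrix.mul_apply,
      Fintype.sum_prod_type]
    congr 1
    rw [Finset.mul_sum]
    refine Finset.sum_congr rfl fun y _ => ?_
    rw [Finset.sum_eq_single x]
    · rw [K.El_val, blk_val, if_pos rfl]; ring
    · intro j _ hj; rw [blk_val, if_neg hj, mul_zero]
    · simp
  have h1 := (key 1).symm.trans (by rw [e, rhs 1])
  have h0 := (key 0).symm.trans (by rw [e, rhs 0])
  rcases z3_cases b with rfl | rfl | rfl <;> rcases z3_cases q with rfl | rfl | rfl <;>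
    simp +decide [hf, Pi.mulSingle_apply, Root.T_val, Root.W_val, sum_z3] at h1 h0

variable {p : ℕ} (K : Root F) (hl : σ (K.l : F) = (K.l : F) * K.l) (hσ : Herm.IsInvol σ) (hσq : ∀ x, σ x = x ^ p)
  (hfix : Nat.card (Herm.fixField σ) = p) (hp : p.Prime) (hp3 : p % 3 = 2) [CharP F p]
include hl hσ hσq hfix hp hp3

/-- the normaliser of the model is maximal -/
theorem maximal_unit_model :
    IsMaximalIn (U3 σ ⊓ specialLinear I9 F) (K.NR ⊓ (U3 σ ⊓ specialLinear I9 F)) := by
  haveI : Fact p.Prime := ⟨hp⟩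
  have hT : blk (Pi.mulSingle (0 : Z3) Root.T) ∈ U3 σ ⊓ specialLinear I9 F := by
    refine ⟨blk_mem_iff.2 fun i => ?_, mem_sl.2 ?_⟩
    · by_cases hi : i = 0
      · subst hi; rw [Pi.mulSingle_eq_same]; exact SU3.Hess.T_mem K hl
      · rw [Pi.mulSingle_eq_of_ne hi]; exact one_mem _
    · rw [det_blk, Finset.prod_eq_single (0 : Z3) (fun i _ hi => by rw [Pi.mulSingle_eq_of_ne hi]; simp) (by simp),
        Pi.mulSingle_eq_same, Root.det_T]
  refine ⟨lt_of_le_of_ne inf_le_right fun e => single_T_not_mem K ?_, fun H hle hH => ?_⟩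
  · rw [← e] at hT; exact hT.1
  have O := over_of_le K hl hle (hH.trans inf_le_right)
  have hd : H ≤ K.NR ∨ ∀ g ∈ (U3 σ : Subgroup (GL I9 F)), (g : Matrix I9 I9 F).det = 1 → g ∈ H := by
    by_cases hp2 : p = 2
    · subst hp2
      exact main_two (by exact_mod_cast CharP.cast_eq_zero F 2) hσ hσq hl O (hH.trans inf_le_left)
    · exact main_odd K hl hσ hσq hfix (by have := hp.two_le; omega) O (hH.trans inf_le_left)
  rcases hd with h | h
  · exact Or.inl (le_antisymm (le_inf h hH) hle)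
  · exact Or.inr (le_antisymm hH fun g hg => h g hg.1 (mem_sl.1 hg.2))

omit σ hl hσ hσq hfix in
/-- class six in the special unitary group of dimension nine -/
theorem maximal_unit_nine (hF : Fintype.card F = p ^ 2) (R : Subgroup (GL (Fin 9) F))
    (hsym : IsSymplecticTypeGroup 3 R) (habs : ActsAbsolutelyIrreducibly (matrixSet R))
    (hsim : R ≤ similarityGroup (Cfsg.hermForm 9 F p)) (hcard : Nat.card R = 243)
    (hz : Nat.card (Subgroup.center R) = 3) :
    IsMaximalIn (Cfsg.GU 9 F p ⊓ specialLinear (Fin 9) F)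
      (subgroupNormalizer R ⊓ (Cfsg.GU 9 F p ⊓ specialLinear (Fin 9) F)) := by
  classical
  obtain ⟨σ, hσq, hσ, hfix, -⟩ := exists_powHom hF
  have h3 : (3 : F) ≠ 0 := fun e => by
    have := (Nat.prime_dvd_prime_iff_eq hp Nat.prime_three).1 ((CharP.cast_eq_zero_iff F p 3).1 (by exact_mod_cast e))
    omega
  obtain ⟨l, hl⟩ : ∃ l : F, l * l + l + 1 = 0 := by
    obtain ⟨u, hu⟩ := exists_prime_orderOf_dvd_card (G := Fˣ) 3 (by
      rw [Fintype.card_units, hF]
      have h : p ^ 2 % 3 = 1 := by rw [Nat.pow_mod, hp3]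
      omega)
    refine ⟨u, ?_⟩
    have h1 : (u : F) ^ 3 = 1 := by rw [← Units.val_pow_eq_pow_val, ← hu, pow_orderOf_eq_one, Units.val_one]
    have hne : (u : F) - 1 ≠ 0 := fun h => by
      rw [show u = 1 from Units.ext (sub_eq_zero.1 h), orderOf_one] at hu
      norm_num at hu
    exact (mul_eq_zero.1 (show ((u : F) - 1) * ((u : F) * u + u + 1) = 0 by linear_combination h1)).resolve_left hne
  have hl0 : l ≠ 0 := fun h => by rw [h] at hl; simp at hl
  let K : Root F := ⟨Units.mk0 l hl0, hl, h3⟩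
  have hl3 : (K.l : F) ^ 3 = 1 := by rw [← Units.val_pow_eq_pow_val, K.cubeU, Units.val_one]
  have hσl : σ (K.l : F) = (K.l : F) * K.l := by
    rw [hσq, ← Nat.div_add_mod p 3, hp3, pow_add, pow_mul, hl3, one_pow, one_mul, pow_two]
  let e : Fin 9 ≃ I9 := (Fintype.equivFinOfCardEq (by rw [Fintype.card_prod, ZMod.card])).symm
  set E := glReindex (F := F) e with hE
  have hU9 : ∀ x : GL (Fin 9) F, x ∈ Cfsg.GU 9 F p ↔ E x ∈ U3 σ := fun x =>
    ((reindex_mem_iff e x).trans (SympType.UG_iff_GU hσq x)).symm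
  have hexp : Monoid.exponent R = 3 := hsym.exponent_eq.trans (by norm_num)
  have hB := hermB_isHerm (n := 9) hσ
  -- similarities of exponent three are isometries
  have hRU : ∀ g ∈ R, E g ∈ U3 σ := by
    intro g hg
    refine (reindex_mem_iff e g).2 ?_
    obtain ⟨μ, hμ⟩ := hsim hg
    have hμ' : ∀ x y, hermB 9 σ (g.1 *ᵥ x) (g.1 *ᵥ y) = (μ : F) * hermB 9 σ x y := fun x y => by
      rw [← hermForm_eq hσq, ← hermForm_eq hσq, hμ]
    have hfixμ : σ (μ : F) = μ := by
      have h := hμ' (Pi.single 0 1) (Pi.single 0 1)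
      rw [isON_single 9 0 0, if_pos rfl, mul_one] at h
      rw [← h, Herm.fix_self hB]
    have hg3 : (g.1 : Matrix (Fin 9) (Fin 9) F) * (g.1 * g.1) = 1 := by
      have h := congrArg Subtype.val (Monoid.pow_exponent_eq_one (⟨g, hg⟩ : R))
      rw [hexp, Subgroup.coe_pow, Subgroup.coe_one] at h
      rw [← Units.val_mul, ← Units.val_mul, ← pow_two, ← pow_succ', h, Units.val_one]
    have h3μ : (μ : F) * (μ * μ) = 1 := by
      have h := hμ' (g.1 *ᵥ (g.1 *ᵥ Pi.single 0 1)) (g.1 *ᵥ (g.1 *ᵥ Pi.single 0 1))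
      rw [hμ' (g.1 *ᵥ Pi.single 0 1), hμ' (Pi.single 0 1)] at h
      simp only [Matrix.mulVec_mulVec, hg3, Matrix.one_mulVec, isON_single (σ := σ) 9 0 0, if_pos, mul_one] at h
      exact h.symm
    have h2μ : (μ : F) * μ = μ := by
      conv_rhs => rw [← hfixμ, hσq, ← Nat.div_add_mod p 3, hp3, pow_add, pow_mul,
        show (μ : F) ^ 3 = 1 by rw [← h3μ]; ring, one_pow, one_mul, pow_two]
    have h1μ : (μ : F) = 1 := mul_right_cancel₀ μ.ne_zero (by rw [one_mul]; exact h2μ)
    exact (SU3.Hess.iso_iff_ctr _).1 fun x y => by rw [hμ', h1μ, one_mul]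
  obtain ⟨P, hP⟩ := (abs_reindex K e hsym habs hz hcard).exists_conj K
  set Φ := E.trans (MulAut.conj P) with hΦ
  have hΦR : R.map Φ.toMonoidHom = K.Om := by
    rw [← hP, Subgroup.map_map]; rfl
  have hval : ∀ x, Φ x = P * E x * P⁻¹ := fun x => rfl
  have hOmU : K.Om ≤ U3 σ := by
    refine (Subgroup.closure_le _).2 ?_
    rintro x ⟨⟨c, v, rfl⟩, hx3⟩
    rw [Commute.mul_pow (show Commute (sc c) (K.El v) from sc_comm _ _), K.El_cube, mul_one, ← map_pow] at hx3
    have h00 := congrArg (fun m : GL I9 F => (m : Matrix I9 I9 F) 0 0) hx3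
    simp only [sc_val, Units.val_one, Matrix.smul_apply, Matrix.one_apply_eq, smul_eq_mul, mul_one,
      Units.val_pow_eq_pow_val] at h00
    obtain ⟨k, hk⟩ := K.exists_e h00
    refine mul_mem (sc_mem_U (by rw [hk]; exact norm_e K hσl k)) (mul_mem ?_ ?_)
    · exact col_mem_iff.2 (SU3.Hess.W_mem K hσl _ _)
    · exact dgn_mem_iff.2 (SU3.Hess.W_mem K hσl _ _)
  -- the form in the frame is scalar
  set M : Matrix I9 I9 F := ctr σ (P : Matrix I9 I9 F) * (P : Matrix I9 I9 F) with hM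
  obtain ⟨c, hc⟩ := habs.2 (M.submatrix e e) (by
    rintro _ ⟨g, hg, rfl⟩
    have hy : Φ g ∈ U3 σ := hOmU (hΦR ▸ Subgroup.mem_map_of_mem Φ.toMonoidHom hg)
    have hx := mem_U3.1 (hRU g hg)
    have e1 : ctr σ (E g : Matrix I9 I9 F) * M * (E g : Matrix I9 I9 F) = M := by
      have e2 : (Φ g : Matrix I9 I9 F) * (P : Matrix I9 I9 F) = (P : Matrix I9 I9 F) * (E g : Matrix I9 I9 F) := by
        rw [← Units.val_mul, ← Units.val_mul, hval, inv_mul_cancel_right]
      calc ctr σ (E g : Matrix I9 I9 F) * M * (E g : Matrix I9 I9 F)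
          = ctr σ ((P : Matrix I9 I9 F) * (E g : Matrix I9 I9 F)) * ((P : Matrix I9 I9 F) * (E g : Matrix I9 I9 F)) := by
            rw [hM, ctr_mul]; simp only [Matrix.mul_assoc]
        _ = ctr σ (P : Matrix I9 I9 F) * (ctr σ (Φ g : Matrix I9 I9 F) * (Φ g : Matrix I9 I9 F)) * (P : Matrix I9 I9 F) := by
            rw [← e2, ctr_mul]; simp only [Matrix.mul_assoc]
        _ = M := by rw [mem_U3.1 hy, Matrix.mul_one, hM]
    have e3 : M * (E g : Matrix I9 I9 F) = (E g : Matrix I9 I9 F) * M := by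
      have hx' : (E g : Matrix I9 I9 F) * ctr σ (E g : Matrix I9 I9 F) = 1 := mul_eq_one_comm.1 hx
      conv_rhs => rw [← e1, ← Matrix.mul_assoc, ← Matrix.mul_assoc, hx', Matrix.one_mul]
    have hg' : (g : Matrix (Fin 9) (Fin 9) F) = (E g : Matrix I9 I9 F).submatrix e e := by
      ext a b
      show _ = (g : Matrix (Fin 9) (Fin 9) F) (e.symm (e a)) (e.symm (e b))
      rw [e.symm_apply_apply, e.symm_apply_apply]
    show M.submatrix e e * (g : Matrix (Fin 9) (Fin 9) F) = (g : Matrix (Fin 9) (Fin 9) F) * M.submatrix e e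
    rw [hg', Matrix.submatrix_mul_equiv, Matrix.submatrix_mul_equiv, e3])
  have hMc : M = c • (1 : Matrix I9 I9 F) := Matrix.ext fun a b => by
    have h := congrFun (congrFun hc (e.symm a)) (e.symm b)
    simpa [Matrix.one_apply] using h
  have hc0 : c ≠ 0 := fun h0 => by
    rw [h0, zero_smul, hM] at hMc
    have hu : IsUnit (ctr σ (P : Matrix I9 I9 F) * (P : Matrix I9 I9 F)).det := by
      have hG : IsUnit (P : Matrix I9 I9 F).det := (Matrix.isUnit_iff_isUnit_det _).1 P.isUnit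
      rw [Matrix.det_mul, ctr, Matrix.det_transpose, ← RingHom.mapMatrix_apply, ← RingHom.map_det]
      exact (hG.map σ).mul hG
    rw [hMc, Matrix.det_zero] at hu
    exact not_isUnit_zero hu
  have hPU : ∀ x : GL I9 F, P * x * P⁻¹ ∈ U3 σ ↔ x ∈ U3 σ := fun x => by
    have e2 : ctr σ (P : Matrix I9 I9 F) * (ctr σ ((P * x * P⁻¹ : GL I9 F) : Matrix I9 I9 F) *
        ((P * x * P⁻¹ : GL I9 F) : Matrix I9 I9 F)) * (P : Matrix I9 I9 F) =
        c • (ctr σ (x : Matrix I9 I9 F) * (x : Matrix I9 I9 F)) := by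
      have e3 : ((P * x * P⁻¹ : GL I9 F) : Matrix I9 I9 F) * (P : Matrix I9 I9 F) = (P : Matrix I9 I9 F) * (x : Matrix I9 I9 F) := by
        rw [← Units.val_mul, ← Units.val_mul, inv_mul_cancel_right]
      calc _ = ctr σ (((P * x * P⁻¹ : GL I9 F) : Matrix I9 I9 F) * (P : Matrix I9 I9 F)) *
            (((P * x * P⁻¹ : GL I9 F) : Matrix I9 I9 F) * (P : Matrix I9 I9 F)) := by
            rw [ctr_mul]; simp only [Matrix.mul_assoc]
        _ = ctr σ (x : Matrix I9 I9 F) * M * (x : Matrix I9 I9 F) := by rw [e3, ctr_mul, hM]; simp only [Matrix.mul_assoc]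
        _ = _ := by rw [hMc, Matrix.mul_smul, Matrix.mul_one, Matrix.smul_mul]
    rw [mem_U3, mem_U3]
    constructor
    · intro h
      rw [h, Matrix.mul_one, ← hM, hMc] at e2
      exact (smul_right_injective _ hc0 e2).symm
    · intro h
      rw [h, ← hMc, hM] at e2
      have hP' : IsUnit (ctr σ (P : Matrix I9 I9 F)) := by
        rw [Matrix.isUnit_iff_isUnit_det, ctr, Matrix.det_transpose, ← RingHom.mapMatrix_apply, ← RingHom.map_det]
        exact ((Matrix.isUnit_iff_isUnit_det _).1 P.isUnit).map σ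
      rw [Matrix.mul_assoc] at e2
      exact P.isUnit.mul_left_injective ((hP'.mul_right_injective e2).trans (Matrix.one_mul _).symm)
  have hN : (subgroupNormalizer R).map Φ.toMonoidHom = K.NR := by
    rw [subgroupNormalizer, ← map_normalizer_equiv, hΦR, K.normalizer_Om]
  have hS : (Cfsg.GU 9 F p ⊓ specialLinear (Fin 9) F).map Φ.toMonoidHom = U3 σ ⊓ specialLinear I9 F := by
    ext y
    obtain ⟨x, rfl⟩ := Φ.surjective y
    rw [Subgroup.mem_map_equiv, MulEquiv.symm_apply_apply, Subgroup.mem_inf, Subgroup.mem_inf, hU9, mem_sl, mem_sl, hval,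
      hPU, Units.val_mul, Units.val_mul, Matrix.det_units_conj]
    refine and_congr_right fun _ => ?_
    rw [show (E x : Matrix I9 I9 F).det = (x : Matrix (Fin 9) (Fin 9) F).det from
      Matrix.det_submatrix_equiv_self e.symm _]
  have key := maximal_unit_model K hσl hσ hσq hfix hp hp3
  rw [← hN, ← hS, ← Subgroup.map_inf _ _ _ Φ.injective] at key
  refine ⟨(Subgroup.map_lt_map_iff_of_injective Φ.injective).1 key.1, fun N h1 h2 => ?_⟩
  rcases key.2 _ (Subgroup.map_mono h1) (Subgroup.map_mono h2) with h | h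
  · exact Or.inl (Subgroup.map_injective Φ.injective h)
  · exact Or.inr (Subgroup.map_injective Φ.injective h)

end Cfsg.Agent.ClassicalMax.SympThree.Unit
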