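import Cfsg.Agent.ClassicalMax.SympThree.UnitBasic

/-!
Monomial matrices: the elements living on two points, and generation of all monomial matrices of determinant one from
those on two points of one block and the interchange of the two indices.
-/

set_option autoImplicit false
set_option linter.unusedSectionVars false

namespace Cfsg.Agent.ClassicalMax.SympThree.Unit

open Matrix Cfsg.Geo
open Cfsg.Agent.ClassicalMax.SU3.Hess (ctr U3 mem_U3)

variable {F : Type*} [Field F] {σ : F →+* F}

section

variable {ι : Type*} [Fintype ι] [DecidableEq ι]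

/-- monomial matrices -/
def mono (π : Equiv.Perm ι) (d : ι → Fˣ) : GL ι F where
  val := Matrix.of fun z w => if z = π w then (d w : F) else 0
  inv := Matrix.of fun z w => if w = π z then (((d z)⁻¹ : Fˣ) : F) else 0
  val_inv := by
    ext z w
    simp only [Matrix.mul_apply, Matrix.of_apply]
    rw [Finset.sum_eq_single (π.symm z)]
    · rw [if_pos (π.apply_symm_apply z).symm, π.apply_symm_apply, Matrix.one_apply]
      by_cases h : z = w
      · subst h; simp
      · rw [if_neg (Ne.symm h), mul_zero, if_neg h]
    · intro x _ hx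
      rw [if_neg (fun e => hx (by rw [e, π.symm_apply_apply])), zero_mul]
    · exact fun h => absurd (Finset.mem_univ _) h
  inv_val := by
    ext z w
    simp only [Matrix.mul_apply, Matrix.of_apply]
    rw [Finset.sum_eq_single (π z)]
    · rw [if_pos rfl, Matrix.one_apply]
      by_cases h : z = w
      · subst h; simp
      · rw [if_neg (fun e => h (π.injective e)), mul_zero, if_neg h]
    · intro x _ hx
      rw [if_neg hx, zero_mul]
    · exact fun h => absurd (Finset.mem_univ _) h

theorem mono_val (π : Equiv.Perm ι) (d : ι → Fˣ) (z w : ι) :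
    ((mono π d : GL ι F) : Matrix ι ι F) z w = if z = π w then (d w : F) else 0 := rfl

theorem mono_mul (π π' : Equiv.Perm ι) (d d' : ι → Fˣ) :
    (mono π d : GL ι F) * mono π' d' = mono (π * π') fun w => d (π' w) * d' w := Units.ext (Matrix.ext fun z w => by
  rw [Units.val_mul, Matrix.mul_apply, Finset.sum_eq_single (π' w)]
  · rw [mono_val, mono_val, mono_val, if_pos rfl, Equiv.Perm.mul_apply, Units.val_mul]
    by_cases h : z = π (π' w)
    · rw [if_pos h, if_pos h]
    · rw [if_neg h, if_neg h, zero_mul]
  · intro x _ hx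
    rw [mono_val (π := π'), if_neg hx, mul_zero]
  · exact fun h => absurd (Finset.mem_univ _) h)

theorem mono_one : (mono 1 (fun _ => 1) : GL ι F) = 1 := Units.ext (Matrix.ext fun z w => by
  rw [mono_val, Equiv.Perm.one_apply, Units.val_one, Units.val_one, Matrix.one_apply])

theorem det_mono (π : Equiv.Perm ι) (d : ι → Fˣ) :
    ((mono π d : GL ι F) : Matrix ι ι F).det = (Equiv.Perm.sign π : ℤ) * ∏ w, (d w : F) := by
  have h : ((mono π d : GL ι F) : Matrix ι ι F) = π⁻¹.permMatrix F * Matrix.diagonal fun w => (d w : F) := by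
    ext z w
    rw [mono_val, Matrix.mul_diagonal, Equiv.Perm.permMatrix, PEquiv.toMatrix_apply]
    simp only [Equiv.toPEquiv_apply, Option.mem_some_iff]
    by_cases h : z = π w
    · rw [if_pos h, if_pos (by rw [h]; simp), one_mul]
    · rw [if_neg h, if_neg (fun e => h (by rw [← e]; simp)), zero_mul]
  rw [h, Matrix.det_mul, Matrix.det_permutation, Matrix.det_diagonal, map_inv, Int.units_inv_eq_self]

theorem mono_mem_iff (π : Equiv.Perm ι) (d : ι → Fˣ) :
    (mono π d : GL ι F) ∈ U3 σ ↔ ∀ w, σ (d w : F) * d w = 1 := by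
  have h : ∀ z w, (ctr σ ((mono π d : GL ι F) : Matrix ι ι F) * ((mono π d : GL ι F) : Matrix ι ι F)) z w =
      if z = w then σ (d w : F) * d w else 0 := fun z w => by
    rw [Matrix.mul_apply, Finset.sum_eq_single (π z)]
    · show σ (((mono π d : GL ι F) : Matrix ι ι F) (π z) z) * _ = _
      rw [mono_val, mono_val, if_pos rfl]
      by_cases h : z = w
      · subst h; rw [if_pos rfl, if_pos rfl]
      · rw [if_neg (fun e => h (π.injective e)), if_neg h, mul_zero]
    · intro x _ hx
      show σ (((mono π d : GL ι F) : Matrix ι ι F) x z) * _ = _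
      rw [mono_val, if_neg hx, map_zero, zero_mul]
    · exact fun h => absurd (Finset.mem_univ _) h
  rw [mem_U3]
  constructor
  · intro e w
    have := congrFun (congrFun e w) w
    rwa [h, if_pos rfl, Matrix.one_apply_eq] at this
  · intro e
    ext z w
    rw [h, Matrix.one_apply, e]

/-- the diagonal element on two points -/
def pairD (a b : ι) (x : Fˣ) : GL ι F := mono 1 fun w => if w = a then x else if w = b then x⁻¹ else 1

/-- the signed interchange of two points -/
def pairS (a b : ι) : GL ι F := mono (Equiv.swap a b) fun w => if w = a then -1 else 1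

/-- the elements on two points lie in the subgroup -/
def Good (σ : F →+* F) (H : Subgroup (GL ι F)) (a b : ι) : Prop :=
  (∀ x : Fˣ, σ (x : F) * x = 1 → pairD a b x ∈ H) ∧ pairS a b ∈ H

theorem good_trans {H : Subgroup (GL ι F)} {a b x : ι} (hax : a ≠ x) (hab : a ≠ b) (hbx : b ≠ x)
    (h1 : Good σ H a x) (h2 : Good σ H b x) : Good σ H a b := by
  have hk : ∀ {g y z : GL ι F}, g ∈ H → y ∈ H → g * y = z * g → z ∈ H := fun {g y z} hg hy e => by
    have := mul_mem (mul_mem hg hy) (inv_mem hg)
    rwa [e, mul_inv_cancel_right] at this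
  refine ⟨fun t ht => hk h2.2 (h1.1 t ht) ?_, hk h2.2 h1.2 ?_⟩
  · rw [pairS, pairD, pairD, mono_mul, mono_mul, one_mul, mul_one]
    refine congrArg _ (funext fun w => ?_)
    rw [Equiv.Perm.one_apply]
    by_cases h1 : w = a
    · subst h1
      simp [Equiv.swap_apply_of_ne_of_ne hab hax, hab, hax]
    · by_cases h2 : w = b
      · subst h2
        simp [hbx, Ne.symm hax, Ne.symm hbx, Ne.symm hab]
      · by_cases h3 : w = x
        · subst h3
          simp [Ne.symm hax, Ne.symm hbx, Ne.symm hab]
        · simp [Equiv.swap_apply_of_ne_of_ne h2 h3, h1, h2, h3]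
  · rw [pairS, pairS, pairS, mono_mul, mono_mul]
    congr 1
    · ext w
      simp only [Equiv.Perm.mul_apply]
      by_cases h1 : w = a
      · subst h1; simp [Equiv.swap_apply_of_ne_of_ne hab hax]
      · by_cases h2 : w = b
        · subst h2; simp [Equiv.swap_apply_of_ne_of_ne (Ne.symm hab) hbx, Equiv.swap_apply_of_ne_of_ne (Ne.symm hax) (Ne.symm hbx)]
        · by_cases h3 : w = x
          · subst h3; simp [Equiv.swap_apply_of_ne_of_ne hab hax]
          · simp [Equiv.swap_apply_of_ne_of_ne h2 h3, Equiv.swap_apply_of_ne_of_ne h1 h3,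
              Equiv.swap_apply_of_ne_of_ne h1 h2]
    · funext w
      by_cases h1 : w = a
      · subst h1; simp [Equiv.swap_apply_of_ne_of_ne hab hax, hab, hax, Ne.symm hbx, Ne.symm hab, Ne.symm hax]
      · by_cases h2 : w = b
        · subst h2; simp [Equiv.swap_apply_of_ne_of_ne (Ne.symm hab) hbx, Ne.symm hab, hbx, Ne.symm hax, Ne.symm hbx]
        · by_cases h3 : w = x
          · subst h3; simp [Ne.symm hax, Ne.symm hbx, Ne.symm hab, Equiv.swap_apply_of_ne_of_ne hab hax, hab]
          · simp [Equiv.swap_apply_of_ne_of_ne h2 h3, Equiv.swap_apply_of_ne_of_ne h1 h3, h1, h2]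

theorem exists_mono {H : Subgroup (GL ι F)} (hg : ∀ a b : ι, a ≠ b → Good σ H a b) (π : Equiv.Perm ι) :
    ∃ e, mono π e ∈ H := by
  induction π using Equiv.Perm.swap_induction_on with
  | one => exact ⟨fun _ => 1, by rw [mono_one]; exact one_mem H⟩
  | swap_mul f a b hab ih =>
    obtain ⟨e, he⟩ := ih
    have := mul_mem (hg a b hab).2 he
    rw [pairS, mono_mul] at this
    exact ⟨_, this⟩

/-- the elements on two points generate the monomial matrices of determinant one -/
theorem mem_of_good [Nonempty ι] {H : Subgroup (GL ι F)} (hdet : ∀ g ∈ H, (g : Matrix ι ι F).det = 1)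
    (hU : H ≤ U3 σ) (hg : ∀ a b : ι, a ≠ b → Good σ H a b) (π : Equiv.Perm ι) (d : ι → Fˣ)
    (hd : ∀ w, σ (d w : F) * d w = 1) (h1 : ((Equiv.Perm.sign π : ℤ) : F) * ∏ w, (d w : F) = 1) : mono π d ∈ H := by
  classical
  obtain ⟨e, he⟩ := exists_mono hg π
  have hen : ∀ w, σ (e w : F) * e w = 1 := (mono_mem_iff π e).1 (hU he)
  have hed := hdet _ he
  rw [det_mono] at hed
  set r : ι → Fˣ := fun w => (e w)⁻¹ * d w with hr
  have hrn : ∀ w, σ (r w : F) * r w = 1 := fun w => by
    have h' := eq_inv_of_mul_eq_one_left (hen w)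
    rw [hr, Units.val_mul, map_mul, Units.val_inv_eq_inv_val, map_inv₀, h', inv_inv]
    have := hd w
    field_simp
    linear_combination this
  have hrp : ∏ w, r w = 1 := Units.ext (by
    rw [Units.coe_prod, Units.val_one]
    simp only [hr, Units.val_mul, Finset.prod_mul_distrib, Units.val_inv_eq_inv_val, Finset.prod_inv_distrib]
    have hs : ((Equiv.Perm.sign π : ℤ) : F) ≠ 0 := fun h => by rw [h, zero_mul] at h1; exact zero_ne_one h1
    rw [mul_left_cancel₀ hs (hed.trans h1.symm), inv_mul_cancel₀]
    exact Finset.prod_ne_zero_iff.2 fun w _ => (d w).ne_zero)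
  have hfin : ∀ s : Finset ι, ∀ o, o ∉ s →
      mono 1 (fun w => if w ∈ s then r w else if w = o then (∏ u ∈ s, r u)⁻¹ else 1) ∈ H := by
    intro s
    induction s using Finset.induction with
    | empty => intro o _; simpa [mono_one] using one_mem H
    | insert a s has ih =>
      intro o ho
      simp only [Finset.mem_insert, not_or] at ho
      have := mul_mem ((hg a o (Ne.symm ho.1)).1 (r a) (hrn a)) (ih o ho.2)
      rw [pairD, mono_mul, one_mul] at this
      convert this using 2
      funext w
      simp only [Equiv.Perm.one_apply, Finset.prod_insert has, Finset.mem_insert]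
      by_cases h1 : w = a
      · subst h1; simp [has, Ne.symm ho.1]
      · by_cases h2 : w ∈ s
        · simp [h1, h2, show w ≠ o from fun e => ho.2 (e ▸ h2)]
        · by_cases h3 : w = o
          · subst h3; simp [h1, h2, mul_comm]
          · simp [h1, h2, h3]
  obtain ⟨o⟩ := ‹Nonempty ι›
  have hr1 := hfin (Finset.univ.erase o) o (by simp)
  have := mul_mem he hr1
  rw [mono_mul, mul_one] at this
  convert this using 2
  funext w
  rw [Equiv.Perm.one_apply]
  by_cases h : w = o
  · subst h
    rw [if_neg (by simp), if_pos rfl]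
    have e2 : r w * ∏ u ∈ Finset.univ.erase w, r u = 1 := by
      rw [Finset.mul_prod_erase _ _ (Finset.mem_univ w), hrp]
    rw [← eq_inv_of_mul_eq_one_left e2, hr, mul_inv_cancel_left]
  · rw [if_pos (by simp [h]), hr, mul_inv_cancel_left]

end

end Cfsg.Agent.ClassicalMax.SympThree.Unit
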