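import Cfsg.Agent.ClassicalMax.SympThree.UnitTop
import Cfsg.Agent.ClassicalMax.SympThree.RS

/-!
The field of order four: every unitary matrix of dimension three normalises the group of order 27, and the reflection
of one block gives the elements on two points of that block.
-/

set_option autoImplicit false
set_option linter.unusedSectionVars false

namespace Cfsg.Agent.ClassicalMax.SympThree.Unit

open Matrix Cfsg.Geo Cfsg.Agent.Classical
open Cfsg.Agent.ClassicalMax.SU3.Hess (ctr U3 mem_U3)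

variable {F : Type*} [Field F] {σ : F →+* F}

theorem neg_eq (h2 : (2 : F) = 0) (x : F) : -x = x := by linear_combination -x * h2

variable (hσ : Herm.IsInvol σ) (hσ2 : ∀ x, σ x = x ^ 2)
include hσ hσ2

theorem cube_one (x : F) (hx : x ≠ 0) : x ^ 3 = 1 := by
  have h := hσ.invol x
  rw [hσ2, hσ2] at h
  exact mul_left_cancel₀ hx (by linear_combination h)

theorem norm_ne (x : F) (hx : x ≠ 0) : σ x * x = 1 := by
  rw [hσ2, ← pow_succ]; exact cube_one hσ hσ2 x hx

theorem exists_e_unit (K : Root F) (x : Fˣ) : ∃ k, x = K.e k := by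
  obtain ⟨k, hk⟩ := K.exists_e (cube_one hσ hσ2 _ x.ne_zero)
  exact ⟨k, Units.ext hk⟩

omit hσ hσ2

section diag

variable (K : Root F) (h2 : (2 : F) = 0)

theorem sc_mono (c : Fˣ) : (sc c : GL Z3 F) = mono 1 fun _ => c := Units.ext (Matrix.ext fun z w => by
  rw [sc_val, Matrix.smul_apply, Matrix.one_apply, mono_val, Equiv.Perm.one_apply, smul_eq_mul, mul_ite, mul_one, mul_zero])

theorem W_diag_mono (l : Z3) : K.W l 0 = mono 1 fun z => K.e (l * z) := Units.ext (Matrix.ext fun z w => by
  rw [Root.W_val, add_zero, mono_val, Equiv.Perm.one_apply]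
  by_cases h : z = w
  · subst h; simp
  · rw [if_neg h, if_neg h])

theorem P_pow_mono (n : ℕ) : K.P ^ n = mono 1 fun z => K.e ((n : Z3) * Root.ph z) := by
  have h : K.P = mono 1 fun z => K.e (Root.ph z) := Units.ext (Matrix.ext fun z w => by
    show Matrix.diagonal (fun z => (K.e (Root.ph z) : F)) z w = _
    rw [Matrix.diagonal_apply, mono_val, Equiv.Perm.one_apply]
    by_cases h : z = w
    · subst h; simp
    · rw [if_neg h, if_neg h])
  induction n with
  | zero =>
    rw [pow_zero, ← mono_one]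
    congr 1
    funext z
    simp [Root.e_zero]
  | succ n ih =>
    rw [pow_succ, ih, h, mono_mul, mul_one]
    congr 1
    funext z
    rw [Equiv.Perm.one_apply, ← K.e_add, Nat.cast_succ, add_mul, one_mul]

/-- a diagonal matrix of cube roots of unity -/
theorem diag_split (f : Z3 → Z3) : (mono 1 fun z => K.e (f z) : GL Z3 F) =
    sc (K.e (f 0)) * (K.W (f 1 - f 0) 0 * K.P ^ (f 0 + f 1 + f 2).val) := by
  rw [sc_mono, W_diag_mono, P_pow_mono, mono_mul, mono_mul, mul_one, mul_one]
  congr 1
  funext z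
  simp only [Equiv.Perm.one_apply, ← K.e_add, ZMod.natCast_zmod_val]
  congr 1
  have h3 : (3 : Z3) = 0 := rfl
  rcases z3_cases z with rfl | rfl | rfl
  · simp +decide [Root.ph]
  · simp +decide [Root.ph]
  · rw [show Root.ph 2 = 1 by decide]
    linear_combination -(f 1) * h3

theorem nor_pow {g : GL Z3 F} (hg : K.Nor g) (n : ℕ) : K.Nor (g ^ n) := by
  induction n with
  | zero => rw [pow_zero, ← map_one (sc (κ := Z3) (F := F))]; exact K.nor_sc 1
  | succ n ih => rw [pow_succ]; exact K.nor_mul ih hg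

theorem nor_diag (f : Z3 → Z3) : K.Nor (mono 1 fun z => K.e (f z)) := by
  rw [diag_split]
  exact K.nor_mul (K.nor_sc _) (K.nor_mul (K.nor_W _ _) (nor_pow K K.nor_P _))

include h2 in
theorem T_mono : (Root.T : GL Z3 F) = mono (Equiv.neg Z3) fun _ => 1 := Units.ext (Matrix.ext fun z w => by
  rw [Root.T_val, mono_val, Equiv.neg_apply, Units.val_one, neg_eq h2])

theorem W_shift_mono (b : Z3) : K.W 0 b = mono (Equiv.addRight b) fun _ => 1 := Units.ext (Matrix.ext fun z w => by
  rw [Root.W_val, mono_val, Equiv.coe_addRight, zero_mul, Root.eval0, Units.val_one])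

include h2 in
theorem nor_mono (π : Equiv.Perm Z3) (f : Z3 → Z3) : K.Nor (mono π fun z => K.e (f z)) := by
  obtain ⟨ε, b, hb⟩ := (by decide +kernel :
    ∀ π : Equiv.Perm Z3, ∃ ε : Bool, ∃ b : Z3, ∀ z, π z = (if ε then -z else z) + b) π
  have hW : K.Nor (mono (Equiv.addRight b) fun _ => 1) := W_shift_mono K b ▸ K.nor_W 0 b
  cases ε with
  | false =>
    have e : (mono π fun z => K.e (f z) : GL Z3 F) = mono (Equiv.addRight b) (fun _ => 1) * mono 1 fun z => K.e (f z) := by
      rw [mono_mul, mul_one]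
      congr 1
      · exact Equiv.ext fun z => by simpa using hb z
      · simp
    rw [e]
    exact K.nor_mul hW (nor_diag K f)
  | true =>
    have e : (mono π fun z => K.e (f z) : GL Z3 F) =
        mono (Equiv.addRight b) (fun _ => 1) * mono (Equiv.neg Z3) (fun _ => 1) * mono 1 fun z => K.e (f z) := by
      rw [mono_mul, mono_mul, mul_one]
      congr 1
      · exact Equiv.ext fun z => by simpa using hb z
      · simp
    rw [e]
    exact K.nor_mul (K.nor_mul hW (T_mono h2 ▸ K.nor_T)) (nor_diag K f)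

end diag

variable (K : Root F) (h2 : (2 : F) = 0) (hl : σ (K.l : F) = (K.l : F) * K.l)
include hσ hσ2 h2

theorem col_cases {g : GL Z3 F} (hg : g ∈ U3 σ) (j : Z3) : (∀ z, (g : Matrix Z3 Z3 F) z j ≠ 0) ∨
    ∃ r, (g : Matrix Z3 Z3 F) r j ≠ 0 ∧ ∀ z, z ≠ r → (g : Matrix Z3 Z3 F) z j = 0 := by
  have h := congrFun (congrFun (mem_U3.1 hg) j) j
  rw [Matrix.mul_apply, sum_z3, Matrix.one_apply_eq] at h
  simp only [ctr, Matrix.transpose_apply, Matrix.map_apply] at h
  have hn := norm_ne hσ hσ2
  have he : (1 : F) + 1 ≠ 1 := fun e => one_ne_zero (α := F) (by linear_combination e)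
  by_cases h0 : (g : Matrix Z3 Z3 F) 0 j = 0 <;> by_cases h1 : (g : Matrix Z3 Z3 F) 1 j = 0 <;>
    by_cases h3 : (g : Matrix Z3 Z3 F) 2 j = 0
  · simp [h0, h1, h3] at h
  · exact Or.inr ⟨2, h3, fun z hz => by rcases z3_cases z with rfl | rfl | rfl <;> first | assumption | exact absurd rfl hz⟩
  · exact Or.inr ⟨1, h1, fun z hz => by rcases z3_cases z with rfl | rfl | rfl <;> first | assumption | exact absurd rfl hz⟩
  · rw [h0, hn _ h1, hn _ h3, mul_zero, zero_add] at h; exact absurd h he
  · exact Or.inr ⟨0, h0, fun z hz => by rcases z3_cases z with rfl | rfl | rfl <;> first | assumption | exact absurd rfl hz⟩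
  · rw [h1, hn _ h0, hn _ h3, mul_zero, add_zero] at h; exact absurd h he
  · rw [h3, hn _ h0, hn _ h1, mul_zero, add_zero] at h; exact absurd h he
  · exact Or.inl fun z => by rcases z3_cases z with rfl | rfl | rfl <;> assumption

theorem mono_of_single {g : GL Z3 F} (hg : g ∈ U3 σ) {j0 r0 : Z3} (h0 : (g : Matrix Z3 Z3 F) r0 j0 ≠ 0)
    (hz : ∀ z, z ≠ r0 → (g : Matrix Z3 Z3 F) z j0 = 0) : K.Nor g := by
  classical
  have orth : ∀ j k, j ≠ k → ∀ r, (∀ z, z ≠ r → (g : Matrix Z3 Z3 F) z j = 0) → (g : Matrix Z3 Z3 F) r j ≠ 0 →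
      (g : Matrix Z3 Z3 F) r k = 0 := by
    intro j k hjk r hr hr0
    have h := congrFun (congrFun (mem_U3.1 hg) j) k
    rw [Matrix.mul_apply, Matrix.one_apply_ne hjk, Finset.sum_eq_single r] at h
    · refine (mul_eq_zero.1 h).resolve_left ?_
      simpa [ctr] using hr0
    · intro z _ hzr; simp [ctr, hr z hzr]
    · simp
  have hall : ∀ j, ∃ r, (g : Matrix Z3 Z3 F) r j ≠ 0 ∧ ∀ z, z ≠ r → (g : Matrix Z3 Z3 F) z j = 0 := fun j => by
    by_cases hj : j = j0
    · subst hj; exact ⟨r0, h0, hz⟩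
    · exact (col_cases hσ hσ2 h2 hg j).resolve_left fun h => h r0 (orth j0 j (Ne.symm hj) r0 hz h0)
  choose r hr hr' using hall
  have hinj : Function.Injective r := fun j k e => by
    by_contra hne
    exact hr k (e ▸ orth j k hne (r j) (hr' j) (hr j))
  choose f hf using fun w => exists_e_unit hσ hσ2 K (Units.mk0 _ (hr w))
  have e : g = mono (Equiv.ofBijective r (Finite.injective_iff_bijective.1 hinj)) fun w => K.e (f w) :=
    Units.ext (Matrix.ext fun z w => by
      rw [mono_val, Equiv.ofBijective_apply, ← hf, Units.val_mk0]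
      by_cases h : z = r w
      · rw [if_pos h, h]
      · rw [if_neg h, hr' w z h])
  rw [e]
  exact nor_mono K h2 _ f

include hl in
/-- every unitary matrix normalises -/
theorem nor_U3 {g : GL Z3 F} (hg : g ∈ U3 σ) : K.Nor g := by
  rcases col_cases hσ hσ2 h2 hg 0 with h | ⟨r, hr, hr'⟩
  · choose f hf using fun z => exists_e_unit hσ hσ2 K (Units.mk0 _ (h z))
    set D : GL Z3 F := mono 1 fun z => K.e (-f z) with hD
    have hDU : D ∈ U3 σ := (mono_mem_iff _ _).2 fun w => norm_e K hl _
    set x := K.Fr⁻¹ * (D * g) with hx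
    have hxU : x ∈ U3 σ := mul_mem (Subgroup.inv_mem _ (SU3.Hess.Fr_mem K hl)) (mul_mem hDU hg)
    have hcol : ∀ z, ((D * g : GL Z3 F) : Matrix Z3 Z3 F) z 0 = 1 := fun z => by
      rw [Units.val_mul, Matrix.mul_apply, Finset.sum_eq_single z]
      · rw [hD, mono_val, if_pos (Equiv.Perm.one_apply z).symm, show (g : Matrix Z3 Z3 F) z 0 = K.e (f z) by
          rw [← hf, Units.val_mk0], ← Units.val_mul, ← K.e_add, neg_add_cancel, Root.eval0]
      · intro y _ hy
        rw [hD, mono_val, if_neg (by rw [Equiv.Perm.one_apply]; exact Ne.symm hy), zero_mul]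
      · simp
    have hxz : ∀ z, (x : Matrix Z3 Z3 F) z 0 = (1 - (K.l : F)) * if z = 0 then 1 else 0 := fun z => by
      have e1 : (K.Fr : Matrix Z3 Z3 F) *ᵥ (fun w => (1 - (K.l : F)) * if w = 0 then 1 else 0) = fun _ => 1 := by
        funext y
        rw [Matrix.mulVec, dotProduct, sum_z3]
        simp +decide [Root.Fr_val, Root.e_zero, sub_ne_zero.2 K.ne_one.symm]
      have e2 := congrArg ((K.Fr⁻¹ : GL Z3 F) : Matrix Z3 Z3 F).mulVec e1
      rw [Matrix.mulVec_mulVec, ← Units.val_mul, inv_mul_cancel, Units.val_one, Matrix.one_mulVec] at e2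
      rw [congrFun e2 z, hx, Units.val_mul, Matrix.mul_apply, Matrix.mulVec, dotProduct]
      exact Finset.sum_congr rfl fun y _ => by rw [hcol]
    have hxN : K.Nor x := mono_of_single hσ hσ2 K h2 hxU (r0 := 0) (j0 := 0)
      (by rw [hxz, if_pos rfl, mul_one]; exact sub_ne_zero.2 K.ne_one.symm)
      (fun z hz => by rw [hxz, if_neg hz, mul_zero])
    rw [show g = D⁻¹ * (K.Fr * x) by rw [hx]; group]
    exact K.nor_mul (K.nor_inv (nor_diag K _)) (K.nor_mul K.nor_Fr hxN)
  · exact mono_of_single hσ hσ2 K h2 hg hr hr'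

include hl in
/-- the reflection of one block gives the elements on two points -/
theorem good_of_T {H : Subgroup (GL I9 F)} (O : K.Over H) (hT : blk (Pi.mulSingle (2 : Z3) Root.T) ∈ H)
    {a b : Z3} (hab : a ≠ b) : Good σ (blockAt H 2) a b := by
  have hconj : ∀ g ∈ K.gens, ∀ x ∈ blockAt H 2, g * x * g⁻¹ ∈ blockAt H 2 := fun g hg x hx => by
    rw [mem_blockAt] at hx ⊢
    have := mul_mem (mul_mem (O.const g hg) hx) (inv_mem (O.const g hg))
    rw [dgn_eq, ← map_inv, ← map_mul, ← map_mul] at this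
    convert this using 2
    funext i
    by_cases hi : i = 2
    · subst hi; simp
    · simp [hi]
  have hTm : (Root.T : GL Z3 F) ∈ blockAt H 2 := hT
  have hW : ∀ c d : Z3, sc (K.e (c * d)) * K.W c d ∈ blockAt H 2 := fun c d => by
    have h1 := mul_mem (hTm) (inv_mem (hconj _ (K.W_exact_mem c d) _ hTm))
    have e : (Root.T : GL Z3 F) * (K.W c d * Root.T * (K.W c d)⁻¹)⁻¹ = sc (K.e (c * d)) * K.W c d := by
      rw [show (Root.T : GL Z3 F) * (K.W c d * Root.T * (K.W c d)⁻¹)⁻¹ =
        Root.T * K.W c d * (Root.T : GL Z3 F)⁻¹ * (K.W c d)⁻¹ by group, K.T_conj, K.W_inv, ← mul_assoc,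
        ← sc_comm, mul_assoc, K.W_mul, ← mul_assoc, ← map_mul, ← K.e_add]
      have h3 : (3 : Z3) = 0 := rfl
      congr 2
      · congr 1; linear_combination -(c * d) * h3
      · linear_combination -c * h3
      · linear_combination -d * h3
    rwa [e] at h1
  have hW0 : ∀ l, K.W l 0 ∈ blockAt H 2 := fun l => by simpa [Root.e_zero] using hW l 0
  have hW1 : ∀ l, K.W 0 l ∈ blockAt H 2 := fun l => by simpa [Root.e_zero] using hW 0 l
  have he : ∀ k, (sc (K.e k) : GL Z3 F) ∈ blockAt H 2 := fun k => by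
    have h1 := mul_mem (hconj _ (K.W_exact_mem k 0) _ (hW1 1)) (inv_mem (hW1 1))
    rwa [K.W_conj, mul_inv_cancel_right, show k * 1 - 0 * 0 = k by ring] at h1
  constructor
  · intro x _
    obtain ⟨u, rfl⟩ := exists_e_unit hσ hσ2 K x
    have e : (pairD a b (K.e u) : GL Z3 F) = mono 1 fun z => K.e (if z = a then u else if z = b then -u else 0) := by
      rw [pairD]
      congr 1
      funext z
      split_ifs
      · rfl
      · rw [K.e_neg]
      · rw [Root.e_zero]
    rw [e, diag_split, show (if (0 : Z3) = a then u else if 0 = b then -u else 0) + (if (1 : Z3) = a then u else if 1 = b then -u else 0) +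
      (if (2 : Z3) = a then u else if 2 = b then -u else 0) = 0 from
        (by decide : ∀ a b u : Z3, a ≠ b → (if (0 : Z3) = a then u else if 0 = b then -u else 0) +
          (if (1 : Z3) = a then u else if 1 = b then -u else 0) + (if (2 : Z3) = a then u else if 2 = b then -u else 0) = 0) a b u hab,
      ZMod.val_zero, pow_zero, mul_one]
    exact mul_mem (he _) (hW0 _)
  · have e : (pairS a b : GL Z3 F) = K.W 0 (-(a + b)) * Root.T * (K.W 0 (-(a + b)))⁻¹ := by
      rw [W_shift_mono, T_mono h2, eq_mul_inv_iff_mul_eq, pairS, mono_mul, mono_mul]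
      congr 1
      · exact (by decide +kernel : ∀ a b : Z3, a ≠ b →
          Equiv.swap a b * Equiv.addRight (-(a + b)) = Equiv.addRight (-(a + b)) * Equiv.neg Z3) a b hab
      · funext w
        split_ifs
        · exact Units.ext (by simp [neg_eq h2])
        · rfl
    rw [e]
    exact hconj _ (K.W_exact_mem _ _) _ hTm

end Cfsg.Agent.ClassicalMax.SympThree.Unit
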