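import Cfsg.Agent.ClassicalMax.SympThree.Full

/-!
A block of the centraliser of the phase full up to scalars for a simple ambient pair gives every block on its own.
-/

set_option autoImplicit false

namespace Cfsg.Agent.ClassicalMax.SympThree

open Matrix

variable {F : Type*} [Field F]

namespace Root

variable {K : Root F}

/-- the Fourier matrix does not commute modulo scalars with a diagonal Weyl matrix -/
theorem comm_Fr_not_scalar {k : Z3} (hk : k ≠ 0) (c : F) :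
    ((K.W k 0 * K.Fr * (K.W k 0)⁻¹ * K.Fr⁻¹ : GL Z3 F) : Matrix Z3 Z3 F) ≠ c • 1 := by
  intro h
  have e1 : K.W k 0 * K.Fr * (K.W k 0)⁻¹ * K.Fr⁻¹ =
      sc (K.e (-(k * 0)) * K.e (-k * 0) * K.e (-(-0 * 0))) * K.W (k + -0) (0 + -(-k)) := by
    rw [K.W_inv, show K.W k 0 * K.Fr * (sc (K.e (-(k * 0))) * K.W (-k) (-0)) * K.Fr⁻¹ =
      K.W k 0 * (K.Fr * (sc (K.e (-(k * 0))) * K.W (-k) (-0)) * K.Fr⁻¹) by group, conj_sc_mul, K.Fr_conj,
      ← mul_assoc (sc _) (sc _), ← map_mul, ← mul_assoc, ← sc_comm, mul_assoc, K.W_mul, ← mul_assoc, ← map_mul,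
      neg_zero]
  rw [e1, val_sc_mul] at h
  have h2 := congrFun (congrFun h k) 0
  rw [Matrix.smul_apply, W_val, Matrix.smul_apply, Matrix.one_apply, if_neg hk, smul_zero,
    if_pos (by simp : k = 0 + (0 + -(-k))), smul_eq_mul] at h2
  exact mul_ne_zero (Units.ne_zero _) (Units.ne_zero _) h2

variable {H : Subgroup (GL I9 F)} (O : K.Over H)
include O

/-- a full block gives a block on its own -/
theorem Over.single_amb (U S : Subgroup (GL Z3 F)) (hbU : ∀ f, blk f ∈ H → ∀ i, f i ∈ U)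
    (simple : ∀ M : Subgroup (GL Z3 F), M ≤ U → (∀ l ∈ M, ∀ s ∈ S, s * l * s⁻¹ ∈ M) →
      (∃ l ∈ M, ∀ c : F, (l : Matrix Z3 Z3 F) ≠ c • 1) → ∀ s ∈ S, s ∈ M)
    (hFr : K.Fr ∈ S) (hfull : ∃ i, ∀ s ∈ S, ∃ (f : Z3 → GL Z3 F) (c : Fˣ), blk f ∈ H ∧ f i = sc c * s)
    (j : Z3) {s : GL Z3 F} (hs : s ∈ S) : blk (Pi.mulSingle j s) ∈ H := by
  have hall : ∀ i, ∀ t ∈ S, ∃ (f : Z3 → GL Z3 F) (c : Fˣ), blk f ∈ H ∧ f i = sc c * t := fun i t ht => by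
    obtain ⟨i', hi'⟩ := hfull
    obtain ⟨f, c, hf, e⟩ := hi' t ht
    exact ⟨fun x => f (x + (i' - i)), c, O.shift_add hf _, by simp only [add_sub_cancel, e]⟩
  have step : ∀ (L : Subgroup (Z3 → GL Z3 F)) (i : Z3), (∀ l ∈ L, blk l ∈ H) →
      (∀ f, blk f ∈ H → ∀ l ∈ L, f * l * f⁻¹ ∈ L) →
      (∃ l ∈ L, ∀ c : F, (l i : Matrix Z3 Z3 F) ≠ c • 1) → ∀ t ∈ S, ∃ l ∈ L, l i = t := by
    intro L i hLH hLn ⟨l₀, hl₀, hnc⟩ t ht
    obtain ⟨l, hl, e⟩ := simple (L.map (Pi.evalMonoidHom (fun _ : Z3 => GL Z3 F) i))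
      (by rintro _ ⟨l, hl, rfl⟩; exact hbU l (hLH l hl) i)
      (by
        rintro _ ⟨l, hl, rfl⟩ u hu
        obtain ⟨f, c, hf, e⟩ := hall i u hu
        refine ⟨f * l * f⁻¹, hLn f hf l hl, ?_⟩
        show f i * l i * (f i)⁻¹ = _
        rw [e, sc_mul_conj]
        rfl)
      ⟨_, ⟨l₀, hl₀, rfl⟩, hnc⟩ t ht
    exact ⟨l, hl, e⟩
  let L0 : Subgroup (Z3 → GL Z3 F) := (H.comap blk) ⊓ (Pi.evalMonoidHom (fun _ : Z3 => GL Z3 F) 0).ker
  let L1 : Subgroup (Z3 → GL Z3 F) := L0 ⊓ (Pi.evalMonoidHom (fun _ : Z3 => GL Z3 F) 1).ker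
  have h0 : ∀ f, f ∈ L0 ↔ blk f ∈ H ∧ f 0 = 1 := fun f => by
    simp [L0, Subgroup.mem_inf, MonoidHom.mem_ker]
  have h1 : ∀ f, f ∈ L1 ↔ blk f ∈ H ∧ (f 0 = 1 ∧ f 1 = 1) := fun f => by
    simp [L1, Subgroup.mem_inf, MonoidHom.mem_ker, h0, and_assoc]
  have hcomm : ∀ u f : Z3 → GL Z3 F, blk u ∈ H → blk f ∈ H → blk (u * f * u⁻¹ * f⁻¹) ∈ H := fun u f hu hf => by
    rw [map_mul, map_mul, map_mul, map_inv, map_inv]
    exact mul_mem (mul_mem (mul_mem hu hf) (inv_mem hu)) (inv_mem hf)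
  have hu : blk (fun i => K.W i 0) ∈ H := by simpa using O.upow 1 0
  have hu' : blk (fun i => K.W (i + 2) 0) ∈ H := O.shift_add hu 2
  have hF : blk (fun _ => K.Fr) ∈ H := O.const _ (Subgroup.subset_closure (Or.inr (Or.inr (Or.inr (Or.inr rfl)))))
  have hn0 : ∀ f, blk f ∈ H → ∀ l ∈ L0, f * l * f⁻¹ ∈ L0 := fun f hf l hl => (h0 _).2
    ⟨by rw [map_mul, map_mul, map_inv]; exact mul_mem (mul_mem hf ((h0 l).1 hl).1) (inv_mem hf),
      by simp [((h0 l).1 hl).2]⟩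
  have hn1 : ∀ f, blk f ∈ H → ∀ l ∈ L1, f * l * f⁻¹ ∈ L1 := fun f hf l hl => (h1 _).2
    ⟨by rw [map_mul, map_mul, map_inv]; exact mul_mem (mul_mem hf ((h1 l).1 hl).1) (inv_mem hf),
      by simp [((h1 l).1 hl).2.1], by simp [((h1 l).1 hl).2.2]⟩
  have step0 : ∀ t ∈ S, ∃ l ∈ L0, l 2 = t := step L0 2 (fun l hl => ((h0 l).1 hl).1) hn0
    ⟨_, (h0 _).2 ⟨hcomm _ _ hu hF, by simp [K.W_zero]⟩, comm_Fr_not_scalar (k := 2) (by decide)⟩
  have step1 : ∀ t ∈ S, ∃ l ∈ L1, l 2 = t := by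
    obtain ⟨g, hg, eg⟩ := step0 K.Fr hFr
    refine step L1 2 (fun l hl => ((h1 l).1 hl).1) hn1
      ⟨_, (h1 _).2 ⟨hcomm _ _ hu' ((h0 g).1 hg).1, by simp [((h0 g).1 hg).2],
        by simp [show (1 : Z3) + 2 = 0 by decide, K.W_zero]⟩, fun c => ?_⟩
    show ((K.W (2 + 2) 0 * g 2 * (K.W (2 + 2) 0)⁻¹ * (g 2)⁻¹ : GL Z3 F) : Matrix Z3 Z3 F) ≠ _
    rw [eg]
    exact comm_Fr_not_scalar (by decide) c
  obtain ⟨l, hl, e⟩ := step1 s hs
  obtain ⟨hlH, hl0, hl1⟩ := (h1 l).1 hl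
  have := O.shift_add hlH (2 - j)
  convert this using 2
  funext x
  by_cases hx : x = j
  · subst hx; rw [Pi.mulSingle_eq_same, add_sub_cancel, e]
  · rw [Pi.mulSingle_eq_of_ne hx]
    rcases z3_cases (x + (2 - j)) with h | h | h <;> rw [h]
    · exact hl0.symm
    · exact hl1.symm
    · exact absurd (by linear_combination h) hx

end Root

end Cfsg.Agent.ClassicalMax.SympThree
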