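import Cfsg.Agent.ClassicalMax.SympThree.UnitMono
import Cfsg.Agent.ClassicalMax.SympType.UBasic
import Cfsg.Agent.S5655

/-!
An overgroup containing the monomial elements of one block contains the special unitary group, by maximality of the
monomial stabiliser.
-/

set_option autoImplicit false
set_option linter.unusedSectionVars false

namespace Cfsg.Agent.ClassicalMax.SympThree.Unit

open Matrix Cfsg.Geo Cfsg.Agent.Classical
open Cfsg.Agent.ClassicalMax.SU3.Hess (ctr U3 mem_U3)

variable {F : Type*} [Field F] {σ : F →+* F}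

/-- one block as a subgroup in dimension three -/
def blockAt (H : Subgroup (GL I9 F)) (i : Z3) : Subgroup (GL Z3 F) :=
  H.comap (blk.comp (MonoidHom.mulSingle (fun _ : Z3 => GL Z3 F) i))

theorem mem_blockAt {H : Subgroup (GL I9 F)} {i : Z3} {g : GL Z3 F} :
    g ∈ blockAt H i ↔ blk (Pi.mulSingle i g) ∈ H := Iff.rfl

theorem blk_single_pairD {a b : Z3} (x : Fˣ) (i : Z3) :
    blk (Pi.mulSingle i (pairD a b x)) = (pairD ((a, i) : I9) (b, i) x : GL I9 F) := by
  refine Units.ext (Matrix.ext fun z w => ?_)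
  rw [blk_val, pairD, pairD, mono_val, Equiv.Perm.one_apply]
  obtain ⟨z1, z2⟩ := z
  obtain ⟨w1, w2⟩ := w
  by_cases h2 : z2 = w2
  · subst h2
    by_cases hi : z2 = i
    · subst hi
      simp [mono_val]
      try rfl
    · simp [hi, Matrix.one_apply]
  · simp [h2]

theorem blk_single_pairS {a b : Z3} (i : Z3) :
    blk (Pi.mulSingle i (pairS a b)) = (pairS ((a, i) : I9) (b, i) : GL I9 F) := by
  refine Units.ext (Matrix.ext fun z w => ?_)
  rw [blk_val, pairS, pairS, mono_val]
  obtain ⟨z1, z2⟩ := z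
  obtain ⟨w1, w2⟩ := w
  by_cases hi : w2 = i
  · subst hi
    by_cases h2 : z2 = w2
    · subst h2
      by_cases ha : w1 = a
      · subst ha; simp [mono_val]
      · by_cases hb : w1 = b
        · subst hb; simp [mono_val, ha]
        · simp [mono_val, ha, hb, Equiv.swap_apply_of_ne_of_ne]
    · by_cases ha : w1 = a
      · subst ha; simp [h2]
      · by_cases hb : w1 = b
        · subst hb; simp [h2, ha]
        · simp [h2, ha, hb, Equiv.swap_apply_of_ne_of_ne]
  · have hw : ∀ c : Z3, ((w1, w2) : I9) ≠ (c, i) := fun c h => hi (congrArg Prod.snd h)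
    by_cases h2 : z2 = w2
    · subst h2
      simp [hi, hw, Equiv.swap_apply_of_ne_of_ne, Matrix.one_apply]
    · simp [hi, hw, h2, Equiv.swap_apply_of_ne_of_ne]

theorem sw_conj_mono (π : Equiv.Perm I9) (d : I9 → Fˣ) :
    sw * mono π d * sw = (mono ((Equiv.prodComm Z3 Z3).trans (π.trans (Equiv.prodComm Z3 Z3))) fun w => d w.swap :
      GL I9 F) := by
  refine Units.ext (Matrix.ext fun z w => ?_)
  rw [sw_conj_val, mono_val, mono_val]
  have : ((z.2, z.1) : I9) = π (w.2, w.1) ↔ z = (π w.swap).swap := by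
    constructor
    · intro h; rw [show w.swap = (w.2, w.1) from rfl, ← h]; rfl
    · intro h; rw [h]; rfl
  by_cases h : ((z.2, z.1) : I9) = π (w.2, w.1)
  · rw [if_pos h]; exact (if_pos (this.1 h)).symm
  · rw [if_neg h]; exact (if_neg (fun e => h (this.2 e))).symm

/-- the stabiliser of the coordinate lines is generated by the elements of one block and the model -/
theorem good_all {K : Root F} {H : Subgroup (GL I9 F)} (O : K.Over H)
    (hb : ∀ a b : Z3, a ≠ b → Good σ (blockAt H 2) a b) {u v : I9} (huv : u ≠ v) : Good σ H u v := by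
  have hrow : ∀ i a b : Z3, a ≠ b → Good σ H ((a, i) : I9) (b, i) := fun i a b hab => by
    have hsh : ∀ g, g ∈ blockAt H 2 → blk (Pi.mulSingle i g) ∈ H := fun g hg => by
      have := O.shift_add (mem_blockAt.1 hg) (2 - i)
      convert this using 2
      funext x
      by_cases hx : x = i
      · subst hx; rw [Pi.mulSingle_eq_same, add_sub_cancel, Pi.mulSingle_eq_same]
      · rw [Pi.mulSingle_eq_of_ne hx, Pi.mulSingle_eq_of_ne (fun e => hx (by linear_combination e))]
    exact ⟨fun x hx => blk_single_pairD (F := F) x i ▸ hsh _ ((hb a b hab).1 x hx),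
      blk_single_pairS (F := F) i ▸ hsh _ (hb a b hab).2⟩
  have hcol : ∀ i a b : Z3, a ≠ b → Good σ H ((i, a) : I9) (i, b) := fun i a b hab => by
    have hp : ∀ π, (Equiv.prodComm Z3 Z3).trans ((Equiv.swap ((a, i) : I9) (b, i)).trans (Equiv.prodComm Z3 Z3)) = π →
        π = Equiv.swap ((i, a) : I9) (i, b) := fun π h => by
      rw [← h]
      exact Equiv.symm_trans_swap_trans ((a, i) : I9) (b, i) (Equiv.prodComm Z3 Z3)
    refine ⟨fun x hx => ?_, ?_⟩
    · have h := mul_mem (mul_mem O.swap ((hrow i a b hab).1 x hx)) O.swap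
      rw [pairD, sw_conj_mono] at h
      rw [pairD]
      convert h using 2
      · exact Equiv.ext fun w => by simp
      · funext w; obtain ⟨w1, w2⟩ := w; simp [Prod.ext_iff, and_comm]
    · have h := mul_mem (mul_mem O.swap (hrow i a b hab).2) O.swap
      rw [pairS, sw_conj_mono, hp _ rfl] at h
      rw [pairS]
      convert h using 2
      funext w; obtain ⟨w1, w2⟩ := w; simp [Prod.ext_iff, and_comm]
  obtain ⟨a, i⟩ := u
  obtain ⟨b, j⟩ := v
  by_cases hij : i = j
  · subst hij; exact hrow i a b fun e => huv (by rw [e])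
  by_cases hab : a = b
  · subst hab; exact hcol a i j hij
  refine good_trans (x := ((b, i) : I9)) ?_ huv ?_ (hrow i a b hab) (hcol b j i (Ne.symm hij))
  · exact fun e => hab (congrArg Prod.fst e)
  · exact fun e => hij (congrArg Prod.snd e).symm

/-- reindexing preserves the unitary group -/
theorem reindex_mem_iff {κ : Type} [Fintype κ] [DecidableEq κ] (e : κ ≃ I9) (g : GL κ F) :
    glReindex e g ∈ U3 σ ↔ g ∈ U3 σ := by
  have hv : (glReindex e g : Matrix I9 I9 F) = (g : Matrix κ κ F).submatrix e.symm e.symm := rfl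
  rw [mem_U3, mem_U3, hv, show ctr σ ((g : Matrix κ κ F).submatrix e.symm e.symm) =
    (ctr σ (g : Matrix κ κ F)).submatrix e.symm e.symm from rfl, Matrix.submatrix_mul_equiv]
  constructor
  · intro h
    ext a b
    have := congrFun (congrFun h (e a)) (e b)
    simpa [Matrix.one_apply] using this
  · intro h
    rw [h, Matrix.submatrix_one_equiv]

variable [Fintype F] {q : ℕ}

/-- an overgroup with the monomial elements of one block is the special unitary group -/
theorem top_of_block (hF : Fintype.card F = q ^ 2) (hσq : ∀ x, σ x = x ^ q) {K : Root F} {H : Subgroup (GL I9 F)}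
    (O : K.Over H) (hHU : H ≤ U3 σ) (hb : ∀ a b : Z3, a ≠ b → Good σ (blockAt H 2) a b)
    {g : GL I9 F} (hgU : g ∈ U3 σ) (hg1 : (g : Matrix I9 I9 F).det = 1) : g ∈ H := by
  classical
  have hmono : ∀ π d, (∀ w, σ ((d : I9 → Fˣ) w : F) * d w = 1) →
      ((Equiv.Perm.sign π : ℤ) : F) * ∏ w, (d w : F) = 1 → mono π d ∈ H :=
    fun π d => mem_of_good O.sl hHU (fun a b hab => good_all O hb hab) π d
  let e : Fin 9 ≃ I9 := (Fintype.equivFinOfCardEq (by rw [Fintype.card_prod, ZMod.card])).symm
  set E := glReindex (F := F) e with hE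
  have hU9 : ∀ x : GL (Fin 9) F, x ∈ Cfsg.GU 9 F q ↔ E x ∈ U3 σ := fun x =>
    ((reindex_mem_iff e x).trans (SympType.UG_iff_GU hσq x)).symm
  have hdet : ∀ x : GL (Fin 9) F, (E x : Matrix I9 I9 F).det = (x : Matrix (Fin 9) (Fin 9) F).det := fun x => by
    show ((x : Matrix (Fin 9) (Fin 9) F).submatrix e.symm e.symm).det = _
    rw [Matrix.det_submatrix_equiv_self]
  let D : Fin 9 → Submodule F (Fin 9 → F) := fun i => F ∙ Pi.single i (1 : F)
  have hD : IsNondegenerateMDecomposition (Cfsg.hermForm 9 F q) 1 D := by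
    have hf : ∀ x y, Cfsg.hermForm 9 F q x y = hermB 9 σ y x := fun x y => hermForm_eq hσq 9 x y
    have hli : LinearIndependent F fun i : Fin 9 => (Pi.single i 1 : Fin 9 → F) := by
      have h : (fun i : Fin 9 => (Pi.single i 1 : Fin 9 → F)) = Pi.basisFun F (Fin 9) :=
        funext fun i => (Pi.basisFun_apply F (Fin 9) i).symm
      rw [h]; exact (Pi.basisFun F (Fin 9)).linearIndependent
    refine ⟨⟨by norm_num, one_pos, fun i => finrank_span_singleton (by simp), hli.iSupIndep_span_singleton, ?_⟩,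
      fun i w hw hw0 => ?_, fun i j hij u hu v hv => ?_⟩
    · refine eq_top_iff.2 fun x _ => ?_
      rw [pi_eq_sum_univ' x]
      exact Submodule.sum_mem _ fun i _ => Submodule.smul_mem _ _
        (Submodule.mem_iSup_of_mem i (Submodule.mem_span_singleton_self _))
    · obtain ⟨c, rfl⟩ := Submodule.mem_span_singleton.1 hw
      have hc : c ≠ 0 := fun h => hw0 (by rw [h, zero_smul])
      refine ⟨⟨Pi.single i 1, Submodule.mem_span_singleton_self _, ?_⟩,
        ⟨Pi.single i 1, Submodule.mem_span_singleton_self _, ?_⟩⟩ <;>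
      · rw [hf]; simp [isON_single (σ := σ) 9 i i, hc]
    · obtain ⟨c, rfl⟩ := Submodule.mem_span_singleton.1 hu
      obtain ⟨c', rfl⟩ := Submodule.mem_span_singleton.1 hv
      rw [hf]; simp [isON_single (σ := σ) 9 j i, Ne.symm hij]
  have hmax := S5655.maximal_any 9 q hF (by norm_num) 1 D hD (fun h => absurd h.1 (by norm_num))
    fun _ => Or.inr (Or.inr (Or.inr rfl))
  let H9 : Subgroup (GL (Fin 9) F) := H.comap E.toMonoidHom
  have hsl : ∀ x : GL (Fin 9) F, x ∈ specialLinear (Fin 9) F ↔ (E x : Matrix I9 I9 F).det = 1 := fun x => by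
    rw [hdet, mem_sl]
  have hle : H9 ≤ Cfsg.GU 9 F q ⊓ specialLinear (Fin 9) F := fun x hx =>
    ⟨(hU9 x).2 (hHU hx), (hsl x).2 (O.sl _ hx)⟩
  have hstab : decompositionStabilizer D ⊓ (Cfsg.GU 9 F q ⊓ specialLinear (Fin 9) F) ≤ H9 := by
    rintro x ⟨⟨π, hπ⟩, hxU, hxS⟩
    have hcol : ∀ i, ∃ c : F, c ≠ 0 ∧ ∀ j, (x : Matrix (Fin 9) (Fin 9) F) j i = if j = π i then c else 0 := fun i => by
      have hm : (x : Matrix (Fin 9) (Fin 9) F) *ᵥ Pi.single i 1 ∈ D (π i) := by
        rw [← hπ i]
        exact ⟨_, Submodule.mem_span_singleton_self _, Matrix.toLin'_apply _ _⟩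
      obtain ⟨c, hc⟩ := Submodule.mem_span_singleton.1 hm
      refine ⟨c, fun h0 => ?_, fun j => ?_⟩
      · rw [h0, zero_smul] at hc
        have h1 := congrArg (((x⁻¹ : GL (Fin 9) F) : Matrix (Fin 9) (Fin 9) F) *ᵥ ·) hc
        simp only [Matrix.mulVec_zero, Matrix.mulVec_mulVec, ← Units.val_mul, inv_mul_cancel, Units.val_one,
          Matrix.one_mulVec] at h1
        exact one_ne_zero (α := F) (by simpa using (congrFun h1 i).symm)
      · have h := congrFun hc j
        rw [Matrix.mulVec_single_one] at h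
        simpa [Pi.single_apply] using h.symm
    choose c hc0 hc using hcol
    have hx : E x = mono (e.symm.trans ((π : Equiv.Perm (Fin 9)).trans e)) fun w => Units.mk0 (c (e.symm w)) (hc0 _) :=
      Units.ext (Matrix.ext fun z w => by
        rw [mono_val]
        show (x : Matrix (Fin 9) (Fin 9) F) (e.symm z) (e.symm w) = _
        rw [hc, Units.val_mk0]
        refine if_congr ?_ rfl rfl
        simp only [Equiv.trans_apply]
        exact e.symm_apply_eq)
    have h1 := (hsl x).1 hxS
    have h2 := (hU9 x).1 hxU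
    show E x ∈ H
    rw [hx] at h1 h2 ⊢
    rw [det_mono] at h1
    exact hmono _ _ ((mono_mem_iff _ _).1 h2) h1
  rcases hmax.2 H9 hstab hle with h | h
  · exfalso
    obtain ⟨x, hx⟩ := E.surjective (dgn K.Fr)
    have hxH : x ∈ H9 := by
      show E x ∈ H
      rw [hx]
      exact O.const _ (Subgroup.subset_closure (Or.inr (Or.inr (Or.inr (Or.inr rfl)))))
    rw [h] at hxH
    obtain ⟨⟨π, hπ⟩, -⟩ := hxH
    have hm : (x : Matrix (Fin 9) (Fin 9) F) *ᵥ Pi.single (e.symm (0, 0)) 1 ∈ D (π (e.symm (0, 0))) := by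
      rw [← hπ]
      exact ⟨_, Submodule.mem_span_singleton_self _, Matrix.toLin'_apply _ _⟩
    obtain ⟨c, hc⟩ := Submodule.mem_span_singleton.1 hm
    have hne : ∀ a : Z3, (x : Matrix (Fin 9) (Fin 9) F) (e.symm (a, 0)) (e.symm (0, 0)) ≠ 0 := fun a => by
      show (E x : Matrix I9 I9 F) (a, 0) (0, 0) ≠ 0
      rw [hx, dgn_val, if_pos rfl, Root.Fr_val]
      exact mul_ne_zero (inv_ne_zero (sub_ne_zero.2 K.ne_one.symm)) (Units.ne_zero _)
    have heq : ∀ a : Z3, e.symm (a, 0) = π (e.symm (0, 0)) := fun a => by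
      by_contra hne'
      apply hne a
      have h3 := congrFun hc (e.symm (a, 0))
      rw [Matrix.mulVec_single_one] at h3
      simpa [Pi.single_apply, hne'] using h3.symm
    exact absurd (congrArg Prod.fst (e.symm.injective ((heq 1).trans (heq 0).symm))) (show (1 : Z3) ≠ 0 by decide)
  · obtain ⟨x, rfl⟩ := E.surjective g
    have : x ∈ H9 := by rw [h]; exact ⟨(hU9 x).2 hgU, (hsl x).2 hg1⟩
    exact this

end Cfsg.Agent.ClassicalMax.SympThree.Unit
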