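import Cfsg.Agent.ClassicalMax.SympThree.Bridge
import Cfsg.Agent.ClassicalMax.SympThree.UnitSingle
import Cfsg.Agent.ClassicalMax.SympThree.UnitTop
import Cfsg.Agent.ClassicalMax.SympType.UGroup
import Cfsg.Agent.ClassicalMax.SU3.Hess.Main

/-!
Odd characteristic: the unitary ambient pair in dimension three, its alternative and simplicity, and the dichotomy in
dimension nine.
-/

set_option autoImplicit false
set_option linter.unusedSectionVars false
set_option linter.style.haveILetI false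

namespace Cfsg.Agent.ClassicalMax.SympThree.Unit

open Matrix Cfsg.Geo Cfsg.Agent.Classical
open Cfsg.Agent.ClassicalMax.SU3.Hess (ctr ctr_mul U3 mem_U3)

variable {F : Type*} [Field F] {σ : F →+* F}

/-- the special unitary group of dimension three -/
def S3 (σ : F →+* F) : Subgroup (GL Z3 F) := U3 σ ⊓ specialLinear Z3 F

theorem mem_S3 {g : GL Z3 F} : g ∈ S3 σ ↔ g ∈ U3 σ ∧ (g : Matrix Z3 Z3 F).det = 1 := and_congr Iff.rfl mem_sl

theorem conj_mem_S3 {u h : GL Z3 F} (hu : u ∈ U3 σ) (hh : h ∈ S3 σ) (c : Fˣ) :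
    sc c * u * h * (sc c * u)⁻¹ ∈ S3 σ := by
  rw [sc_mul_conj]
  exact mem_S3.2 ⟨mul_mem (mul_mem hu hh.1) (Subgroup.inv_mem _ hu), by rw [det_conj]; exact (mem_S3.1 hh).2⟩

theorem pair_mem_S3 {a b : Z3} (hab : a ≠ b) :
    (∀ x : Fˣ, σ (x : F) * x = 1 → (pairD a b x : GL Z3 F) ∈ S3 σ) ∧ (pairS a b : GL Z3 F) ∈ S3 σ := by
  refine ⟨fun x hx => mem_S3.2 ⟨(mono_mem_iff _ _).2 fun w => ?_, ?_⟩, mem_S3.2 ⟨(mono_mem_iff _ _).2 fun w => ?_, ?_⟩⟩
  · split_ifs
    · exact hx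
    · rw [Units.val_inv_eq_inv_val, map_inv₀, ← mul_inv, hx, inv_one]
    · simp
  · rw [pairD, det_mono, map_one, Units.val_one, Int.cast_one, one_mul, Finset.prod_eq_mul a b hab]
    · simp [Ne.symm hab]
    · intro c _ hc; simp [hc.1, hc.2]
    all_goals exact fun h => absurd (Finset.mem_univ _) h
  · split_ifs <;> simp
  · rw [pairS, det_mono, Equiv.Perm.sign_swap hab, Finset.prod_eq_single a]
    · simp
    · intro c _ hc; simp [hc]
    · exact fun h => absurd (Finset.mem_univ _) h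

section frame

variable [NeZero (2 : F)] (K : Root F)

/-- the weights of the frame -/
def wt (F : Type*) [Field F] (z : Z3) : F := if z = 0 then 1 else 2

theorem wt_ne (K : Root F) (z : Z3) : wt F z ≠ 0 := by
  rw [wt]; split_ifs
  exacts [one_ne_zero, K.two]

theorem ctr_C9 :
    ctr σ (K.C9 : Matrix I9 I9 F) * (K.C9 : Matrix I9 I9 F) = Matrix.diagonal fun z : I9 => wt F z.1 := by
  have h : ctr σ (K.Qm : Matrix Z3 Z3 F) * (K.Qm : Matrix Z3 Z3 F) = Matrix.diagonal (wt F) := by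
    ext z w
    rw [Matrix.mul_apply, sum_z3]
    simp only [ctr, Matrix.transpose_apply, Matrix.map_apply]
    rcases z3_cases z with rfl | rfl | rfl <;> rcases z3_cases w with rfl | rfl | rfl <;>
      simp +decide [Root.Qm_val, wt] <;> ring
  rw [Root.C9, dgn_eq, ctr_blk, blk_mat, ← blockDiagonal_mul]
  simp only [h, Matrix.blockDiagonal_diagonal]

/-- the form in the frame -/
theorem chart_sum {g : GL I9 F} (hg : g ∈ U3 σ) (z w : I9) :
    ∑ y : I9, σ ((K.chart g : Matrix I9 I9 F) y z) * (wt F y.1 * (K.chart g : Matrix I9 I9 F) y w) =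
      if z = w then wt F z.1 else 0 := by
  have e : (K.C9 : Matrix I9 I9 F) * (K.chart g : Matrix I9 I9 F) = (g : Matrix I9 I9 F) * (K.C9 : Matrix I9 I9 F) := by
    rw [← Units.val_mul, ← Units.val_mul, Root.chart, show K.C9 * (K.C9⁻¹ * g * K.C9) = g * K.C9 by group]
  have h : ctr σ (K.chart g : Matrix I9 I9 F) * (Matrix.diagonal (fun z : I9 => wt F z.1) *
      (K.chart g : Matrix I9 I9 F)) = Matrix.diagonal fun z : I9 => wt F z.1 := by
    rw [← ctr_C9 (σ := σ) K, Matrix.mul_assoc, e, ← Matrix.mul_assoc, ← ctr_mul, e, ctr_mul, Matrix.mul_assoc,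
      ← Matrix.mul_assoc (ctr σ (g : Matrix I9 I9 F)), mem_U3.1 hg, Matrix.one_mul]
  have := congrFun (congrFun h z) w
  rw [Matrix.mul_apply, Matrix.diagonal_apply] at this
  rw [← this]
  exact Finset.sum_congr rfl fun y _ => by rw [Matrix.diagonal_mul]; rfl

theorem ch_mem_U {f : Z3 → GL Z3 F} (h : K.ch f ∈ U3 σ) (a : Z3) : f a ∈ U3 σ := by
  rw [mem_U3]
  ext i j
  have hs := chart_sum K h (a, i) (a, j)
  rw [Fintype.sum_prod_type, Finset.sum_eq_single a] at hs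
  · simp only [Root.chart_ch, sw_conj_val, blk_val, if_true, Prod.mk.injEq, true_and] at hs
    rw [Matrix.mul_apply, Matrix.one_apply]
    refine mul_left_cancel₀ (wt_ne K a) ?_
    rw [mul_ite, mul_one, mul_zero, ← hs, Finset.mul_sum]
    exact Finset.sum_congr rfl fun k _ => by simp only [ctr, Matrix.transpose_apply, Matrix.map_apply]; ring
  · intro b _ hb
    refine Finset.sum_eq_zero fun k _ => ?_
    rw [Root.chart_ch, sw_conj_val (z := (b, k)), blk_val, if_neg hb, map_zero, zero_mul]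
  · exact fun h => absurd (Finset.mem_univ _) h

theorem rho_mem_U {k : Subgroup.centralizer ({dgn Root.T} : Set (GL I9 F))} (h : (k : GL I9 F) ∈ U3 σ) :
    K.rhoHom k ∈ U3 σ := by
  have h1 : K.chart (k : GL I9 F) * K.chart (dgn Root.T) = K.chart (dgn Root.T) * K.chart k := by
    rw [← Root.chart_mul, ← Root.chart_mul, Subgroup.mem_centralizer_singleton_iff.1 k.2]
  rw [Root.chart_dgn_T] at h1
  rw [mem_U3, Root.rhoHom_val]
  ext i j
  have hs := chart_sum K h (2, i) (2, j)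
  rw [Fintype.sum_prod_type, Finset.sum_eq_single (2 : Z3)] at hs
  · simp only [Prod.mk.injEq, true_and] at hs
    rw [Matrix.mul_apply, Matrix.one_apply]
    refine mul_left_cancel₀ (wt_ne K 2) ?_
    rw [mul_ite, mul_one, mul_zero, ← hs, Finset.mul_sum]
    exact Finset.sum_congr rfl fun x _ => by
      simp only [ctr, Matrix.transpose_apply, Matrix.map_apply, Root.rho, Matrix.of_apply]; ring
  · intro b _ hb
    refine Finset.sum_eq_zero fun x _ => ?_
    rw [Root.zero_of_comm h1 (z := (b, x)) (w := (2, i)) ?_, map_zero, zero_mul]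
    show (if b = 2 then (1 : Fˣ) else -1) ≠ if (2 : Z3) = 2 then 1 else -1
    rw [if_pos rfl, if_neg hb]
    intro e
    exact K.two (by
      have := congrArg Units.val e
      rw [Units.val_neg, Units.val_one] at this
      linear_combination -this)
  · exact fun h => absurd (Finset.mem_univ _) h

end frame

variable [Fintype F] (K : Root F) (hl : σ (K.l : F) = (K.l : F) * K.l) (hσ : Herm.IsInvol σ) {p : ℕ}
  (hσq : ∀ x, σ x = x ^ p) (hfix : Nat.card (Herm.fixField σ) = p) (h5 : 5 ≤ p)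
include hl hσ hσq hfix h5

omit hl in
/-- simplicity of the ambient pair -/
theorem simple [NeZero (2 : F)] (M : Subgroup (GL Z3 F)) (hM : M ≤ Root.withSc (U3 σ))
    (hn : ∀ l ∈ M, ∀ s ∈ S3 σ, s * l * s⁻¹ ∈ M) (hnc : ∃ l ∈ M, ∀ c : F, (l : Matrix Z3 Z3 F) ≠ c • 1)
    (hlK : σ (K.l : F) = (K.l : F) * K.l) {s : GL Z3 F} (hs : s ∈ S3 σ) : s ∈ M := by
  have h1 : ∀ L : Subgroup (GL Z3 F), L ≤ U3 σ → (∀ l ∈ L, ∀ s ∈ S3 σ, s * l * s⁻¹ ∈ L) →
      (∃ l ∈ L, ∀ c : F, (l : Matrix Z3 Z3 F) ≠ c • 1) → ∀ s ∈ S3 σ, s ∈ L := fun L hLU hLn hLc s hs =>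
    SympType.le_of_normalised_u (n := 3) hσ hσq hfix le_rfl K.two L hLU
      (fun l hl s hs hsd => hLn l hl s (mem_S3.2 ⟨hs, hsd⟩)) hLc s hs.1 (mem_S3.1 hs).2
  have hmod : ∀ s ∈ S3 σ, s ∈ Root.withSc M := by
    intro s hs
    refine (h1 (Root.withSc M ⊓ U3 σ) inf_le_right (fun l hl t ht => ⟨?_, mul_mem (mul_mem ht.1 hl.2) (Subgroup.inv_mem _ ht.1)⟩)
      ?_ s hs).1
    · obtain ⟨c, m, hm, rfl⟩ := hl.1
      exact ⟨c, _, hn m hm t ht, by rw [conj_sc_mul]⟩
    · obtain ⟨l, hl', hlc⟩ := hnc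
      obtain ⟨c, u, hu, e⟩ := hM hl'
      refine ⟨u, ⟨⟨c⁻¹, l, hl', by rw [e, ← mul_assoc, ← map_mul, inv_mul_cancel, map_one, one_mul]⟩, hu⟩, fun d hd => ?_⟩
      exact hlc (c * d) (by rw [e, val_sc_mul, hd, smul_smul])
  have hcomm : ∀ s ∈ S3 σ, ∀ t ∈ S3 σ, s * t * s⁻¹ * t⁻¹ ∈ M := by
    intro s hs t ht
    obtain ⟨c, m, hm, rfl⟩ := hmod s hs
    obtain ⟨d, m', hm', rfl⟩ := hmod t ht
    have : sc c * m * (sc d * m') * (sc c * m)⁻¹ * (sc d * m')⁻¹ = m * m' * m⁻¹ * m'⁻¹ := by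
      rw [sc_mul_conj, conj_sc_mul, sc_comm d m', sc_comm d (m * m' * m⁻¹), _root_.mul_inv_rev]
      group
    rw [this]
    exact mul_mem (mul_mem (mul_mem hm hm') (Subgroup.inv_mem _ hm)) (Subgroup.inv_mem _ hm')
  have hW : K.W 1 0 ∈ S3 σ := mem_S3.2 ⟨SU3.Hess.W_mem K hlK 1 0, K.det_W 1 0⟩
  have hF : K.Fr ∈ S3 σ := mem_S3.2 ⟨SU3.Hess.Fr_mem K hlK, K.det_Fr⟩
  refine (h1 (M ⊓ U3 σ) inf_le_right (fun l hl t ht => ⟨hn l hl.1 t ht, mul_mem (mul_mem ht.1 hl.2) (Subgroup.inv_mem _ ht.1)⟩)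
    ⟨_, ⟨hcomm _ hW _ hF, mul_mem (mul_mem (mul_mem hW.1 hF.1) (Subgroup.inv_mem _ hW.1)) (Subgroup.inv_mem _ hF.1)⟩,
      Root.comm_Fr_not_scalar one_ne_zero⟩ s hs).1

/-- the alternative in dimension three -/
theorem dich [NeZero (2 : F)] [Fact p.Prime] [CharP F p] (Q : Subgroup (GL Z3 F)) (hQ : Q ≤ Root.withSc (U3 σ))
    (hgens : K.gens ≤ Q) : (∀ k ∈ Q, K.Nor k) ∨ ∀ s ∈ S3 σ, s ∈ Q := by
  classical
  let M : Subgroup (GL Z3 F) := Q ⊓ S3 σ
  have hgS : ∀ h ∈ K.gens, (h : Matrix Z3 Z3 F).det = 1 → h ∈ M := fun h hh hd =>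
    ⟨hgens hh, mem_S3.2 ⟨gens_le K hl hh, hd⟩⟩
  have hFr : K.Fr ∈ K.gens := Subgroup.subset_closure (by simp)
  have hT : (Root.T : GL Z3 F) ∈ K.gens := Subgroup.subset_closure (by simp)
  have hW : ∀ a b, K.W a b ∈ M := fun a b => hgS _ (K.W_exact_mem a b) (K.det_W a b)
  by_cases hnt : ∀ g ∈ M, ((g : Matrix Z3 Z3 F) - 1) * ((g : Matrix Z3 Z3 F) - 1) = 0 → g = 1
  · refine Or.inl (K.nor_of_conj Q M hgens ?_ fun g hg h hh hhg hd => ?_)
    · exact Hessian.core_five h5 (Or.inr fun g hg => by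
        refine ⟨mul_mem (mul_mem (hgens K.Dg_gens) hg.1) (Subgroup.inv_mem _ (hgens K.Dg_gens)), ?_⟩
        have := conj_mem_S3 (gens_le K hl K.Dg_gens) hg.2 1
        rwa [map_one, one_mul] at this)
        { sl := fun g hg => (mem_S3.1 hg.2).2
          hW := hW
          hT := hgS _ hT Root.det_T
          hFr := hgS _ hFr K.det_Fr
          hF' := hgS _ (mul_mem (mul_mem K.Dg_gens hFr) (Subgroup.inv_mem _ K.Dg_gens)) (by rw [det_conj, K.det_Fr])
          nt := hnt }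
        (SU3.Hess.small_of_nt (by omega) hfix (fun g hg => hg.2.1) hnt)
    · obtain ⟨c, u, hu, rfl⟩ := hQ hg
      exact ⟨mul_mem (mul_mem hg hh) (Subgroup.inv_mem _ hg), conj_mem_S3 hu (hgS h hhg hd).2 c⟩
  push Not at hnt
  obtain ⟨g, hg, hg2, hg1⟩ := hnt
  refine Or.inr fun s hs => ?_
  have hB := hermB_isHerm (n := 3) hσ
  let c : GL (Fin 3) F ≃* GL Z3 F := MulEquiv.refl _
  let M' : Subgroup ((Fin 3 → F) ≃ₗ[F] (Fin 3 → F)) :=
    (M.comap c.toMonoidHom).map (glEquiv (Fin 3) F).toMonoidHom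
  have hiso : ∀ x : GL (Fin 3) F, c x ∈ U3 σ → ∀ u v, hermB 3 σ (glEquiv (Fin 3) F x u) (glEquiv (Fin 3) F x v) =
      hermB 3 σ u v := fun x hx u v => by
    rw [glEquiv_apply, glEquiv_apply]
    exact (SU3.Hess.iso_iff_ctr _).2 hx u v
  have hM'iso : ∀ x ∈ M', ∀ u v, hermB 3 σ (x u) (x v) = hermB 3 σ u v := by
    rintro _ ⟨x, hx, rfl⟩
    exact hiso x hx.2.1
  obtain ⟨g', rfl⟩ := c.surjective g
  obtain ⟨e, he0, he⟩ := SU3.exists_centre_of_sq hB (by rw [Module.finrank_fin_fun]) hfix (M := M')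
    (g := glEquiv (Fin 3) F g') ⟨g', hg, rfl⟩ (hiso g' hg.2.1)
    (fun h => hg1 (by rw [(glEquiv (Fin 3) F).injective (h.trans (map_one _).symm), map_one]))
    (fun x => by
      have h : (((g' : Matrix (Fin 3) (Fin 3) F) - 1) * ((g' : Matrix (Fin 3) (Fin 3) F) - 1)) *ᵥ x =
          (0 : Matrix (Fin 3) (Fin 3) F) *ᵥ x := congrArg (fun A : Matrix (Fin 3) (Fin 3) F => A *ᵥ x) hg2
      simp only [← Matrix.mulVec_mulVec, Matrix.sub_mulVec, Matrix.one_mulVec, Matrix.zero_mulVec] at h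
      simp only [glEquiv_apply]
      exact sub_eq_zero.1 h)
  have hcard : Fintype.card F = p ^ 2 := by rw [← hfix, ← Herm.card_eq_fix_sq hσ, Nat.card_eq_fintype_card]
  have hall := SU3.centres_of_irreducible hB (Module.finrank_fin_fun F) hM'iso
    (fun U hU => Hessian.irreducible K hW U fun x hx u hu => by
      obtain ⟨x', rfl⟩ := c.surjective x
      have := hU _ ⟨x', hx, rfl⟩ u hu
      exact this) he he0
  obtain ⟨s', rfl⟩ := c.surjective s
  have hdet : LinearMap.det (glEquiv (Fin 3) F s').toLinearMap = 1 :=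
    (LinearMap.det_toLin' (s' : Matrix (Fin 3) (Fin 3) F)).trans (mem_S3.1 hs).2
  obtain ⟨x, hx, hxs⟩ := SU3.suG_le hB (by rw [Module.finrank_fin_fun]; norm_num)
    (SU3.exists_fixed hcard hσq (by omega)) hall (Unitary.mem_suG hB (hiso s' hs.1) hdet)
  obtain rfl := (glEquiv (Fin 3) F).injective hxs
  exact hx.1

/-- the dichotomy in dimension nine -/
theorem main_odd [Fact p.Prime] [CharP F p] {H : Subgroup (GL I9 F)} (O : K.Over H) (hHU : H ≤ U3 σ) :
    H ≤ K.NR ∨ ∀ g ∈ (U3 σ : Subgroup (GL I9 F)), (g : Matrix I9 I9 F).det = 1 → g ∈ H := by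
  haveI : NeZero (2 : F) := ⟨fun e => by
    have := Nat.le_of_dvd two_pos ((CharP.cast_eq_zero_iff F p 2).1 (by exact_mod_cast e))
    omega⟩
  have hU : ∀ u : GL Z3 F, u ∈ U3 σ → u ∈ Root.withSc (U3 σ) := fun u hu => ⟨1, u, hu, by rw [map_one, one_mul]⟩
  let A : K.Amb H :=
    { U := Root.withSc (U3 σ)
      S := S3 σ
      blk_mem := fun f hf i => hU _ (blk_mem_iff.1 (hHU hf) i)
      ch_mem := fun f hf i => hU _ (ch_mem_U K (hHU hf) i)
      rho_mem := fun k hk => hU _ (rho_mem_U K (hHU hk))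
      sc_mem := fun c => Root.sc_mem_withSc _ c
      D3_mem := fun D hD => mem_S3.2 ⟨diag_mem (by rw [← hD]; rfl) fun i => by split_ifs <;> simp, D.2⟩
      dich := fun Q hQ hg _ => dich K hl hσ hσq hfix h5 Q hQ hg
      simple := fun M hM hn hc s hs => simple K hσ hσq hfix h5 M hM hn hc hl hs }
  refine (O.main_amb A).imp id fun hfull g hg hd => ?_
  refine top_of_block (q := p) (by rw [← hfix, ← Herm.card_eq_fix_sq hσ, Nat.card_eq_fintype_card]) hσq O hHU
    (fun a b hab => ?_) hg hd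
  have hs : ∀ s ∈ S3 σ, s ∈ blockAt H 2 := fun s hs => mem_blockAt.2 (O.single_amb (Root.withSc (U3 σ)) (S3 σ)
    A.blk_mem A.simple (mem_S3.2 ⟨SU3.Hess.Fr_mem K hl, K.det_Fr⟩) hfull 2 hs)
  exact ⟨fun x hx => hs _ ((pair_mem_S3 hab).1 x hx), hs _ (pair_mem_S3 hab).2⟩

end Cfsg.Agent.ClassicalMax.SympThree.Unit
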