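import Mathlib

/-!
The group of order 27 and exponent three in dimension three as Weyl matrices, the elements of its normaliser, and the
elements centralising it modulo scalars.
-/

set_option autoImplicit false

namespace Cfsg.Agent.ClassicalMax.SympThree

open Matrix

variable {F : Type*} [Field F]

/-- indices of the three coordinates -/
abbrev Z3 := ZMod 3

theorem z3_cases : ∀ a : Z3, a = 0 ∨ a = 1 ∨ a = 2 := by decide

theorem prod_z3 {M : Type*} [CommMonoid M] (f : Z3 → M) : ∏ i, f i = f 0 * f 1 * f 2 := Fin.prod_univ_three f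

theorem det_z3 (A : Matrix Z3 Z3 F) : A.det = A 0 0 * A 1 1 * A 2 2 - A 0 0 * A 1 2 * A 2 1 - A 0 1 * A 1 0 * A 2 2
    + A 0 1 * A 1 2 * A 2 0 + A 0 2 * A 1 0 * A 2 1 - A 0 2 * A 1 1 * A 2 0 := Matrix.det_fin_three A

theorem sum_z3 {M : Type*} [AddCommMonoid M] (f : Z3 → M) : ∑ i, f i = f 0 + f 1 + f 2 := Fin.sum_univ_three f

/-- a cube root of unity in characteristic other than three -/
structure Root (F : Type*) [Field F] where
  /-- the root -/
  l : Fˣ
  eqn : (l : F) * l + l + 1 = 0
  three : (3 : F) ≠ 0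

namespace Root

variable (K : Root F)

theorem two [NeZero (2 : F)] (_K : Root F) : (2 : F) ≠ 0 := NeZero.ne 2

theorem cube : (K.l : F) * K.l * K.l = 1 := by linear_combination ((K.l : F) - 1) * K.eqn

theorem cubeU : K.l ^ 3 = 1 := Units.ext (by rw [Units.val_pow_eq_pow_val, pow_succ, pow_two, Units.val_one, K.cube])

theorem ne_one : (K.l : F) ≠ 1 := fun h => K.three (by
  have := K.eqn
  rw [h] at this
  linear_combination this)

/-- the characters of the indices -/
def e (a : Z3) : Fˣ := K.l ^ a.val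

theorem e_zero : K.e 0 = 1 := pow_zero _
theorem e_one : K.e 1 = K.l := pow_one _
theorem e_two : K.e 2 = K.l ^ 2 := rfl

theorem e_add (a b : Z3) : K.e (a + b) = K.e a * K.e b := by
  rw [e, e, e, ← pow_add, ZMod.val_add]
  conv_rhs => rw [← Nat.mod_add_div (a.val + b.val) 3, pow_add, pow_mul, K.cubeU, one_pow, mul_one]

theorem e_neg (a : Z3) : K.e (-a) = (K.e a)⁻¹ :=
  eq_inv_of_mul_eq_one_left (by rw [← K.e_add, neg_add_cancel, e_zero])

theorem e_inj {a b : Z3} (h : K.e a = K.e b) : a = b := by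
  by_contra hne
  have h0 : K.e (a - b) = 1 := by rw [sub_eq_add_neg, K.e_add, K.e_neg, h, mul_inv_cancel]
  rcases z3_cases (a - b) with e | e | e
  · exact hne (sub_eq_zero.1 e)
  · rw [e, e_one] at h0
    exact K.ne_one (congrArg Units.val h0)
  · rw [e, e_two] at h0
    apply K.ne_one
    have h1 := congrArg Units.val h0
    rw [Units.val_pow_eq_pow_val, Units.val_one] at h1
    linear_combination K.cube - (K.l : F) * h1

theorem e_val_inj {a b : Z3} (h : (K.e a : F) = K.e b) : a = b := K.e_inj (Units.ext h)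

theorem e_cube (a : Z3) : (K.e a) ^ 3 = 1 := by rw [e, ← pow_mul, mul_comm, pow_mul, K.cubeU, one_pow]

theorem eval0 : ((K.e 0 : Fˣ) : F) = 1 := by rw [e_zero, Units.val_one]
theorem eval1 : ((K.e 1 : Fˣ) : F) = K.l := by rw [e_one]
theorem eval2 : ((K.e 2 : Fˣ) : F) = K.l * K.l := by rw [e_two, Units.val_pow_eq_pow_val, pow_two]

theorem exists_e {c : F} (hc : c ^ 3 = 1) : ∃ a : Z3, c = K.e a := by
  have : (c - 1) * ((c - K.l) * (c - K.l * K.l)) = 0 := by
    linear_combination hc + (c - c * c) * K.eqn + (c - 1) * K.cube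
  rcases mul_eq_zero.1 this with h | h
  · exact ⟨0, by rw [eval0, sub_eq_zero.1 h]⟩
  rcases mul_eq_zero.1 h with h | h
  · exact ⟨1, by rw [eval1, sub_eq_zero.1 h]⟩
  · exact ⟨2, by rw [eval2, sub_eq_zero.1 h]⟩

end Root

/-- scalar matrices -/
def sc {κ : Type*} [Fintype κ] [DecidableEq κ] : Fˣ →* GL κ F := Units.map (Matrix.scalar κ).toMonoidHom

section Scalar

variable {κ : Type*} [Fintype κ] [DecidableEq κ]

theorem sc_val (c : Fˣ) : ((sc c : GL κ F) : Matrix κ κ F) = (c : F) • 1 := (smul_one_eq_diagonal (c : F)).symm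

theorem val_sc_mul (c : Fˣ) (g : GL κ F) : ((sc c * g : GL κ F) : Matrix κ κ F) = (c : F) • (g : Matrix κ κ F) := by
  rw [Units.val_mul, sc_val, Matrix.smul_mul, Matrix.one_mul]

theorem sc_comm (c : Fˣ) (g : GL κ F) : sc c * g = g * sc c := Units.ext (by
  rw [val_sc_mul, Units.val_mul, sc_val, Matrix.mul_smul, Matrix.mul_one])

theorem sc_conj (c : Fˣ) (g : GL κ F) : g * sc c * g⁻¹ = sc c := by rw [← sc_comm, mul_inv_cancel_right]

theorem conj_sc_mul (c : Fˣ) (g x : GL κ F) : g * (sc c * x) * g⁻¹ = sc c * (g * x * g⁻¹) := by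
  rw [← mul_assoc g, ← sc_comm c g]; simp only [mul_assoc]

theorem sc_mul_conj (c : Fˣ) (g x : GL κ F) : sc c * g * x * (sc c * g)⁻¹ = g * x * g⁻¹ := by
  rw [sc_comm c g]
  rw [mul_assoc g (sc c) x, sc_comm c x]
  group

theorem det_sc_mul (c : Fˣ) (g : GL κ F) :
    ((sc c * g : GL κ F) : Matrix κ κ F).det = (c : F) ^ Fintype.card κ * (g : Matrix κ κ F).det := by
  rw [val_sc_mul, Matrix.det_smul]

end Scalar

namespace Root

variable (K : Root F)

/-- Weyl matrices -/
def W (a b : Z3) : GL Z3 F where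
  val := Matrix.of fun z z' => if z = z' + b then (K.e (a * z) : F) else 0
  inv := Matrix.of fun z z' => if z = z' - b then (K.e (-(a * z')) : F) else 0
  val_inv := by
    ext z w
    simp only [Matrix.mul_apply, Matrix.of_apply]
    rw [Finset.sum_eq_single (z - b)]
    · rw [if_pos (sub_add_cancel z b).symm, Matrix.one_apply]
      by_cases h : z = w
      · subst h; rw [if_pos rfl, if_pos rfl, ← Units.val_mul, ← K.e_add, add_neg_cancel, e_zero, Units.val_one]
      · rw [if_neg (fun e => h (sub_left_injective e)), if_neg h, mul_zero]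
    · intro x _ hx
      rw [if_neg (fun e => hx (by rw [e, add_sub_cancel_right])), zero_mul]
    · exact fun h => absurd (Finset.mem_univ _) h
  inv_val := by
    ext z w
    simp only [Matrix.mul_apply, Matrix.of_apply]
    rw [Finset.sum_eq_single (z + b)]
    · rw [if_pos (add_sub_cancel_right z b).symm, Matrix.one_apply]
      by_cases h : z = w
      · subst h; rw [if_pos rfl, if_pos rfl, ← Units.val_mul, ← K.e_add, neg_add_cancel, e_zero, Units.val_one]
      · rw [if_neg (fun e => h (add_right_cancel e)), if_neg h, mul_zero]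
    · intro x _ hx
      rw [if_neg (fun e => hx (by rw [e, sub_add_cancel])), zero_mul]
    · exact fun h => absurd (Finset.mem_univ _) h

theorem W_val (a b z z' : Z3) : (K.W a b : Matrix Z3 Z3 F) z z' = if z = z' + b then (K.e (a * z) : F) else 0 := rfl

theorem W_mul (a b a' b' : Z3) : K.W a b * K.W a' b' = sc (K.e (-(a' * b))) * K.W (a + a') (b + b') := by
  refine Units.ext ?_
  rw [val_sc_mul]
  ext z w
  rw [Units.val_mul, Matrix.mul_apply, Finset.sum_eq_single (z - b), Matrix.smul_apply, smul_eq_mul]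
  · rw [W_val, W_val, W_val, if_pos (sub_add_cancel z b).symm]
    by_cases h : z = w + (b + b')
    · rw [if_pos h, if_pos (by rw [h]; ring), ← Units.val_mul, ← Units.val_mul, ← K.e_add, ← K.e_add]
      congr 2; ring
    · rw [if_neg h, if_neg (fun e => h (by linear_combination e)), mul_zero, mul_zero]
  · intro x _ hx
    rw [W_val, if_neg (fun e => hx (by rw [e, add_sub_cancel_right])), zero_mul]
  · exact fun h => absurd (Finset.mem_univ _) h

theorem W_zero : K.W 0 0 = 1 := Units.ext (by
  ext z w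
  rw [W_val, add_zero, zero_mul, eval0, Units.val_one, Matrix.one_apply])

theorem W_comm (a b a' b' : Z3) : K.W a b * K.W a' b' = sc (K.e (a * b' - a' * b)) * (K.W a' b' * K.W a b) := by
  rw [K.W_mul, K.W_mul, ← mul_assoc, ← map_mul, ← K.e_add, add_comm a' a, add_comm b' b]
  congr 3
  ring

theorem W_conj (a b a' b' : Z3) : K.W a b * K.W a' b' * (K.W a b)⁻¹ = sc (K.e (a * b' - a' * b)) * K.W a' b' := by
  rw [K.W_comm, ← mul_assoc, mul_inv_cancel_right]

theorem W_inv (a b : Z3) : (K.W a b)⁻¹ = sc (K.e (-(a * b))) * K.W (-a) (-b) := by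
  refine inv_eq_of_mul_eq_one_right ?_
  rw [← mul_assoc, ← sc_comm, mul_assoc, K.W_mul, ← mul_assoc, ← map_mul, ← K.e_add, add_neg_cancel,
    add_neg_cancel, K.W_zero, show -(a * b) + -(-a * b) = 0 by ring, e_zero, map_one, one_mul]

theorem W_inj {a b a' b' : Z3} {c : Fˣ} (h : K.W a b = sc c * K.W a' b') : a = a' ∧ b = b' := by
  have hz : ∀ z w : Z3, (K.W a b : Matrix Z3 Z3 F) z w = c * (K.W a' b' : Matrix Z3 Z3 F) z w := fun z w => by
    rw [h, val_sc_mul, Matrix.smul_apply, smul_eq_mul]
  have hb : b = b' := by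
    by_contra hne
    have := hz b 0
    rw [W_val, W_val, zero_add, zero_add, if_pos rfl, if_neg hne, mul_zero] at this
    exact (K.e _).ne_zero this
  subst hb
  have h0 := hz 0 (-b)
  have h1 := hz 1 (1 - b)
  rw [W_val, W_val, neg_add_cancel, if_pos rfl, if_pos rfl, mul_zero, mul_zero, eval0, mul_one] at h0
  rw [W_val, W_val, sub_add_cancel, if_pos rfl, if_pos rfl, mul_one, mul_one, ← h0, one_mul] at h1
  exact ⟨K.e_val_inj h1, rfl⟩

theorem det_W (a b : Z3) : (K.W a b : Matrix Z3 Z3 F).det = 1 := by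
  have h : ((K.W a 0 : GL Z3 F) : Matrix Z3 Z3 F).det = 1 := by
    have : ((K.W a 0 : GL Z3 F) : Matrix Z3 Z3 F) = Matrix.diagonal fun z => (K.e (a * z) : F) := by
      ext z w
      rw [W_val, add_zero, Matrix.diagonal_apply]
    have hs : ∑ z : Z3, a * z = 0 := by rcases z3_cases a with rfl | rfl | rfl <;> decide
    have h3 : ∀ f : Z3 → Fˣ, ∏ z, f z = f 0 * f 1 * f 2 := fun f => Fin.prod_univ_three f
    rw [this, Matrix.det_diagonal, ← Units.coe_prod, h3, ← K.e_add, ← K.e_add,
      ← sum_z3 fun z => a * z, hs, e_zero, Units.val_one]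
  have hB : ((K.W 0 b : GL Z3 F) : Matrix Z3 Z3 F).det = 1 := by
    rw [det_z3]
    rcases z3_cases b with rfl | rfl | rfl <;>
      simp +decide [W_val, Root.e]
  have := congrArg (fun g : GL Z3 F => (g : Matrix Z3 Z3 F).det) (K.W_mul a 0 0 b)
  simp only [Units.val_mul, Matrix.det_mul, h, hB, add_zero, zero_add, mul_zero, neg_zero, e_zero, map_one, one_mul]
    at this
  exact this.symm

/-- the involution inverting the Weyl matrices -/
def T : GL Z3 F where
  val := Matrix.of fun z z' => if z = -z' then -1 else 0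
  inv := Matrix.of fun z z' => if z = -z' then -1 else 0
  val_inv := by
    ext z w
    simp only [Matrix.mul_apply, Matrix.of_apply]
    rw [Finset.sum_eq_single (-z)]
    · rw [if_pos (neg_neg z).symm, Matrix.one_apply]
      by_cases h : z = w
      · subst h; simp
      · rw [if_neg (fun e => h (neg_injective e)), if_neg h, mul_zero]
    · intro x _ hx
      rw [if_neg (fun e => hx (by rw [e, neg_neg])), zero_mul]
    · exact fun h => absurd (Finset.mem_univ _) h
  inv_val := by
    ext z w
    simp only [Matrix.mul_apply, Matrix.of_apply]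
    rw [Finset.sum_eq_single (-z)]
    · rw [if_pos (neg_neg z).symm, Matrix.one_apply]
      by_cases h : z = w
      · subst h; simp
      · rw [if_neg (fun e => h (neg_injective e)), if_neg h, mul_zero]
    · intro x _ hx
      rw [if_neg (fun e => hx (by rw [e, neg_neg])), zero_mul]
    · exact fun h => absurd (Finset.mem_univ _) h

theorem T_val (z z' : Z3) : ((T : GL Z3 F) : Matrix Z3 Z3 F) z z' = if z = -z' then -1 else 0 := rfl

/-- the weights of the quadratic phase -/
def ph (z : Z3) : Z3 := if z = 2 then 1 else 0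

/-- the quadratic phase -/
def P : GL Z3 F where
  val := Matrix.diagonal fun z => (K.e (ph z) : F)
  inv := Matrix.diagonal fun z => (K.e (-ph z) : F)
  val_inv := by
    rw [Matrix.diagonal_mul_diagonal, ← Matrix.diagonal_one]
    exact congrArg _ (funext fun z => by rw [← Units.val_mul, ← K.e_add, add_neg_cancel, eval0])
  inv_val := by
    rw [Matrix.diagonal_mul_diagonal, ← Matrix.diagonal_one]
    exact congrArg _ (funext fun z => by rw [← Units.val_mul, ← K.e_add, neg_add_cancel, eval0])

/-- the Fourier matrix of determinant one -/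
noncomputable def Fr : GL Z3 F where
  val := Matrix.of fun z z' => (1 - (K.l : F))⁻¹ * K.e (z * z')
  inv := Matrix.of fun z z' => (3 * (1 - (K.l : F))⁻¹)⁻¹ * K.e (-(z * z'))
  val_inv := by
    have h1 : (1 - (K.l : F)) ≠ 0 := sub_ne_zero.2 K.ne_one.symm
    have h3 := K.three
    ext z w
    simp only [Matrix.mul_apply, Matrix.of_apply]
    rw [sum_z3]
    have e := fun x => show ((1 - (K.l : F))⁻¹ * K.e (z * x)) * ((3 * (1 - (K.l : F))⁻¹)⁻¹ * K.e (-(x * w)))
        = (3 : F)⁻¹ * K.e ((z - w) * x) by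
      rw [show (z - w) * x = z * x + -(x * w) by ring, K.e_add, Units.val_mul]; field_simp
    rw [e, e, e, Matrix.one_apply, mul_zero, mul_one, eval0]
    by_cases h : z = w
    · subst h; rw [sub_self, zero_mul, eval0, if_pos rfl]; field_simp; ring
    rw [if_neg h]
    rcases z3_cases (z - w) with d | d | d
    · exact absurd (sub_eq_zero.1 d) h
    · rw [d, one_mul, eval1, eval2]; linear_combination (3 : F)⁻¹ * K.eqn
    · rw [d, show (2 : Z3) * 2 = 1 by decide, eval1, eval2]; linear_combination (3 : F)⁻¹ * K.eqn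
  inv_val := by
    have h1 : (1 - (K.l : F)) ≠ 0 := sub_ne_zero.2 K.ne_one.symm
    have h3 := K.three
    ext z w
    simp only [Matrix.mul_apply, Matrix.of_apply]
    rw [sum_z3]
    have e := fun x => show ((3 * (1 - (K.l : F))⁻¹)⁻¹ * K.e (-(z * x))) * ((1 - (K.l : F))⁻¹ * K.e (x * w))
        = (3 : F)⁻¹ * K.e ((w - z) * x) by
      rw [show (w - z) * x = x * w + -(z * x) by ring, K.e_add, Units.val_mul]; field_simp
    rw [e, e, e, Matrix.one_apply, mul_zero, mul_one, eval0]
    by_cases h : z = w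
    · subst h; rw [sub_self, zero_mul, eval0, if_pos rfl]; field_simp; ring
    rw [if_neg h]
    rcases z3_cases (w - z) with d | d | d
    · exact absurd (sub_eq_zero.1 d).symm h
    · rw [d, one_mul, eval1, eval2]; linear_combination (3 : F)⁻¹ * K.eqn
    · rw [d, show (2 : Z3) * 2 = 1 by decide, eval1, eval2]; linear_combination (3 : F)⁻¹ * K.eqn

theorem Fr_val (z z' : Z3) : (K.Fr : Matrix Z3 Z3 F) z z' = (1 - (K.l : F))⁻¹ * K.e (z * z') := rfl

theorem det_T : ((T : GL Z3 F) : Matrix Z3 Z3 F).det = 1 := by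
  simp +decide [det_z3, T_val]

theorem det_P : (K.P : Matrix Z3 Z3 F).det = K.l := by
  show (Matrix.diagonal fun z => (K.e (ph z) : F)).det = _
  rw [Matrix.det_diagonal, show ∏ z : Z3, ((K.e (ph z) : F)) = (K.e (ph 0) : F) * K.e (ph 1) * K.e (ph 2) from
    Fin.prod_univ_three fun z : Fin 3 => (K.e (ph z) : F)]
  simp +decide [ph, Root.e, ZMod.val_one]

theorem det_Fr : (K.Fr : Matrix Z3 Z3 F).det = 1 := by
  have h1 : (1 - (K.l : F)) ≠ 0 := sub_ne_zero.2 K.ne_one.symm
  rw [det_z3]
  simp only [Fr_val, mul_zero, zero_mul, mul_one, one_mul, show ((2 : Z3) * 2) = 1 by decide, eval0, eval1, eval2]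
  field_simp
  linear_combination (((K.l : F) - 1) - (K.l : F) * ((K.l : F) - 1)) * K.eqn

theorem T_conj (a b : Z3) : T * K.W a b * (T : GL Z3 F)⁻¹ = K.W (-a) (-b) := by
  rw [mul_inv_eq_iff_eq_mul]
  refine Units.ext ?_
  ext z w
  rw [Units.val_mul, Units.val_mul, Matrix.mul_apply, Matrix.mul_apply, Finset.sum_eq_single (-z),
    Finset.sum_eq_single (z + b)]
  · rw [T_val, T_val, W_val, W_val, if_pos (neg_neg z).symm, if_pos (add_neg_cancel_right z b).symm,
      show -a * z = a * -z by ring]
    by_cases h : -z = w + b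
    · rw [if_pos h, if_pos (by linear_combination -h), mul_comm]
    · rw [if_neg h, if_neg (fun e => h (by linear_combination -e)), mul_zero, mul_zero]
  · intro x _ hx
    rw [W_val, if_neg (fun e => hx (by linear_combination -e)), zero_mul]
  · exact fun h => absurd (Finset.mem_univ _) h
  · intro x _ hx
    rw [T_val, if_neg (fun e => hx (by rw [e, neg_neg])), zero_mul]
  · exact fun h => absurd (Finset.mem_univ _) h

theorem ph_diff : ∀ z b : Z3, ph z - ph (z - b) = b * z + (ph 0 - ph (-b)) := by decide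

theorem P_conj (a b : Z3) : K.P * K.W a b * K.P⁻¹ = sc (K.e (ph 0 - ph (-b))) * K.W (a + b) b := by
  rw [mul_inv_eq_iff_eq_mul]
  refine Units.ext ?_
  rw [Units.val_mul (sc _ * _), val_sc_mul, Units.val_mul, Matrix.smul_mul]
  ext z w
  simp only [P, Matrix.diagonal_mul, Matrix.smul_apply, Matrix.mul_diagonal, smul_eq_mul, W_val]
  by_cases h : z = w + b
  · rw [if_pos h, if_pos h, ← Units.val_mul, ← Units.val_mul, ← Units.val_mul, ← K.e_add, ← K.e_add, ← K.e_add]
    congr 2
    have := ph_diff z b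
    rw [show z - b = w by rw [h, add_sub_cancel_right]] at this
    linear_combination this
  · rw [if_neg h, if_neg h, mul_zero, zero_mul, mul_zero]

theorem Fr_conj (a b : Z3) : K.Fr * K.W a b * K.Fr⁻¹ = sc (K.e (a * b)) * K.W b (-a) := by
  rw [mul_inv_eq_iff_eq_mul]
  refine Units.ext ?_
  rw [Units.val_mul (sc _ * _), val_sc_mul, Units.val_mul, Matrix.smul_mul]
  ext z w
  rw [Matrix.smul_apply, Matrix.mul_apply, Matrix.mul_apply, Finset.sum_eq_single (w + b),
    Finset.sum_eq_single (z + a), smul_eq_mul]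
  · rw [W_val, W_val, Fr_val, Fr_val, if_pos rfl, if_pos (add_neg_cancel_right z a).symm,
      show z * (w + b) = z * w + z * b by ring, show a * (w + b) = a * w + a * b by ring,
      show (z + a) * w = z * w + a * w by ring, K.e_add (z * w), K.e_add (a * w), K.e_add (z * w) (a * w),
      show b * z = z * b by ring]
    push_cast
    ring
  · intro x _ hx
    rw [W_val, if_neg (fun e => hx (by linear_combination -e)), zero_mul]
  · exact fun h => absurd (Finset.mem_univ _) h
  · intro x _ hx
    rw [W_val, if_neg hx, mul_zero]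
  · exact fun h => absurd (Finset.mem_univ _) h

/-- normalising the Weyl matrices up to scalars -/
def Nor (k : GL Z3 F) : Prop := ∀ a b, ∃ (c : Fˣ) (a' b' : Z3), k * K.W a b * k⁻¹ = sc c * K.W a' b'

theorem nor_W (a b : Z3) : K.Nor (K.W a b) := fun a' b' => ⟨_, _, _, K.W_conj a b a' b'⟩
theorem nor_T : K.Nor T := fun a b => ⟨1, _, _, by rw [map_one, one_mul]; exact K.T_conj a b⟩
theorem nor_P : K.Nor K.P := fun a b => ⟨_, _, _, K.P_conj a b⟩
theorem nor_Fr : K.Nor K.Fr := fun a b => ⟨_, _, _, K.Fr_conj a b⟩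

theorem nor_mul {k k' : GL Z3 F} (h : K.Nor k) (h' : K.Nor k') : K.Nor (k * k') := fun a b => by
  obtain ⟨c, a1, b1, e1⟩ := h' a b
  obtain ⟨d, a2, b2, e2⟩ := h a1 b1
  refine ⟨c * d, a2, b2, ?_⟩
  rw [map_mul, mul_assoc (sc c), ← e2, ← conj_sc_mul, ← e1]
  group

theorem nor_sc (c : Fˣ) : K.Nor (sc c) := fun a b => ⟨1, a, b, by rw [sc_comm, mul_inv_cancel_right, map_one, one_mul]⟩

/-- an element centralising the Weyl matrices up to scalars is a scaled Weyl matrix -/
theorem centr {k : GL Z3 F} {c d : Fˣ} (hA : k * K.W 1 0 * k⁻¹ = sc c * K.W 1 0)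
    (hB : k * K.W 0 1 * k⁻¹ = sc d * K.W 0 1) : ∃ (u : Fˣ) (a b : Z3), k = sc u * K.W a b := by
  rw [mul_inv_eq_iff_eq_mul] at hA hB
  have eA : ∀ z w, (k : Matrix Z3 Z3 F) z w * K.e w = (c : F) * (K.e z * (k : Matrix Z3 Z3 F) z w) := fun z w => by
    have h := congrArg (fun g : GL Z3 F => (g : Matrix Z3 Z3 F) z w) hA
    rw [Units.val_mul, Units.val_mul, val_sc_mul, Matrix.smul_mul] at h
    simp only [Matrix.smul_apply, smul_eq_mul,
      Matrix.mul_apply] at h
    rw [Finset.sum_eq_single w (fun x _ hx => by rw [W_val, if_neg (by simpa using hx), mul_zero]) (by simp),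
      Finset.sum_eq_single z (fun x _ hx => by rw [W_val, if_neg (by simpa using Ne.symm hx), zero_mul]) (by simp),
      W_val, W_val, if_pos (add_zero w).symm, if_pos (add_zero z).symm, one_mul, one_mul] at h
    exact h
  have eB : ∀ z w, (k : Matrix Z3 Z3 F) z (w + 1) = (d : F) * (k : Matrix Z3 Z3 F) (z - 1) w := fun z w => by
    have h := congrArg (fun g : GL Z3 F => (g : Matrix Z3 Z3 F) z w) hB
    rw [Units.val_mul, Units.val_mul, val_sc_mul, Matrix.smul_mul] at h
    simp only [Matrix.smul_apply, smul_eq_mul,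
      Matrix.mul_apply] at h
    rw [Finset.sum_eq_single (w + 1) (fun x _ hx => by rw [W_val, if_neg hx, mul_zero]) (by simp),
      Finset.sum_eq_single (z - 1) (fun x _ hx => by
        rw [W_val, if_neg (fun e => hx (by rw [e, add_sub_cancel_right])), zero_mul]) (by simp),
      W_val, W_val, if_pos rfl, if_pos (sub_add_cancel z 1).symm, zero_mul, zero_mul, eval0, mul_one, one_mul] at h
    exact h
  obtain ⟨z0, w0, h0⟩ : ∃ z w, (k : Matrix Z3 Z3 F) z w ≠ 0 := by
    by_contra h
    push Not at h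
    have h1 := congrArg (fun g : Matrix Z3 Z3 F => g 0 0) k.mul_inv
    simp [Matrix.mul_apply, h] at h1
  -- the entries move along a diagonal
  have hd : ∀ z w, (k : Matrix Z3 Z3 F) (z + 1) (w + 1) = (d : F) * (k : Matrix Z3 Z3 F) z w := fun z w => by
    simpa using eB (z + 1) w
  have hstep : ∀ n : ℕ, (k : Matrix Z3 Z3 F) (z0 + (n : Z3)) (w0 + (n : Z3)) = (d : F) ^ n * (k : Matrix Z3 Z3 F) z0 w0 := by
    intro n
    induction n with
    | zero => simp
    | succ n ih => rw [Nat.cast_succ, ← add_assoc, ← add_assoc, hd, ih, pow_succ]; ring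
  have hd3 : (d : F) ^ 3 = 1 := mul_right_cancel₀ h0 (by
    rw [← hstep 3, show ((3 : ℕ) : Z3) = 0 from rfl, add_zero, add_zero, one_mul])
  obtain ⟨r, hr⟩ := K.exists_e hd3
  set b := z0 - w0 with hb
  have hzero : ∀ z w, z ≠ w + b → (k : Matrix Z3 Z3 F) z w = 0 := by
    intro z w hne
    by_contra hzw
    have h1 : (K.e w : F) = c * K.e z := mul_left_cancel₀ hzw (by rw [eA z w]; ring)
    have h2 : (K.e w0 : F) = c * K.e z0 := mul_left_cancel₀ h0 (by rw [eA z0 w0]; ring)
    refine hne (eq_comm.1 ?_)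
    have h3 : (K.e (w + z0) : F) = K.e (w0 + z) := by
      rw [K.e_add, K.e_add, Units.val_mul, Units.val_mul, h1, h2]; ring
    linear_combination K.e_val_inj h3
  refine ⟨Units.mk0 ((k : Matrix Z3 Z3 F) z0 w0) h0 * (K.e (r * z0))⁻¹, r, b, Units.ext ?_⟩
  rw [val_sc_mul]
  ext z w
  rw [Matrix.smul_apply, W_val, smul_eq_mul]
  split_ifs with h
  · have hn : (((z - z0).val : ℕ) : Z3) = z - z0 := ZMod.natCast_zmod_val _
    have := hstep (z - z0).val
    rw [hn, add_sub_cancel, show w0 + (z - z0) = w by rw [h, hb]; ring, hr, ← Units.val_pow_eq_pow_val] at this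
    rw [this, Units.val_mul, Units.val_mk0, show r * z = r * z0 + r * ((z - z0).val : ℕ) by rw [hn]; ring, K.e_add,
      show K.e r ^ (z - z0).val = K.e (r * ((z - z0).val : ℕ)) by
        generalize (z - z0).val = n
        induction n with
        | zero => simp [e_zero]
        | succ n ih => rw [pow_succ, ih, ← K.e_add, Nat.cast_succ]; congr 1; ring]
    push_cast
    field_simp
  · rw [mul_zero, hzero z w h]

end Root

end Cfsg.Agent.ClassicalMax.SympThree
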